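import Groth.Agent.LocCohLib.Basic
import Mathlib.RingTheory.LocalProperties.Injective
import Mathlib.Algebra.Module.LocalizedModule.Exact
import Mathlib.Algebra.Category.ModuleCat.EnoughInjectives

/-!
# Dimension shifting and localised short exact sequences
-/

set_option autoImplicit false

universe u

open CategoryTheory CategoryTheory.Limits

namespace Groth.Agent.LocCohLib

variable {R : Type u} [CommRing R] {I : Ideal R}

/-- A short exact sequence `0 → M → J → N → 0` with `J` injective. -/
noncomputable def injSeq (M : ModuleCat.{u} R) : ShortComplex (ModuleCat.{u} R) :=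
  ShortComplex.mk (Injective.ι M) (cokernel.π (Injective.ι M)) (cokernel.condition _)

theorem injSeq_shortExact (M : ModuleCat.{u} R) : (injSeq M).ShortExact where
  exact := ShortComplex.exact_cokernel _
  mono_f := inferInstanceAs (Mono (Injective.ι M))
  epi_g := inferInstanceAs (Epi (cokernel.π (Injective.ι M)))

instance (M : ModuleCat.{u} R) : Injective (injSeq M).X₂ :=
  inferInstanceAs (Injective (Injective.under M))

variable {S : ShortComplex (ModuleCat.{u} R)} (hS : S.ShortExact)

theorem δ_surjective [Injective S.X₂] (i : ℕ) : Function.Surjective (δ hS I i) := fun w =>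
  exact₁ hS w (Subsingleton.elim (h := subsingleton_of_injective i) _ _)

theorem δ_injective [Injective S.X₂] (i : ℕ) : Function.Injective (δ hS I (i + 1)) := by
  rw [injective_iff_map_eq_zero]
  intro w hw
  obtain ⟨v, rfl⟩ := exact₃ hS w hw
  rw [(subsingleton_of_injective (I := I) (M := S.X₂) i).elim v 0]
  exact map_zero _

theorem δ_eq_zero_iff (i : ℕ) (w : (localCohomology I i).obj S.X₃) :
    δ hS I i w = 0 ↔ ∃ v, (localCohomology I i).map S.g v = w :=
  ⟨exact₃ hS w, fun ⟨v, hv⟩ => hv ▸ δ_map_eq_zero hS v⟩

/-! ### Localisation -/

variable (p : Submonoid R)

/-- Localisation of a short complex of modules. -/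
noncomputable def locSeq (S : ShortComplex (ModuleCat.{u} R)) :
    ShortComplex (ModuleCat.{u} (Localization p)) :=
  ShortComplex.mk (ModuleCat.ofHom (LocalizedModule.map p S.f.hom))
    (ModuleCat.ofHom (LocalizedModule.map p S.g.hom)) (by
      refine ModuleCat.hom_ext (LinearMap.ext fun x => ?_)
      induction x using LocalizedModule.induction_on with
      | h m s =>
        show LocalizedModule.map p S.g.hom (LocalizedModule.map p S.f.hom (LocalizedModule.mk m s)) = 0
        rw [LocalizedModule.map_mk, LocalizedModule.map_mk,
          show S.g.hom (S.f.hom m) = 0 from S.moduleCat_zero_apply m, LocalizedModule.zero_mk])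

include hS in
theorem locSeq_shortExact : (locSeq p S).ShortExact where
  exact := (ShortComplex.ShortExact.moduleCat_exact_iff_function_exact _).2
    (LocalizedModule.map_exact p _ _
      ((ShortComplex.ShortExact.moduleCat_exact_iff_function_exact _).1 hS.exact))
  mono_f := (ModuleCat.mono_iff_injective _).2
    (LocalizedModule.map_injective p _ ((ModuleCat.mono_iff_injective _).1 hS.mono_f))
  epi_g := (ModuleCat.epi_iff_surjective _).2
    (LocalizedModule.map_surjective p _ ((ModuleCat.epi_iff_surjective _).1 hS.epi_g))

/-- A localisation of an injective module over a Noetherian ring is injective. -/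
theorem injective_localized [IsNoetherianRing R] (J : ModuleCat.{u} R) [Injective J] :
    Injective (ModuleCat.of (Localization p) (LocalizedModule p J)) := by
  haveI : Module.Injective R J := Module.injective_module_of_injective_object R J
  haveI : Module.Injective (Localization p) (LocalizedModule p J) :=
    Module.injective_of_isLocalizedModule p (LocalizedModule.mkLinearMap p J)
  exact Module.injective_object_of_injective_module (Localization p) (LocalizedModule p J)

end Groth.Agent.LocCohLib
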