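import Groth.Agent.LocCohLib.Torsion
import Groth.Agent.LocCohLib.Shift
import Groth.Agent.DepthLib.Ext
import Mathlib.RingTheory.Regular.LinearMap

/-!
# Vanishing of local cohomology below a degree and vanishing of `Ext`
-/

set_option autoImplicit false
set_option linter.style.haveILetI false

universe u

open CategoryTheory CategoryTheory.Limits
open CategoryTheory.Abelian (Ext)

namespace Groth.Agent.LocCohLib

variable {R : Type u} [CommRing R] {J : Ideal R}

theorem subsingleton_h0_iff (G : ModuleCat.{u} R) :
    Subsingleton ((localCohomology J 0).obj G) ↔ DRing.torsionSub J G = ⊥ := by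
  rw [← Submodule.subsingleton_iff_eq_bot]
  exact (h0Equiv J G).toEquiv.subsingleton_congr

variable [IsNoetherianRing R]

theorem torsionSub_eq_bot_of_ext {G : ModuleCat.{u} R} (F : ModuleCat.{u} R) [Module.Finite R F]
    (hF : PrimeSpectrum.zeroLocus (J : Set R) ⊆ Module.support R F)
    (h : Subsingleton (Ext F G 0)) : DRing.torsionSub J G = ⊥ := by
  by_contra hne
  haveI : Nontrivial (DRing.torsionSub J G) := Submodule.nontrivial_iff_ne_bot.2 hne
  obtain ⟨p, hp⟩ := associatedPrimes.nonempty R (DRing.torsionSub J G)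
  obtain ⟨hprime, f, hf⟩ := (isAssociatedPrime_iff_exists_injective_linearMap p _).1 hp
  haveI := hprime
  have hJ : J ≤ p := fun a ha => by
    obtain ⟨k, hk⟩ := (f (Submodule.Quotient.mk 1)).2
    refine hprime.mem_of_pow_mem k ((Submodule.Quotient.mk_eq_zero p).1 (hf ?_))
    rw [map_zero, show (Submodule.Quotient.mk (a ^ k) : R ⧸ p) = a ^ k • Submodule.Quotient.mk 1 by
      rw [← Submodule.Quotient.mk_smul, smul_eq_mul, mul_one], map_smul]
    exact Subtype.ext (hk _ (Ideal.pow_mem_pow ha k))
  have hsub : Subsingleton (F →ₗ[R] R ⧸ p) := by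
    refine subsingleton_of_forall_eq 0 fun φ => ?_
    haveI : Subsingleton (F ⟶ G) := Ext.addEquiv₀.symm.toEquiv.subsingleton
    have h0 : ModuleCat.ofHom ((DRing.torsionSub J G).subtype ∘ₗ f ∘ₗ φ) = (0 : F ⟶ G) :=
      Subsingleton.elim _ _
    exact LinearMap.ext fun x =>
      hf ((Subtype.ext (LinearMap.congr_fun (congrArg ModuleCat.Hom.hom h0) x)).trans (map_zero f).symm)
  obtain ⟨r, hr, hreg⟩ := IsSMulRegular.subsingleton_linearMap_iff.1 hsub
  have hrp : r ∈ p := by
    have := hF (show (⟨p, hprime⟩ : PrimeSpectrum R) ∈ PrimeSpectrum.zeroLocus (J : Set R) from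
      (PrimeSpectrum.mem_zeroLocus _ _).2 hJ)
    rw [Module.support_eq_zeroLocus] at this
    exact this hr
  have h1 : r • (Submodule.Quotient.mk 1 : R ⧸ p) = r • 0 := by
    rw [smul_zero, ← Submodule.Quotient.mk_smul, smul_eq_mul, mul_one]
    exact (Submodule.Quotient.mk_eq_zero p).2 hrp
  exact hprime.ne_top ((Ideal.eq_top_iff_one p).2 ((Submodule.Quotient.mk_eq_zero p).1 (hreg h1)))

theorem subsingleton_ext_zero {G : ModuleCat.{u} R} (hG : DRing.torsionSub J G = ⊥)
    (F : ModuleCat.{u} R) [Module.Finite R F]
    (hF : Module.support R F ⊆ PrimeSpectrum.zeroLocus (J : Set R)) : Subsingleton (Ext F G 0) := by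
  rw [Module.support_eq_zeroLocus, PrimeSpectrum.zeroLocus_subset_zeroLocus_iff] at hF
  obtain ⟨k, hk⟩ := Ideal.exists_pow_le_of_le_radical_of_fg hF (IsNoetherian.noetherian J)
  have : Subsingleton (F ⟶ G) := by
    refine subsingleton_of_forall_eq 0 fun φ => ModuleCat.hom_ext (LinearMap.ext fun x => ?_)
    have : φ.hom x ∈ DRing.torsionSub J G := ⟨k, fun a ha => by
      rw [← map_smul, Module.mem_annihilator.1 (hk ha) x, map_zero]⟩
    rw [hG] at this
    exact (Submodule.mem_bot R).1 this
  exact Ext.addEquiv₀.toEquiv.subsingleton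

/-- A torsion-free module embeds in a torsion-free injective. -/
theorem exists_torsionFree_seq {G : ModuleCat.{u} R} (hG : DRing.torsionSub J G = ⊥) :
    ∃ (E : ModuleCat.{u} R) (ι : G ⟶ E), Injective E ∧ Mono ι ∧ DRing.torsionSub J E = ⊥ := by
  let U : ModuleCat.{u} R := Injective.under G
  haveI : Injective U := inferInstanceAs (Injective (Injective.under G))
  haveI : Injective (ModuleCat.of R U) := (inferInstance : Injective U)
  haveI : Module.Injective R U := Module.injective_module_of_injective_object R _
  let T := DRing.torsionSub J U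
  haveI : Module.Injective R T := injective_torsionSub U J
  obtain ⟨r, hr⟩ := Module.Injective.out (R := R) (Q := T) T.subtype T.injective_subtype LinearMap.id
  let P : U →ₗ[R] LinearMap.ker r := (LinearMap.id - T.subtype ∘ₗ r).codRestrict _ fun x => by
    rw [LinearMap.mem_ker, LinearMap.sub_apply, map_sub, LinearMap.comp_apply, hr (r x)]
    exact sub_self _
  have hPs : ∀ y : LinearMap.ker r, P y.1 = y := fun y => Subtype.ext (by
    show y.1 - T.subtype (r y.1) = y.1
    rw [LinearMap.mem_ker.1 y.2, map_zero, sub_zero])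
  let ρ : Retract (ModuleCat.of R (LinearMap.ker r)) U :=
    { i := ModuleCat.ofHom (LinearMap.ker r).subtype
      r := ModuleCat.ofHom P
      retract := ModuleCat.hom_ext (LinearMap.ext hPs) }
  haveI : Injective (ModuleCat.of R (LinearMap.ker r)) := ρ.injective
  refine ⟨ModuleCat.of R (LinearMap.ker r), ModuleCat.ofHom (P ∘ₗ (Injective.ι G).hom), inferInstance,
    ?_, ?_⟩
  · rw [ModuleCat.mono_iff_injective, injective_iff_map_eq_zero]
    intro x hx
    have h1 : (Injective.ι G).hom x - T.subtype (r ((Injective.ι G).hom x)) = 0 := congrArg Subtype.val hx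
    obtain ⟨k, hk⟩ := (r ((Injective.ι G).hom x)).2
    have hinj : Function.Injective (Injective.ι G).hom :=
      (ModuleCat.mono_iff_injective (Injective.ι G)).1 inferInstance
    have : x ∈ DRing.torsionSub J G := ⟨k, fun a ha => hinj (by
      rw [map_smul, sub_eq_zero.1 h1, map_zero]; exact hk a ha)⟩
    rw [hG] at this
    exact (Submodule.mem_bot R).1 this
  · refine (Submodule.eq_bot_iff _).2 fun y ⟨k, hk⟩ => ?_
    have hy : (y.1 : U) ∈ T := ⟨k, fun a ha => congrArg Subtype.val (hk a ha)⟩
    have h1 : r y.1 = ⟨y.1, hy⟩ := hr ⟨y.1, hy⟩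
    rw [LinearMap.mem_ker.1 y.2] at h1
    exact Subtype.ext (congrArg Subtype.val h1).symm

/-- Vanishing of local cohomology below `n` gives vanishing of `Ext` below `n`. -/
theorem subsingleton_ext_of_vanishing : ∀ (n : ℕ) (G : ModuleCat.{u} R),
    (∀ i, i < n → Subsingleton ((localCohomology J i).obj G)) →
    ∀ (F : ModuleCat.{u} R) [Module.Finite R F],
      Module.support R F ⊆ PrimeSpectrum.zeroLocus (J : Set R) →
      ∀ i, i < n → Subsingleton (Ext F G i) := by
  intro n
  induction n with
  | zero => exact fun G _ F _ _ i hi => absurd hi (Nat.not_lt_zero i)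
  | succ n ih =>
    intro G hG F _ hF i hi
    have hG0 := (subsingleton_h0_iff G).1 (hG 0 (Nat.succ_pos n))
    cases i with
    | zero => exact subsingleton_ext_zero hG0 F hF
    | succ i =>
      obtain ⟨E, ι, hE, hι, hE0⟩ := exists_torsionFree_seq hG0
      let S : ShortComplex (ModuleCat.{u} R) := ShortComplex.mk ι (cokernel.π ι) (cokernel.condition ι)
      have hS : S.ShortExact :=
        { exact := ShortComplex.exact_cokernel ι
          mono_f := hι
          epi_g := inferInstanceAs (Epi (cokernel.π ι)) }
      haveI : Injective S.X₂ := hE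
      have hQ : ∀ j, j < n → Subsingleton ((localCohomology J j).obj S.X₃) := fun j hj => by
        refine subsingleton_of_forall_eq 0 fun w => ?_
        obtain ⟨v, rfl⟩ := exact₃ hS w ((hG (j + 1) (by omega)).elim _ _)
        haveI : Subsingleton ((localCohomology J j).obj S.X₂) := by
          cases j with
          | zero => exact (subsingleton_h0_iff E).2 hE0
          | succ k => exact subsingleton_of_injective (M := S.X₂) k
        rw [Subsingleton.elim v 0, map_zero]
      haveI := ih S.X₃ hQ F hF i (by omega)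
      refine subsingleton_of_forall_eq 0 fun x => ?_
      obtain ⟨y, rfl⟩ := Ext.covariant_sequence_exact₁ _ hS x (Ext.eq_zero_of_injective _) rfl
      rw [Subsingleton.elim y 0, Ext.zero_comp]

/-- Vanishing of `Ext` below `n` for one `F` with support `V(J)` gives that of local cohomology. -/
theorem subsingleton_of_ext_vanishing : ∀ (n : ℕ) (G : ModuleCat.{u} R) (F : ModuleCat.{u} R)
    [Module.Finite R F], Module.support R F = PrimeSpectrum.zeroLocus (J : Set R) →
    (∀ i, i < n → Subsingleton (Ext F G i)) →
    ∀ i, i < n → Subsingleton ((localCohomology J i).obj G) := by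
  intro n
  induction n with
  | zero => exact fun G F _ _ _ i hi => absurd hi (Nat.not_lt_zero i)
  | succ n ih =>
    intro G F _ hF hG i hi
    have hG0 := torsionSub_eq_bot_of_ext (G := G) F hF.symm.subset (hG 0 (Nat.succ_pos n))
    cases i with
    | zero => exact (subsingleton_h0_iff G).2 hG0
    | succ i =>
      obtain ⟨E, ι, hE, hι, hE0⟩ := exists_torsionFree_seq hG0
      let S : ShortComplex (ModuleCat.{u} R) := ShortComplex.mk ι (cokernel.π ι) (cokernel.condition ι)
      have hS : S.ShortExact :=
        { exact := ShortComplex.exact_cokernel ι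
          mono_f := hι
          epi_g := inferInstanceAs (Epi (cokernel.π ι)) }
      haveI : Injective S.X₂ := hE
      have hQ : ∀ j, j < n → Subsingleton (Ext F S.X₃ j) := fun j hj => by
        refine subsingleton_of_forall_eq 0 fun w => ?_
        haveI := hG (j + 1) (by omega)
        obtain ⟨v, rfl⟩ := Ext.covariant_sequence_exact₃ _ hS w rfl (Subsingleton.elim _ _)
        haveI : Subsingleton (Ext F S.X₂ j) := by
          cases j with
          | zero => exact subsingleton_ext_zero hE0 F hF.subset
          | succ k => exact subsingleton_of_forall_eq 0 fun e => Ext.eq_zero_of_injective e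
        rw [Subsingleton.elim v 0, Ext.zero_comp]
      have := ih S.X₃ F hF hQ i (by omega)
      exact (δ_surjective (I := J) hS i).subsingleton

theorem support_quotient (J : Ideal R) :
    Module.support R (R ⧸ J) = PrimeSpectrum.zeroLocus (J : Set R) := by
  rw [Module.support_eq_zeroLocus, Ideal.annihilator_quotient]

/-- `n ≤ depth_J M` iff `H^i_J(M) = 0` for `i < n`. -/
theorem natCast_le_idealDepth_iff_vanishing (J : Ideal R) (M : Type u) [AddCommGroup M] [Module R M]
    [Module.Finite R M] (n : ℕ) : (n : ℕ∞) ≤ LocCoh.idealDepth J M ↔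
      ∀ i, i < n → Subsingleton ((localCohomology J i).obj (ModuleCat.of R M)) := by
  haveI : Module.Finite R (ModuleCat.of R (R ⧸ J)) := inferInstanceAs (Module.Finite R (R ⧸ J))
  rw [DepthLib.natCast_le_idealDepth_iff_ext]
  exact ⟨subsingleton_of_ext_vanishing n _ (ModuleCat.of R (R ⧸ J)) (support_quotient J),
    fun h => subsingleton_ext_of_vanishing n _ h (ModuleCat.of R (R ⧸ J)) (support_quotient J).subset⟩

theorem smul_eq_zero_of_smul_eq_zero {M : ModuleCat.{u} R} {s : R} (hs : ∀ m : M, s • m = 0) (i : ℕ)
    (z : (localCohomology J i).obj M) : s • z = 0 := by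
  obtain ⟨n, x, rfl⟩ := exists_cl z
  have e1 : s • x = x.comp (Ext.mk₀ (s • 𝟙 M)) (add_zero i) := by simp [Ext.mk₀_smul]
  rw [← map_smul, e1, show s • 𝟙 M = 0 from ModuleCat.hom_ext (LinearMap.ext fun m => hs m),
    Ext.mk₀_zero, Ext.comp_zero, map_zero]

end Groth.Agent.LocCohLib
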