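import Groth.Agent.LocCohLib.Vanishing

/-!
# `H^i_a(M_b) = H^i_a(M)_b`; `H^1_{(b)}(M) = M_b / M`
-/

set_option autoImplicit false
set_option linter.style.haveILetI false

universe u

open CategoryTheory CategoryTheory.Limits
open CategoryTheory.Abelian (Ext)

namespace Groth.Agent.LocCohLib

variable {R : Type u} [CommRing R]

theorem map_smul_id {I : Ideal R} {i : ℕ} {M : ModuleCat.{u} R} (r : R)
    (z : (localCohomology I i).obj M) : (localCohomology I i).map (r • 𝟙 M) z = r • z := by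
  obtain ⟨n, x, rfl⟩ := exists_cl z
  rw [map_cl, Ext.mk₀_smul, Ext.comp_smul, Ext.comp_mk₀_id, map_smul]

variable [IsNoetherianRing R] (a : Ideal R) (b : R) (M : ModuleCat.{u} R) (i : ℕ)

theorem bijective_smul_loc (n : ℕ) :
    Function.Bijective fun z : (localCohomology a i).obj ((locFun b).obj M) => b ^ n • z := by
  have hb : Function.Bijective fun y : LocalizedModule (Submonoid.powers b) M => b ^ n • y := by
    have h := IsLocalizedModule.map_units
      (LocalizedModule.mkLinearMap (Submonoid.powers b) M) (⟨b ^ n, n, rfl⟩ : Submonoid.powers b)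
    rw [Module.End.isUnit_iff] at h
    exact h
  haveI : IsIso ((b ^ n) • 𝟙 ((locFun b).obj M)) := (ConcreteCategory.isIso_iff_bijective _).2 hb
  have h := ConcreteCategory.bijective_of_isIso
    ((localCohomology a i).map ((b ^ n) • 𝟙 ((locFun b).obj M)))
  convert h using 1
  funext z
  exact (map_smul_id _ z).symm

/-- `H^i_a(M) → H^i_a(M_b)` is the localisation at `b`. -/
theorem isLocalizedModule_map :
    IsLocalizedModule (Submonoid.powers b) ((localCohomology a i).map ((toLoc b).app M)).hom where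
  map_units := by
    rintro ⟨_, n, rfl⟩
    rw [Module.End.isUnit_iff]
    exact bijective_smul_loc a b M i n
  surj := fun y => by
    obtain ⟨n, hn⟩ := isPowerTorsion_H (I := a ⊔ Ideal.span {b}) (i + 1) M (locδ a b M i y)
    have h : locδ a b M i (b ^ n • y) = 0 := by
      rw [map_smul]
      exact hn _ (Ideal.pow_mem_pow (le_sup_right (α := Ideal R) (Ideal.mem_span_singleton_self b)) n)
    obtain ⟨x, hx⟩ := ((loc_exact₃ a b M i) _).1 h
    exact ⟨⟨x, ⟨b ^ n, n, rfl⟩⟩, hx.symm⟩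
  exists_of_eq := fun {x₁ x₂} h => by
    have h0 : ((localCohomology a i).map ((toLoc b).app M)).hom (x₁ - x₂) = 0 := by
      rw [map_sub, h, sub_self]
    obtain ⟨w, hw⟩ := ((loc_exact₂ a b M i) _).1 h0
    obtain ⟨n, hn⟩ := isPowerTorsion_H (I := a ⊔ Ideal.span {b}) i M w
    refine ⟨⟨b ^ n, n, rfl⟩, ?_⟩
    rw [← sub_eq_zero, ← smul_sub, ← hw]
    show b ^ n • ((Dual2.HmapOfLE _ i).app M).hom w = 0
    rw [← map_smul, hn _ (Ideal.pow_mem_pow (le_sup_right (α := Ideal R)
      (Ideal.mem_span_singleton_self b)) n), map_zero]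

/-- The cokernel of localisation is the kernel of the comparison map. -/
noncomputable def cokerLocEquiv :
    ((localCohomology a i).obj ((locFun b).obj M) ⧸
      LinearMap.range ((localCohomology a i).map ((toLoc b).app M)).hom) ≃ₗ[R]
    LinearMap.ker ((Dual2.HmapOfLE (le_sup_left : a ≤ a ⊔ Ideal.span {b}) (i + 1)).app M).hom :=
  Submodule.quotEquivOfEq _ (LinearMap.ker (locδ a b M i))
      (LinearMap.exact_iff.1 (loc_exact₃ a b M i)).symm ≪≫ₗ
    (locδ a b M i).quotKerEquivRange ≪≫ₗ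
    LinearEquiv.ofEq _ _ (LinearMap.exact_iff.1 (loc_exact₁ a b M i)).symm

theorem mem_range_hmap_iff (x : (localCohomology a i).obj M) :
    x ∈ LinearMap.range ((Dual2.HmapOfLE (le_sup_left : a ≤ a ⊔ Ideal.span {b}) i).app M).hom ↔
      ∃ n : ℕ, b ^ n • x = 0 := by
  haveI := isLocalizedModule_map a b M i
  rw [← LinearMap.exact_iff.1 (loc_exact₂ a b M i), LinearMap.mem_ker,
    IsLocalizedModule.eq_zero_iff (Submonoid.powers b)]
  exact ⟨fun ⟨⟨_, n, hn⟩, h⟩ => ⟨n, by subst hn; exact h⟩, fun ⟨n, h⟩ => ⟨⟨_, n, rfl⟩, h⟩⟩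

/-- `H^1_{(b)}(M) = coker (M → M_b)`. -/
theorem nonempty_h1SpanEquiv :
    Nonempty ((LocalizedModule (Submonoid.powers b) M ⧸
      LinearMap.range (LocalizedModule.mkLinearMap (Submonoid.powers b) M)) ≃ₗ[R]
      (localCohomology (Ideal.span {b}) 1).obj M) := by
  have htop : ∀ N : ModuleCat.{u} R, DRing.torsionSub (⊥ : Ideal R) N = ⊤ := fun N =>
    eq_top_iff.2 fun x _ => ⟨1, fun c hc => by
      rw [pow_one, Ideal.mem_bot] at hc
      rw [hc, zero_smul]⟩
  let e₀ : ∀ N : ModuleCat.{u} R, (localCohomology (⊥ : Ideal R) 0).obj N ≃ₗ[R] N := fun N =>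
    h0Equiv ⊥ N ≪≫ₗ LinearEquiv.ofTop _ (htop N)
  have hsq : ∀ z, e₀ ((locFun b).obj M) ((localCohomology (⊥ : Ideal R) 0).map ((toLoc b).app M) z) =
      LocalizedModule.mkLinearMap (Submonoid.powers b) M (e₀ M z) := fun z => h0_map _ z
  let el : (localCohomology (⊥ : Ideal R) 0).obj ((locFun b).obj M) ≃ₗ[R]
      LocalizedModule (Submonoid.powers b) M := e₀ ((locFun b).obj M)
  have hr : Submodule.map el.toLinearMap
      (LinearMap.range ((localCohomology (⊥ : Ideal R) 0).map ((toLoc b).app M)).hom) =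
      LinearMap.range (LocalizedModule.mkLinearMap (Submonoid.powers b) M) := by
    refine le_antisymm ?_ ?_
    · rintro _ ⟨_, ⟨z, rfl⟩, rfl⟩
      exact ⟨e₀ M z, (hsq z).symm⟩
    · rintro _ ⟨x, rfl⟩
      exact ⟨_, ⟨(e₀ M).symm x, rfl⟩, (hsq _).trans
        (congrArg (LocalizedModule.mkLinearMap (Submonoid.powers b) M) ((e₀ M).apply_symm_apply x))⟩
  have hker : LinearMap.ker ((Dual2.HmapOfLE
      (le_sup_left : (⊥ : Ideal R) ≤ ⊥ ⊔ Ideal.span {b}) 1).app M).hom = ⊤ :=
    eq_top_iff.2 fun x _ => (acyclic_bot M 0).elim _ _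
  let F := ((Submodule.Quotient.equiv _ _ el hr).symm ≪≫ₗ
    cokerLocEquiv ⊥ b M 0 ≪≫ₗ LinearEquiv.ofTop _ hker)
  have : (⊥ : Ideal R) ⊔ Ideal.span {b} = Ideal.span {b} := bot_sup_eq _
  exact ⟨this ▸ F⟩

end Groth.Agent.LocCohLib
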