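import Groth.Agent.LocCohLib.ExtVanishing
import Groth.Agent.LocCohLib.LocMap
import Mathlib.RingTheory.Artinian.Module

/-!
# `H^i_m(M)` is Artinian; the parts of an Artinian module
-/

set_option autoImplicit false
set_option linter.style.haveILetI false

universe u

open CategoryTheory CategoryTheory.Limits Pointwise

namespace Groth.Agent.LocCohLib

variable {R : Type u} [CommRing R]

/-- Melkersson's criterion. -/
theorem isArtinian_of_torsion {T : Type u} [AddCommGroup T] [Module R T] (x : R)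
    (htors : ∀ t : T, ∃ k : ℕ, x ^ k • t = 0)
    [IsArtinian R (LinearMap.ker (LinearMap.lsmul R T x))] : IsArtinian R T := by
  refine monotone_stabilizes_iff_artinian.1 fun f => ?_
  let N : ℕ → Submodule R T := fun j => OrderDual.ofDual (f j)
  have hN : ∀ {a b : ℕ}, a ≤ b → N b ≤ N a := fun h => f.monotone h
  let G : ℕ → ℕ → Submodule R (LinearMap.ker (LinearMap.lsmul R T x)) := fun j k =>
    ((N j ⊓ LinearMap.ker (LinearMap.lsmul R T (x ^ (k + 1)))).map (LinearMap.lsmul R T (x ^ k))).comap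
      (LinearMap.ker (LinearMap.lsmul R T x)).subtype
  have hGj : ∀ {a b : ℕ} (k : ℕ), a ≤ b → G b k ≤ G a k := fun k h =>
    Submodule.comap_mono (Submodule.map_mono (inf_le_inf_right _ (hN h)))
  have hGk : ∀ {a b : ℕ} (j : ℕ), a ≤ b → G j b ≤ G j a := fun {a b} j h => by
    rintro y ⟨n, ⟨hn, hn0⟩, hy⟩
    refine ⟨x ^ (b - a) • n, ⟨(N j).smul_mem _ hn, ?_⟩, ?_⟩
    · rw [SetLike.mem_coe, LinearMap.mem_ker, LinearMap.lsmul_apply, smul_smul, ← pow_add,
        show a + 1 + (b - a) = b + 1 by omega]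
      exact hn0
    · rw [← hy, LinearMap.lsmul_apply, LinearMap.lsmul_apply, smul_smul, ← pow_add,
        show a + (b - a) = b by omega]
  obtain ⟨_, ⟨⟨j₀, k₀⟩, rfl⟩, hmin⟩ := IsArtinian.set_has_minimal
    (Set.range fun p : ℕ × ℕ => G p.1 p.2) (Set.range_nonempty _)
  have hst : ∀ j k, j₀ ≤ j → k₀ ≤ k → G j k = G j₀ k₀ := fun j k hj hk => by
    by_contra hne
    exact hmin _ ⟨(j, k), rfl⟩ (lt_of_le_of_ne ((hGj k hj).trans (hGk j₀ hk)) hne)
  have hfin : ∀ K : ℕ, ∃ J : ℕ, ∀ k, k < K → ∀ j, J ≤ j → G J k = G j k := fun K => by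
    induction K with
    | zero => exact ⟨0, fun k hk => absurd hk (Nat.not_lt_zero k)⟩
    | succ K ih =>
      obtain ⟨J, hJ⟩ := ih
      obtain ⟨J', hJ'⟩ := IsArtinian.monotone_stabilizes
        (R := R) (M := LinearMap.ker (LinearMap.lsmul R T x))
        ⟨fun j => OrderDual.toDual (G j K), fun a b h => hGj K h⟩
      refine ⟨max J J', fun k hk j hj => ?_⟩
      rcases Nat.lt_succ_iff_lt_or_eq.1 hk with hk | rfl
      · exact (hJ k hk _ (le_max_left J J')).symm.trans (hJ k hk j ((le_max_left J J').trans hj))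
      · have e1 : G J' k = G (max J J') k := hJ' _ (le_max_right J J')
        have e2 : G J' k = G j k := hJ' _ ((le_max_right J J').trans hj)
        exact e1.symm.trans e2
  obtain ⟨J, hJ⟩ := hfin k₀
  refine ⟨max J j₀, fun j hj => le_antisymm ?_ (hN hj) |>.symm.symm⟩
  have key : ∀ k (n : T), n ∈ N (max J j₀) → x ^ k • n = 0 → n ∈ N j := by
    intro k
    induction k with
    | zero => intro n _ hn; rw [pow_zero, one_smul] at hn; rw [hn]; exact zero_mem _
    | succ k ih =>
      intro n hn hn0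
      have hy : x ^ k • n ∈ LinearMap.ker (LinearMap.lsmul R T x) := by
        rw [LinearMap.mem_ker, LinearMap.lsmul_apply, smul_smul, ← pow_succ']
        exact hn0
      have h1 : (⟨x ^ k • n, hy⟩ : LinearMap.ker (LinearMap.lsmul R T x)) ∈ G (max J j₀) k :=
        ⟨n, ⟨hn, hn0⟩, rfl⟩
      have h2 : G (max J j₀) k = G j k := by
        rcases lt_or_ge k k₀ with hk | hk
        · exact (hJ k hk _ (le_max_left J j₀)).symm.trans (hJ k hk j ((le_max_left J j₀).trans hj))
        · exact (hst _ k (le_max_right J j₀) hk).trans (hst j k ((le_max_right J j₀).trans hj) hk).symm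
      rw [h2] at h1
      obtain ⟨n', ⟨hn', -⟩, he⟩ := h1
      have h3 := ih (n - n') (sub_mem hn (hN hj hn')) (by
        rw [smul_sub, show x ^ k • n' = x ^ k • n from he, sub_self])
      simpa using add_mem h3 hn'
  intro n hn
  obtain ⟨k, hk⟩ := htors n
  exact key k n hn hk

variable [IsNoetherianRing R]

/-- A finite module killed by a power of a maximal ideal is Artinian. -/
theorem isArtinian_of_pow_smul {m : Ideal R} [hm : m.IsMaximal] :
    ∀ (k : ℕ) (M : Type u) [AddCommGroup M] [Module R M] [Module.Finite R M],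
      (∀ a ∈ m ^ k, ∀ x : M, a • x = 0) → IsArtinian R M := by
  intro k
  induction k with
  | zero =>
    intro M _ _ _ h
    haveI : Subsingleton M := subsingleton_of_forall_eq 0 fun x => by
      rw [← one_smul R x]; exact h 1 (by simp) x
    infer_instance
  | succ k ih =>
    intro M _ _ _ h
    haveI : IsArtinian R (m • (⊤ : Submodule R M) : Submodule R M) := ih _ fun a ha x => Subtype.ext (by
      show a • (x : M) = 0
      refine Submodule.smul_induction_on x.2 (p := fun y => a • y = 0) (fun r hr y _ => ?_)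
        fun y z hy hz => by rw [smul_add, hy, hz, add_zero]
      rw [smul_smul]
      exact h _ (by rw [pow_succ]; exact Ideal.mul_mem_mul ha hr) y)
    haveI : IsArtinian R (M ⧸ (m • (⊤ : Submodule R M))) := by
      haveI : IsArtinianRing (R ⧸ m) := by
        letI := Ideal.Quotient.field m
        infer_instance
      haveI : Module.Finite (R ⧸ m) (M ⧸ (m • (⊤ : Submodule R M))) :=
        Module.Finite.of_restrictScalars_finite R _ _
      exact isArtinian_of_surjective_algebraMap (R := R ⧸ m) (S := R) Ideal.Quotient.mk_surjective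
    exact isArtinian_of_range_eq_ker (m • (⊤ : Submodule R M) : Submodule R M).subtype
      (m • (⊤ : Submodule R M) : Submodule R M).mkQ
      (by rw [Submodule.range_subtype, Submodule.ker_mkQ])

omit [IsNoetherianRing R] in
theorem ker_lsmul_map {I : Ideal R} {i : ℕ} {N : ModuleCat.{u} R} (x : R)
    (w : (localCohomology I i).obj N) :
    (localCohomology I i).map (x • 𝟙 N) w = LinearMap.lsmul R _ x w := map_smul_id x w

/-- `0 → M → M → M/xM → 0`. -/
noncomputable def mulSeq (x : R) (M : ModuleCat.{u} R) : ShortComplex (ModuleCat.{u} R) :=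
  ShortComplex.mk (x • 𝟙 M) (ModuleCat.ofHom (X := M) (x • (⊤ : Submodule R M)).mkQ)
    (ModuleCat.hom_ext (LinearMap.ext fun m => (Submodule.Quotient.mk_eq_zero _).2
      (Submodule.smul_mem_pointwise_smul m x ⊤ trivial)))

omit [IsNoetherianRing R] in
theorem mulSeq_shortExact {x : R} {M : ModuleCat.{u} R} (hx : IsSMulRegular M x) :
    (mulSeq x M).ShortExact where
  exact := (ShortComplex.ShortExact.moduleCat_exact_iff_function_exact _).2 fun y => by
    refine ⟨fun h => ?_, ?_⟩
    · obtain ⟨z, -, hz⟩ := (Submodule.Quotient.mk_eq_zero _).1 h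
      exact ⟨z, hz⟩
    · rintro ⟨z, rfl⟩
      exact ConcreteCategory.congr_hom (mulSeq x M).zero z
  mono_f := (ModuleCat.mono_iff_injective _).2 hx
  epi_g := (ModuleCat.epi_iff_surjective _).2 (Submodule.mkQ_surjective _)

/-- `0 → Γ_I M → M → M/Γ_I M → 0`. -/
noncomputable def torSeq (I : Ideal R) (M : ModuleCat.{u} R) : ShortComplex (ModuleCat.{u} R) :=
  ShortComplex.mk (ModuleCat.ofHom (X := DRing.torsionSub I M) (DRing.torsionSub I M).subtype)
    (ModuleCat.ofHom (X := M) (DRing.torsionSub I M).mkQ)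
    (ModuleCat.hom_ext (LinearMap.ext fun m => (Submodule.Quotient.mk_eq_zero _).2 m.2))

omit [IsNoetherianRing R] in
theorem torSeq_shortExact (I : Ideal R) (M : ModuleCat.{u} R) : (torSeq I M).ShortExact where
  exact := (ShortComplex.ShortExact.moduleCat_exact_iff_function_exact _).2 fun y => by
    refine ⟨fun h => ⟨⟨y, (Submodule.Quotient.mk_eq_zero _).1 h⟩, rfl⟩, ?_⟩
    rintro ⟨z, rfl⟩
    exact (Submodule.Quotient.mk_eq_zero _).2 z.2
  mono_f := (ModuleCat.mono_iff_injective _).2 Subtype.val_injective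
  epi_g := (ModuleCat.epi_iff_surjective _).2 (Submodule.mkQ_surjective _)

omit [IsNoetherianRing R] in
theorem isPowerTorsion_torsionSub (I : Ideal R) (M : Type u) [AddCommGroup M] [Module R M] :
    LocCoh.IsPowerTorsion I (DRing.torsionSub I M) := fun x => by
  obtain ⟨n, hn⟩ := x.2
  exact ⟨n, fun r hr => Subtype.ext (hn r hr)⟩

theorem torsionSub_quotient_eq_bot (I : Ideal R) (M : Type u) [AddCommGroup M] [Module R M] :
    DRing.torsionSub I (M ⧸ DRing.torsionSub I M) = ⊥ := by
  refine (Submodule.eq_bot_iff _).2 fun y ⟨n, hn⟩ => ?_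
  obtain ⟨y, rfl⟩ := Submodule.Quotient.mk_surjective _ y
  refine (Submodule.Quotient.mk_eq_zero _).2 ((exists_pow_iff_le_radical I y).2 ?_)
  obtain ⟨s, hs⟩ := IsNoetherian.noetherian I
  have hs' : (s : Set R) ⊆ I := fun a ha => hs ▸ Submodule.subset_span ha
  refine hs.symm.trans_le (Submodule.span_le.2 fun a ha => ?_)
  obtain ⟨k, hk⟩ := (Submodule.Quotient.mk_eq_zero _).1 (hn (a ^ n) (Ideal.pow_mem_pow (hs' ha) n))
  refine ⟨k + n, ?_⟩
  rw [mem_annI, pow_add, mul_smul]
  exact hk _ (Ideal.pow_mem_pow (hs' ha) k)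

theorem exists_regular_of_torsionSub_eq_bot (I : Ideal R) {M : Type u} [AddCommGroup M] [Module R M]
    [Module.Finite R M] (h : DRing.torsionSub I M = ⊥) : ∃ x ∈ I, IsSMulRegular M x := by
  refine (DepthLib.one_le_idealDepth_iff).1 ?_
  have := (natCast_le_idealDepth_iff_vanishing I M 1).2 fun i hi => by
    obtain rfl : i = 0 := by omega
    exact (subsingleton_h0_iff _).2 h
  exact_mod_cast this

/-- `H^i_m(M)` is Artinian for finite `M`. -/
theorem isArtinian_H [IsLocalRing R] : ∀ (i : ℕ) (M : ModuleCat.{u} R) [Module.Finite R M],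
    IsArtinian R ((localCohomology (IsLocalRing.maximalIdeal R) i).obj M) := by
  intro i
  induction i with
  | zero =>
    intro M _
    haveI : Module.Finite R (DRing.torsionSub (IsLocalRing.maximalIdeal R) M) :=
      Module.Finite.iff_fg.2 (IsNoetherian.noetherian _)
    obtain ⟨k, hk⟩ := exists_pow_le_annihilator_of_fg
      (isPowerTorsion_torsionSub (IsLocalRing.maximalIdeal R) M)
      (W := (⊤ : Submodule R (DRing.torsionSub (IsLocalRing.maximalIdeal R) M))) (IsNoetherian.noetherian _)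
    haveI := isArtinian_of_pow_smul k (DRing.torsionSub (IsLocalRing.maximalIdeal R) M) fun a ha x =>
      Submodule.mem_annihilator.1 (hk ha) x trivial
    exact isArtinian_of_linearEquiv (h0Equiv (IsLocalRing.maximalIdeal R) M).symm
  | succ i ih =>
    intro M _
    let m := IsLocalRing.maximalIdeal R
    let Q := (torSeq m M).X₃
    haveI : Module.Finite R (M ⧸ DRing.torsionSub m M) := Module.Finite.quotient R _
    obtain ⟨x, hx, hreg⟩ := exists_regular_of_torsionSub_eq_bot m (torsionSub_quotient_eq_bot m M)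
    have hS := mulSeq_shortExact (M := Q) hreg
    haveI : Module.Finite R Q := Module.Finite.quotient R (DRing.torsionSub m M)
    haveI : Module.Finite R (mulSeq x Q).X₃ := Module.Finite.quotient R _
    haveI := ih (mulSeq x Q).X₃
    haveI : IsArtinian R (LinearMap.ker (LinearMap.lsmul R ((localCohomology m (i + 1)).obj Q) x)) := by
      refine isArtinian_of_surjective _ ((δ hS m i).codRestrict (LinearMap.ker (LinearMap.lsmul R ((localCohomology m (i + 1)).obj Q) x)) fun v => ?_) fun w => ?_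
      · rw [LinearMap.mem_ker, ← ker_lsmul_map]
        exact map_δ_eq_zero hS v
      · obtain ⟨v, hv⟩ := exact₁ hS w.1 ((ker_lsmul_map x w.1).trans w.2)
        exact ⟨v, Subtype.ext hv⟩
    haveI := isArtinian_of_torsion (T := ((localCohomology m (i + 1)).obj Q)) x fun t => by
      obtain ⟨k, hk⟩ := isPowerTorsion_H (I := m) (i + 1) Q t
      exact ⟨k, hk _ (Ideal.pow_mem_pow hx k)⟩
    refine isArtinian_of_injective ((localCohomology m (i + 1)).map (torSeq m M).g).hom ?_
    refine (injective_iff_map_eq_zero _).2 fun w hw => ?_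
    obtain ⟨v, rfl⟩ := exact₂ (torSeq_shortExact m M) w hw
    rw [(subsingleton_of_isPowerTorsion i (torSeq m M).X₁ (isPowerTorsion_torsionSub m M)).elim v 0]
    exact map_zero _

/-! ### Parts of an Artinian module -/

variable {T : Type u} [AddCommGroup T] [Module R T]

/-- Not the sum of two smaller submodules. -/
def SumIrred (N : Submodule R T) : Prop :=
  N ≠ ⊥ ∧ ∀ A B : Submodule R T, A ⊔ B = N → A = N ∨ B = N

omit [IsNoetherianRing R] in
theorem exists_sumIrred_decomp [IsArtinian R T] (N : Submodule R T) :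
    ∃ s : Set (Submodule R T), s.Finite ∧ (∀ A ∈ s, SumIrred A) ∧ sSup s = N := by
  by_contra hne
  obtain ⟨N₀, hN₀, hmin⟩ := IsArtinian.set_has_minimal
    {N : Submodule R T | ¬∃ s : Set (Submodule R T), s.Finite ∧ (∀ A ∈ s, SumIrred A) ∧ sSup s = N}
    ⟨N, hne⟩
  apply hN₀
  by_cases h0 : N₀ = ⊥
  · exact ⟨∅, Set.finite_empty, fun A hA => absurd hA (Set.notMem_empty A), by rw [sSup_empty, h0]⟩
  by_cases hi : SumIrred N₀
  · exact ⟨{N₀}, Set.finite_singleton _, fun A hA => by rwa [Set.mem_singleton_iff.1 hA], sSup_singleton⟩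
  simp only [SumIrred, ne_eq, h0, not_false_eq_true, true_and, not_forall] at hi
  obtain ⟨A, B, hAB, hne'⟩ := hi
  rw [not_or] at hne'
  have hA : A < N₀ := lt_of_le_of_ne (hAB ▸ le_sup_left) hne'.1
  have hB : B < N₀ := lt_of_le_of_ne (hAB ▸ le_sup_right) hne'.2
  obtain ⟨s, hs, hs', rfl⟩ := not_not.1 fun h => hmin A h hA
  obtain ⟨t, ht, ht', rfl⟩ := not_not.1 fun h => hmin B h hB
  exact ⟨s ∪ t, hs.union ht, fun C hC => hC.elim (hs' C) (ht' C), sSup_union.trans hAB⟩

omit [IsNoetherianRing R] in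
/-- Every element acts surjectively or nilpotently on a sum-irreducible submodule. -/
theorem SumIrred.dichotomy [IsArtinian R T] {N : Submodule R T} (hN : SumIrred N) (r : R) :
    N ≤ N.map (LinearMap.lsmul R T r) ∨ r ∈ N.annihilator.radical := by
  obtain ⟨j, hj⟩ := IsArtinian.monotone_stabilizes (R := R) (M := T)
    ⟨fun j => OrderDual.toDual (N.map (LinearMap.lsmul R T (r ^ j))), fun a b hab => by
      show N.map (LinearMap.lsmul R T (r ^ b)) ≤ N.map (LinearMap.lsmul R T (r ^ a))
      rintro _ ⟨n, hn, rfl⟩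
      refine ⟨r ^ (b - a) • n, N.smul_mem _ hn, ?_⟩
      rw [LinearMap.lsmul_apply, LinearMap.lsmul_apply, smul_smul, ← pow_add, Nat.add_sub_cancel' hab]⟩
  have hle : N ≤ N.map (LinearMap.lsmul R T r) ⊔ N ⊓ LinearMap.ker (LinearMap.lsmul R T (r ^ j)) := by
    intro n hn
    have e : N.map (LinearMap.lsmul R T (r ^ j)) = N.map (LinearMap.lsmul R T (r ^ (j + 1))) :=
      hj (j + 1) (Nat.le_succ j)
    obtain ⟨n', hn', he⟩ : r ^ j • n ∈ N.map (LinearMap.lsmul R T (r ^ (j + 1))) := e ▸ ⟨n, hn, rfl⟩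
    refine Submodule.mem_sup.2 ⟨r • n', ⟨n', hn', rfl⟩, n - r • n',
      ⟨N.sub_mem hn (N.smul_mem r hn'), ?_⟩, add_sub_cancel _ _⟩
    rw [SetLike.mem_coe, LinearMap.mem_ker, LinearMap.lsmul_apply, smul_sub, smul_smul, ← pow_succ]
    exact sub_eq_zero.2 he.symm
  have heq : N.map (LinearMap.lsmul R T r) ⊔ N ⊓ LinearMap.ker (LinearMap.lsmul R T (r ^ j)) = N :=
    le_antisymm (sup_le (by rintro _ ⟨n, hn, rfl⟩; exact N.smul_mem r hn) inf_le_left) hle
  rcases hN.2 _ _ heq with h | h
  · exact Or.inl h.ge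
  · refine Or.inr ⟨j, Submodule.mem_annihilator.2 fun n hn => ?_⟩
    exact (h.ge hn).2

theorem SumIrred.isPrime [IsArtinian R T] {N : Submodule R T} (hN : SumIrred N) :
    N.annihilator.radical.IsPrime := by
  refine ⟨fun h => hN.1 ?_, fun {a b} hab => ?_⟩
  · obtain ⟨k, hk⟩ := (Ideal.eq_top_iff_one _).1 h
    rw [one_pow, Submodule.mem_annihilator] at hk
    exact (Submodule.eq_bot_iff N).2 fun n hn => (one_smul R n).symm.trans (hk n hn)
  · by_contra hne
    rw [not_or] at hne
    obtain ⟨j, hj⟩ := hab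
    refine hne.1 ⟨j, Submodule.mem_annihilator.2 fun n hn => ?_⟩
    have hb : ∀ l : ℕ, ∀ n ∈ N, ∃ n' ∈ N, b ^ l • n' = n := by
      intro l
      induction l with
      | zero => exact fun n hn => ⟨n, hn, by rw [pow_zero, one_smul]⟩
      | succ l ihl =>
        intro n hn
        obtain ⟨n₁, hn₁, rfl⟩ := ihl n hn
        obtain ⟨n₂, hn₂, rfl⟩ := ((hN.dichotomy b).resolve_right hne.2) hn₁
        exact ⟨n₂, hn₂, by rw [LinearMap.lsmul_apply, smul_smul, pow_succ]⟩
    obtain ⟨n', hn', rfl⟩ := hb j n hn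
    rw [smul_smul, ← mul_pow]
    exact Submodule.mem_annihilator.1 hj n' hn'

end Groth.Agent.LocCohLib
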