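import Groth.Agent.LocCohLib.DualApps
import Groth.Agent.RegularSerre.Localization
import Groth.Agent.LocCohLib.Artinian

/-!
# The finiteness and annihilator theorems for quotients of regular rings
-/

set_option autoImplicit false
set_option linter.style.haveILetI false
set_option linter.unusedVariables false

universe u

open CategoryTheory CategoryTheory.Limits

namespace Groth.Agent.LocCohLib

section Lemmas

variable {S A : Type u} [CommRing S] [IsRegularRing S] [CommRing A] [IsNoetherianRing A] [Algebra S A]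

omit [IsNoetherianRing A] in
/-- The height in `Ici p` is the height in `A/p`. -/
theorem height_Ici (p q : PrimeSpectrum A) (hpq : p ≤ q) :
    Order.height (⟨q, hpq⟩ : Set.Ici p) = (q.asIdeal.map (Ideal.Quotient.mk p.asIdeal)).height := by
  have hq : RingHom.ker (Ideal.Quotient.mk p.asIdeal) ≤ q.asIdeal := by rw [Ideal.mk_ker]; exact hpq
  let e : PrimeSpectrum (A ⧸ p.asIdeal) ≃o Set.Ici p :=
    (Ideal.primeSpectrumQuotientOrderIsoZeroLocus p.asIdeal).trans
      (OrderIso.setCongr _ _ (Set.ext fun r => Iff.rfl))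
  let Q : PrimeSpectrum (A ⧸ p.asIdeal) :=
    ⟨q.asIdeal.map (Ideal.Quotient.mk p.asIdeal), Ideal.map_isPrime_of_surjective Ideal.Quotient.mk_surjective hq⟩
  have hQ : e Q = ⟨q, hpq⟩ := Subtype.ext (PrimeSpectrum.ext (by
    show (q.asIdeal.map (Ideal.Quotient.mk p.asIdeal)).comap _ = q.asIdeal
    rw [Ideal.comap_map_of_surjective' _ Ideal.Quotient.mk_surjective, sup_eq_left.2 hq]))
  rw [← hQ, Order.height_orderIso, ← PrimeSpectrum.height_eq_orderHeight]

variable (hs : Function.Surjective (algebraMap S A))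
include hs

theorem exists_height (p : PrimeSpectrum A) : ∃ t : ℕ, (p.asIdeal.comap (algebraMap S A)).height = t := by
  obtain ⟨t, ht⟩ := ENat.ne_top_iff_exists.1
    (Ideal.height_ne_top (I := p.asIdeal.comap (algebraMap S A)) (Ideal.IsPrime.ne_top inferInstance))
  exact ⟨t, ht.symm⟩

/-- A large adjusted depth makes `H^i_a(M)` killed. -/
theorem goodPair_of_lt (M : Type u) [AddCommGroup M] [Module A M] [Module.Finite A M] (E : ℤ → ModuleCat.{u} S)
    (hsupp : ∀ (j : ℤ) (T : PrimeSpectrum S), T ∈ Module.support S (E j) →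
        ∃ (p : PrimeSpectrum A) (t l : ℕ), p.asIdeal.comap (algebraMap S A) = T.asIdeal ∧
          T.asIdeal.height = t ∧ j + l = t ∧
          ¬ Subsingleton (LocCoh.H (IsLocalRing.maximalIdeal (Localization.AtPrime p.asIdeal)) l
            (LocalizedModule p.asIdeal.primeCompl M)))
    (a b : Ideal A) (i : ℕ) (h : (i : ℕ∞) < LocCoh.minAdjDepth a b M) :
    GoodPair E (a.comap (algebraMap S A)) (b.comap (algebraMap S A)) i := by
  intro j T hT hbT q hTq haq k hk hqk
  obtain ⟨p, t, l, hp, ht, hl, hns⟩ := hsupp j T hT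
  obtain ⟨q', hq'⟩ := exists_comap_eq hs ((ker_le_comap hs p.asIdeal).trans (hp.trans_le hTq))
  have hpq : p.asIdeal ≤ q'.asIdeal :=
    (Ideal.comap_le_comap_iff_of_surjective _ hs _ _).1 (hp.trans_le (hTq.trans hq'.ge))
  have haq' : a ≤ q'.asIdeal := (Ideal.comap_le_comap_iff_of_surjective _ hs _ _).1 (haq.trans hq'.ge)
  obtain ⟨htk, hk'⟩ := height_quot_eq hs p q' hpq (hp ▸ ht) (hq' ▸ hqk)
  have hdepth : LocCoh.depth (Localization.AtPrime p.asIdeal) (LocalizedModule p.asIdeal.primeCompl M) ≤ (l : ℕ∞) := by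
    by_contra hd
    rw [not_le] at hd
    haveI : IsNoetherianRing (Localization.AtPrime p.asIdeal) :=
      IsLocalization.isNoetherianRing p.asIdeal.primeCompl _ inferInstance
    haveI : Module.Finite (Localization.AtPrime p.asIdeal) (LocalizedModule p.asIdeal.primeCompl M) :=
      Module.Finite.of_isLocalizedModule p.asIdeal.primeCompl
        (LocalizedModule.mkLinearMap p.asIdeal.primeCompl M)
    exact hns ((natCast_le_idealDepth_iff_vanishing (IsLocalRing.maximalIdeal (Localization.AtPrime p.asIdeal))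
      (LocalizedModule p.asIdeal.primeCompl M) (l + 1)).1
        (by push_cast; exact Order.add_one_le_of_lt hd) l (Nat.lt_succ_self l))
  have h1 : LocCoh.minAdjDepth a b M ≤ ((l + (k - t) : ℕ) : ℕ∞) := by
    refine (iInf₂_le p fun hb => hbT (hp ▸ Ideal.comap_mono hb)).trans ?_
    push_cast
    refine add_le_add hdepth ((Ideal.height_mono (Ideal.map_mono (sup_le haq' hpq))).trans hk'.le)
  have h2 := Nat.cast_lt.1 (h.trans_le h1)
  omega

theorem minAdjDepth_le_finDimRel (a b : Ideal A) (M : Type u) [AddCommGroup M] [Module A M] [Module.Finite A M] :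
    LocCoh.minAdjDepth a b M ≤ LocCoh.finDimRel a b M := by
  obtain ⟨E, hsupp, -, hkl, -, -⟩ := exists_crit hs M
  refine le_iInf₂ fun i hi => ?_
  by_contra h
  exact hi (hkl a b i (goodPair_of_lt hs M E hsupp a b i (not_le.1 h)))

/-- The codimension-one case implies the killing condition. -/
theorem goodPair_of_codim_one (M : Type u) [AddCommGroup M] [Module A M] [Module.Finite A M]
    (E : ℤ → ModuleCat.{u} S)
    (hsupp : ∀ (j : ℤ) (T : PrimeSpectrum S), T ∈ Module.support S (E j) →
        ∃ (p : PrimeSpectrum A) (t l : ℕ), p.asIdeal.comap (algebraMap S A) = T.asIdeal ∧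
          T.asIdeal.height = t ∧ j + l = t ∧
          ¬ Subsingleton (LocCoh.H (IsLocalRing.maximalIdeal (Localization.AtPrime p.asIdeal)) l
            (LocalizedModule p.asIdeal.primeCompl M)))
    (I : Ideal A) (i : ℕ)
    (h : ∀ p : PrimeSpectrum A, ¬ I ≤ p.asIdeal → SGA2.relCodim I p = 1 → ∀ j : ℕ, j + 1 = i →
      Subsingleton (LocCoh.H (IsLocalRing.maximalIdeal (Localization.AtPrime p.asIdeal)) j
        (LocalizedModule p.asIdeal.primeCompl M))) :
    GoodPair E (I.comap (algebraMap S A)) (I.comap (algebraMap S A)) i := by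
  intro j T hT hIT q hTq hIq k hk hqk
  haveI := T.2
  haveI := q.2
  obtain ⟨T₁, hT₁, hTT₁, hT₁q, hIT₁, hh⟩ := exists_isPrime_below hTq hIT hIq
  obtain ⟨p, t, l, hp, ht, hl, hns⟩ := hsupp j ⟨T₁, hT₁⟩ (Module.mem_support_mono hTT₁ hT)
  change p.asIdeal.comap (algebraMap S A) = T₁ at hp
  change T₁.height = t at ht
  obtain ⟨q', hq'⟩ := exists_comap_eq hs ((ker_le_comap hs p.asIdeal).trans (hp.trans_le hT₁q))
  have hpq : p.asIdeal ≤ q'.asIdeal :=
    (Ideal.comap_le_comap_iff_of_surjective _ hs _ _).1 (hp.trans_le (hT₁q.trans hq'.ge))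
  have hIq' : I ≤ q'.asIdeal := (Ideal.comap_le_comap_iff_of_surjective _ hs _ _).1 (hIq.trans hq'.ge)
  have hIp : ¬ I ≤ p.asIdeal := fun hle => hIT₁ (hp ▸ Ideal.comap_mono hle)
  have hk1 : k = t + 1 := by
    rw [hqk, ht] at hh
    exact_mod_cast hh
  have hcod : SGA2.relCodim I p = 1 := by
    refine le_antisymm ?_ (le_iInf fun r => ?_)
    · refine (iInf_le _ (⟨q', hpq, hIq'⟩ : {q : PrimeSpectrum A // p ≤ q ∧ I ≤ q.asIdeal})).trans ?_
      rw [height_Ici p q' hpq, (height_quot_eq hs p q' hpq (hp ▸ ht) (hq' ▸ hqk)).2]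
      simp [hk1]
    · obtain ⟨v, hv⟩ := exists_height hs r.1
      obtain ⟨t', ht'⟩ := exists_height hs p
      rw [height_Ici p r.1 r.2.1, (height_quot_eq hs p r.1 r.2.1 ht' hv).2]
      have hlt : p.asIdeal < r.1.asIdeal := lt_of_le_of_ne r.2.1 fun e => hIp (e ▸ r.2.2)
      have h1 := Ideal.height_add_one_le_of_lt_of_isPrime (comap_lt hs hlt)
      rw [ht', hv, ← Nat.cast_one, ← Nat.cast_add, Nat.cast_le] at h1
      rw [← Nat.cast_one, Nat.cast_le]
      omega
  exact hns (h p hIp hcod l (by omega))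

theorem finite_of_stalk_vanishing (I : Ideal A) (M : Type u) [AddCommGroup M] [Module A M] [Module.Finite A M]
    (i : ℕ) (h : ∀ p : PrimeSpectrum A, ¬ I ≤ p.asIdeal → SGA2.relCodim I p = 1 → ∀ j : ℕ, j + 1 = i →
      Subsingleton (LocCoh.H (IsLocalRing.maximalIdeal (Localization.AtPrime p.asIdeal)) j
        (LocalizedModule p.asIdeal.primeCompl M))) : Module.Finite A (LocCoh.H I i M) := by
  obtain ⟨E, hsupp, -, -, hfin, -⟩ := exists_crit hs M
  exact hfin I i (goodPair_of_codim_one hs M E hsupp I i h)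

theorem stalk_vanishing_of_codim_one (I : Ideal A) (M : Type u) [AddCommGroup M] [Module A M] [Module.Finite A M]
    (i : ℕ) (h : ∀ p : PrimeSpectrum A, ¬ I ≤ p.asIdeal → SGA2.relCodim I p = 1 → ∀ j : ℕ, j + 1 = i →
      Subsingleton (LocCoh.H (IsLocalRing.maximalIdeal (Localization.AtPrime p.asIdeal)) j
        (LocalizedModule p.asIdeal.primeCompl M)))
    (p : PrimeSpectrum A) (hp : ¬ I ≤ p.asIdeal) (c j : ℕ) (hc : SGA2.relCodim I p = c) (hji : j + c = i) :
    Subsingleton (LocCoh.H (IsLocalRing.maximalIdeal (Localization.AtPrime p.asIdeal)) j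
      (LocalizedModule p.asIdeal.primeCompl M)) := by
  obtain ⟨E, hsupp, hiff, -, -, -⟩ := exists_crit hs M
  obtain ⟨t, ht⟩ := exists_height hs p
  refine (hiff p t j ((t : ℤ) - j) ht (by omega)).2 fun hmem => ?_
  haveI : Nonempty {q : PrimeSpectrum A // p ≤ q ∧ I ≤ q.asIdeal} := by
    by_contra hne
    rw [not_nonempty_iff] at hne
    rw [SGA2.relCodim, iInf_of_empty] at hc
    exact ENat.natCast_ne_top c hc.symm
  obtain ⟨⟨q, hpq, hIq⟩, hq⟩ := ENat.exists_eq_iInf
    (fun q : {q : PrimeSpectrum A // p ≤ q ∧ I ≤ q.asIdeal} => Order.height (⟨q.1, q.2.1⟩ : Set.Ici p))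
  obtain ⟨v, hv⟩ := exists_height hs q
  obtain ⟨htv, hquot⟩ := height_quot_eq hs p q hpq ht hv
  have hvc : v = t + c := by
    have h1 := (height_Ici p q hpq).symm.trans (hq.trans hc)
    rw [hquot, Nat.cast_inj] at h1
    omega
  exact goodPair_of_codim_one hs M E hsupp I i h ((t : ℤ) - j) ⟨_, inferInstance⟩ hmem
    (fun hle => hp ((Ideal.comap_le_comap_iff_of_surjective _ hs _ _).1 hle))
    ⟨q.asIdeal.comap (algebraMap S A), inferInstance⟩ (Ideal.comap_mono hpq) (Ideal.comap_mono hIq) v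
    (by omega) hv

end Lemmas

section Local

/-- A regular local ring is a regular ring. -/
theorem isRegularRing_of_isRegularLocalRing (S : Type u) [CommRing S] [IsRegularLocalRing S] : IsRegularRing S :=
  { isRegularLocalRing_localization := fun p _ => RegularSerre.isRegularLocalRing_localization p }

variable {S A : Type u} [CommRing S] [IsRegularLocalRing S] [CommRing A] [IsLocalRing A] [IsNoetherianRing A]
  [Algebra S A] (hs : Function.Surjective (algebraMap S A))
include hs

omit [IsNoetherianRing A] in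
theorem le_comap_maximalIdeal (Q : Ideal S) (hQ : Q.IsPrime) :
    Q ≤ (IsLocalRing.maximalIdeal A).comap (algebraMap S A) := by
  haveI := Ideal.comap_isMaximal_of_surjective (algebraMap S A) hs (K := IsLocalRing.maximalIdeal A)
  rw [IsLocalRing.eq_maximalIdeal this]
  exact IsLocalRing.le_maximalIdeal hQ.ne_top

omit [IsRegularLocalRing S] [Algebra S A] hs in
theorem height_map_maximalIdeal (p : PrimeSpectrum A) :
    ((((IsLocalRing.maximalIdeal A).map (Ideal.Quotient.mk p.asIdeal)).height : ℕ∞) : WithBot ℕ∞) =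
      ringKrullDim (A ⧸ p.asIdeal) := by
  haveI : IsLocalRing (A ⧸ p.asIdeal) :=
    IsLocalRing.of_surjective' (Ideal.Quotient.mk p.asIdeal) Ideal.Quotient.mk_surjective
  rw [← IsLocalRing.maximalIdeal_height_eq_ringKrullDim]
  congr 2
  exact ((Ideal.IsMaximal.map_of_surjective_of_ker_le Ideal.Quotient.mk_surjective
    (by rw [Ideal.mk_ker]; exact IsLocalRing.le_maximalIdeal p.2.ne_top)).eq_of_le
      (IsLocalRing.maximalIdeal.isMaximal _).ne_top (IsLocalRing.le_maximalIdeal
        (Ideal.IsMaximal.map_of_surjective_of_ker_le Ideal.Quotient.mk_surjective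
          (by rw [Ideal.mk_ker]; exact IsLocalRing.le_maximalIdeal p.2.ne_top)).ne_top))

omit [IsRegularLocalRing S] [Algebra S A] hs in
theorem isFiniteLength_H_iff (i : ℕ) (M : Type u) [AddCommGroup M] [Module A M] :
    IsFiniteLength A (LocCoh.H (IsLocalRing.maximalIdeal A) i M) ↔
      Module.Finite A (LocCoh.H (IsLocalRing.maximalIdeal A) i M) := by
  rw [isFiniteLength_iff_isNoetherian_isArtinian]
  refine ⟨fun h => haveI := h.1; inferInstance, fun h => ⟨isNoetherian_of_isNoetherianRing_of_finite A _, ?_⟩⟩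
  obtain ⟨k, hk⟩ := killed_of_finite (I := IsLocalRing.maximalIdeal A) (M := ModuleCat.of A M) (i := i) h
  haveI := h
  exact isArtinian_of_pow_smul k (LocCoh.H (IsLocalRing.maximalIdeal A) i M) hk

theorem finiteLength_below_iff (M : Type u) [AddCommGroup M] [Module A M] [Module.Finite A M] (n : ℕ) :
    (∀ i : ℕ, i ≤ n → IsFiniteLength A (LocCoh.H (IsLocalRing.maximalIdeal A) i M)) ↔
      ∀ p : PrimeSpectrum A, p.asIdeal ≠ IsLocalRing.maximalIdeal A → ∀ e : ℕ,
        ringKrullDim (A ⧸ p.asIdeal) = e → (n : ℕ∞) <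
          LocCoh.depth (Localization.AtPrime p.asIdeal) (LocalizedModule p.asIdeal.primeCompl M) + e := by
  haveI := isRegularRing_of_isRegularLocalRing S
  let m := IsLocalRing.maximalIdeal A
  have hadj : ∀ (p : PrimeSpectrum A) (e : ℕ), ringKrullDim (A ⧸ p.asIdeal) = e →
      LocCoh.adjDepth m M p = LocCoh.depth (Localization.AtPrime p.asIdeal)
        (LocalizedModule p.asIdeal.primeCompl M) + e := fun p e he => by
    have h1 := (height_map_maximalIdeal p).trans he
    unfold LocCoh.adjDepth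
    rw [show m ⊔ p.asIdeal = m from sup_eq_left.2 (IsLocalRing.le_maximalIdeal p.2.ne_top)]
    congr 1
    exact WithBot.coe_injective h1
  have hne : ∀ p : PrimeSpectrum A, ¬ m ≤ p.asIdeal ↔ p.asIdeal ≠ m := fun p =>
    ⟨fun h e => h e.ge, fun h hle => h (le_antisymm (IsLocalRing.le_maximalIdeal p.2.ne_top) hle)⟩
  constructor
  · intro h p hp e he
    have h1 : ((n + 1 : ℕ) : ℕ∞) ≤ LocCoh.finDimRel m m M := le_iInf₂ fun i hi => by
      by_contra hlt
      rw [not_le, Nat.cast_lt, Nat.lt_succ_iff] at hlt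
      obtain ⟨k, hk⟩ := killed_of_finite (I := m) (M := ModuleCat.of A M) (i := i)
        ((isFiniteLength_H_iff i M).1 (h i hlt))
      exact hi fun c hc => ⟨k, Module.mem_annihilator.2 fun x => hk _ (Ideal.pow_mem_pow hc k) x⟩
    have h2 := (h1.trans (finDimRel_le_minAdjDepth m m (ModuleCat.of A M))).trans (iInf₂_le p ((hne p).2 hp))
    rw [hadj p e he] at h2
    exact (Order.add_one_le_iff_of_not_isMax (by simp)).1 (by push_cast at h2; exact h2)
  · intro h i hi
    rw [isFiniteLength_H_iff]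
    obtain ⟨E, hsupp, -, -, hfin, -⟩ := exists_crit hs M
    refine hfin m i (goodPair_of_lt hs M E hsupp m m i (lt_of_le_of_lt (Nat.cast_le.2 hi) ?_))
    refine lt_of_lt_of_le ?_ (le_iInf₂ fun p hp => (?_ : ((n + 1 : ℕ) : ℕ∞) ≤ LocCoh.adjDepth m M p))
    · exact_mod_cast Nat.lt_succ_self n
    · by_cases htop : ((m ⊔ p.asIdeal).map (Ideal.Quotient.mk p.asIdeal)).height = ⊤
      · unfold LocCoh.adjDepth
        rw [htop, add_top]
        exact le_top
      obtain ⟨e, he⟩ := ENat.ne_top_iff_exists.1 htop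
      have he' : ringKrullDim (A ⧸ p.asIdeal) = e := by
        rw [← height_map_maximalIdeal p]
        rw [show m ⊔ p.asIdeal = m from sup_eq_left.2 (IsLocalRing.le_maximalIdeal p.2.ne_top)] at he
        exact congrArg (fun x : ℕ∞ => (x : WithBot ℕ∞)) he.symm
      rw [hadj p e he']
      push_cast
      exact Order.add_one_le_of_lt (h p ((hne p).1 hp) e he')

theorem finiteLength_iff_stalk_vanishing (M : Type u) [AddCommGroup M] [Module A M] [Module.Finite A M] (i : ℕ) :
    IsFiniteLength A (LocCoh.H (IsLocalRing.maximalIdeal A) i M) ↔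
      ∀ p : PrimeSpectrum A, p.asIdeal ≠ IsLocalRing.maximalIdeal A → ∀ (e j : ℕ),
        ringKrullDim (A ⧸ p.asIdeal) = e → j + e = i →
          Subsingleton (LocCoh.H (IsLocalRing.maximalIdeal (Localization.AtPrime p.asIdeal)) j
            (LocalizedModule p.asIdeal.primeCompl M)) := by
  haveI := isRegularRing_of_isRegularLocalRing S
  let m : PrimeSpectrum A := ⟨IsLocalRing.maximalIdeal A, (IsLocalRing.maximalIdeal.isMaximal A).isPrime⟩
  obtain ⟨E, hsupp, hiff, -, hfin, hloc⟩ := exists_crit hs M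
  obtain ⟨d, hd⟩ := exists_height hs m
  have hle : ∀ Q : Ideal S, Q.IsPrime → Q ≤ m.asIdeal.comap (algebraMap S A) := le_comap_maximalIdeal hs
  rw [isFiniteLength_H_iff]
  constructor
  · intro h p hp e j he hji
    obtain ⟨t, ht⟩ := exists_height hs p
    obtain ⟨htd, hquot⟩ := height_quot_eq hs p m (IsLocalRing.le_maximalIdeal p.2.ne_top) ht hd
    have hed : d - t = e := by
      have h1 := (height_map_maximalIdeal p).trans he
      rw [hquot] at h1
      exact_mod_cast h1
    refine (hiff p t j ((d : ℤ) - i) ht (by omega)).2 fun hmem => ?_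
    have hlt : ¬ m.asIdeal.comap (algebraMap S A) ≤ p.asIdeal.comap (algebraMap S A) := fun hle' =>
      hp (le_antisymm (IsLocalRing.le_maximalIdeal p.2.ne_top)
        ((Ideal.comap_le_comap_iff_of_surjective _ hs _ _).1 hle'))
    obtain ⟨s, hsm, hsp⟩ := SetLike.not_le_iff_exists.1 hlt
    obtain ⟨k, hk⟩ := killed_of_finite (I := m.asIdeal) (M := ModuleCat.of A M) (i := i) h
    haveI : m.asIdeal.IsMaximal := IsLocalRing.maximalIdeal.isMaximal A
    obtain ⟨k', hk'⟩ := hloc m.asIdeal hle d i s hd ⟨k, fun x => hk _ (Ideal.pow_mem_pow (Ideal.mem_comap.1 hsm) k) x⟩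
    obtain ⟨e', he'⟩ := Module.mem_support_iff'.1 hmem
    exact he' (s ^ k') (fun hin => hsp (Ideal.IsPrime.mem_of_pow_mem inferInstance k' hin)) (hk' e')
  · intro h
    refine hfin m.asIdeal i fun j T hT hmT q hTq hmq k hk hqk => ?_
    obtain ⟨p, t, l, hp, ht, hl, hns⟩ := hsupp j T hT
    have hqm : q.asIdeal = m.asIdeal.comap (algebraMap S A) := le_antisymm (hle q.asIdeal q.2) hmq
    rw [hqm, hd, Nat.cast_inj] at hqk
    obtain ⟨htd, hquot⟩ := height_quot_eq hs p m (IsLocalRing.le_maximalIdeal p.2.ne_top) (hp ▸ ht) hd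
    refine hns (h p (fun e => hmT ?_) (d - t) l ?_ (by omega))
    · rw [← hp, e]
    · rw [← height_map_maximalIdeal p, hquot]
      rfl

end Local

end Groth.Agent.LocCohLib
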