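import Groth.Agent.LocCohLib.InjHullReg
import Groth.Agent.S0302

/-!
# Local duality over a regular local ring
-/

set_option autoImplicit false
set_option linter.style.haveILetI false
set_option linter.unusedVariables false

universe u

open CategoryTheory CategoryTheory.Limits
open CategoryTheory.Abelian (Ext)

namespace Groth.Agent.LocCohLib

variable {A : Type u} [CommRing A]

section Theta

variable (I : Ideal A) (r : ℕ)

theorem map_add_H {M N : ModuleCat.{u} A} (f g : M ⟶ N) (w : (localCohomology I r).obj M) :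
    (localCohomology I r).map (f + g) w = (localCohomology I r).map f w + (localCohomology I r).map g w := by
  obtain ⟨n, x, rfl⟩ := exists_cl w
  rw [map_cl, map_cl, map_cl, ← map_add]
  simp [Ext.mk₀_add]

theorem map_smul_H {M N : ModuleCat.{u} A} (c : A) (f : M ⟶ N) (w : (localCohomology I r).obj M) :
    (localCohomology I r).map (c • f) w = c • (localCohomology I r).map f w := by
  obtain ⟨n, x, rfl⟩ := exists_cl w
  rw [map_cl, map_cl, ← map_smul]
  simp [Ext.mk₀_smul]

/-- The pairing `H^r(M) → Hom(Hom(M, A), H^r(A))`. -/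
noncomputable def pairing (M : ModuleCat.{u} A) : (localCohomology I r).obj M →ₗ[A]
    ((M →ₗ[A] A) →ₗ[A] (localCohomology I r).obj (ModuleCat.of A A)) where
  toFun w :=
    { toFun := fun φ => (localCohomology I r).map (ModuleCat.ofHom (Y := A) φ) w
      map_add' := fun φ ψ => map_add_H I r (ModuleCat.ofHom (Y := A) φ) (ModuleCat.ofHom (Y := A) ψ) w
      map_smul' := fun c φ => map_smul_H I r c (ModuleCat.ofHom (Y := A) φ) w }
  map_add' w v := LinearMap.ext fun φ => map_add ((localCohomology I r).map (ModuleCat.ofHom (Y := A) φ)).hom w v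
  map_smul' c w := LinearMap.ext fun φ => map_smul ((localCohomology I r).map (ModuleCat.ofHom (Y := A) φ)).hom c w

theorem pairing_natural {M N : ModuleCat.{u} A} (f : M ⟶ N) (w : (localCohomology I r).obj M)
    (φ : N →ₗ[A] A) :
    pairing I r N ((localCohomology I r).map f w) φ = pairing I r M w (φ ∘ₗ f.hom) := by
  show (localCohomology I r).map (ModuleCat.ofHom (Y := A) φ) ((localCohomology I r).map f w) = _
  rw [← ModuleCat.comp_apply, ← Functor.map_comp]
  rfl

theorem bijective_pairing_pi (k : ℕ) : Function.Bijective (pairing I r (ModuleCat.of A (Fin k → A))) := by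
  classical
  let π : Fin k → ((Fin k → A) →ₗ[A] A) := fun i => LinearMap.proj i
  let ι : Fin k → (A →ₗ[A] (Fin k → A)) := fun i => LinearMap.single A (fun _ => A) i
  have hid : (𝟙 (ModuleCat.of A (Fin k → A))) =
      ∑ i, ModuleCat.ofHom (π i) ≫ ModuleCat.ofHom (ι i) := by
    refine ModuleCat.hom_ext (LinearMap.ext fun v => funext fun j => ?_)
    rw [ModuleCat.hom_sum, LinearMap.sum_apply, Finset.sum_apply]
    simp [π, ι, Pi.single_apply]
  have hw : ∀ w, ∑ i, (localCohomology I r).map (ModuleCat.ofHom (ι i))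
      (pairing I r (ModuleCat.of A (Fin k → A)) w (π i)) = w := fun w => by
    have h2 : ∀ (s : Finset (Fin k)), (localCohomology I r).map (∑ i ∈ s, ModuleCat.ofHom (π i) ≫ ModuleCat.ofHom (ι i)) w =
        ∑ i ∈ s, (localCohomology I r).map (ModuleCat.ofHom (ι i))
          (pairing I r (ModuleCat.of A (Fin k → A)) w (π i)) := fun s => by
      induction s using Finset.induction with
      | empty =>
        have h := map_smul_H I r (0 : A) (0 : ModuleCat.of A (Fin k → A) ⟶ ModuleCat.of A (Fin k → A)) w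
        simpa using h
      | insert j s hj ih =>
        rw [Finset.sum_insert hj, Finset.sum_insert hj, map_add_H, ih]
        congr 1
        rw [Functor.map_comp]
        rfl
    have h3 := h2 Finset.univ
    rw [← hid, CategoryTheory.Functor.map_id] at h3
    exact h3.symm
  refine ⟨fun w v h => ?_, fun ψ => ⟨∑ i, (localCohomology I r).map (ModuleCat.ofHom (ι i)) (ψ (π i)), ?_⟩⟩
  · rw [← hw w, ← hw v, h]
  · refine LinearMap.ext fun φ => ?_
    rw [map_sum, LinearMap.sum_apply]
    have hφ : φ = ∑ i, φ (ι i 1) • π i := by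
      refine LinearMap.pi_ext' fun j => LinearMap.ext_ring ?_
      simp [π, ι, Pi.single_apply]
    conv_rhs => rw [hφ]
    rw [map_sum]
    refine Finset.sum_congr rfl fun i _ => ?_
    rw [map_smul]
    refine (pairing_natural I r (ModuleCat.ofHom (ι i)) _ φ).trans ?_
    show (localCohomology I r).map (ModuleCat.ofHom (Y := A) (φ ∘ₗ ι i)) (ψ (π i)) = _
    rw [show ModuleCat.ofHom (Y := A) (φ ∘ₗ ι i) = φ (ι i 1) • 𝟙 (ModuleCat.of A A) from
      ModuleCat.hom_ext (LinearMap.ext_ring (by simp)), map_smul_H, CategoryTheory.Functor.map_id]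
    rfl

end Theta

section Regular

variable [IsRegularLocalRing A] {r : ℕ} (hr : ringKrullDim A = r)
include hr

local notation "𝔪" => IsLocalRing.maximalIdeal A

theorem subsingleton_H_gt (M : ModuleCat.{u} A) {i : ℕ} (h : r < i) :
    Subsingleton ((localCohomology 𝔪 i).obj M) := by
  refine subsingleton_of_forall_eq 0 fun z => ?_
  obtain ⟨n, y, rfl⟩ := exists_cl z
  haveI : HasProjectiveDimensionLT (qMod 𝔪 n) (r + 1) := ProjDim.gldim_le_of_regularLocal A r hr _
  rw [y.eq_zero_of_hasProjectiveDimensionLT (r + 1) h, map_zero]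

theorem subsingleton_H_free (k : ℕ) {i : ℕ} (h : i < r) :
    Subsingleton ((localCohomology 𝔪 i).obj (ModuleCat.of A (Fin k → A))) := by
  haveI := subsingleton_H_self_lt hr h
  refine subsingleton_of_forall_eq 0 fun z => ?_
  obtain ⟨n, y, rfl⟩ := exists_cl z
  -- evaluate through the pairing at degree `i`
  exact (bijective_pairing_pi 𝔪 i k).1 (LinearMap.ext fun φ =>
    Subsingleton.elim (α := (localCohomology 𝔪 i).obj (ModuleCat.of A A)) _ _)

/-- The pairing is bijective for finite modules. -/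
theorem bijective_pairing (M : ModuleCat.{u} A) [Module.Finite A M] :
    Function.Bijective (pairing 𝔪 r M) := by
  haveI := injective_H_top hr
  obtain ⟨k, π, hπ⟩ := Module.Finite.exists_fin' A M
  let C : ShortComplex (ModuleCat.{u} A) :=
    ShortComplex.mk (X₁ := ModuleCat.of A (LinearMap.ker π)) (X₂ := ModuleCat.of A (Fin k → A)) (X₃ := M)
      (ModuleCat.ofHom (LinearMap.ker π).subtype) (ModuleCat.ofHom (Y := M) π)
      (ModuleCat.hom_ext (LinearMap.ext fun x => x.2))
  have hC : C.ShortExact :=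
    { exact := (ShortComplex.ShortExact.moduleCat_exact_iff_function_exact _).2
        (LinearMap.exact_subtype_ker_map π)
      mono_f := (ModuleCat.mono_iff_injective _).2 Subtype.val_injective
      epi_g := (ModuleCat.epi_iff_surjective _).2 hπ }
  haveI : Module.Finite A (LinearMap.ker π) := Module.Finite.iff_fg.2 (IsNoetherian.noetherian _)
  obtain ⟨l, σ, hσ⟩ := Module.Finite.exists_fin' A (LinearMap.ker π)
  let g : (M →ₗ[A] A) →ₗ[A] ((Fin k → A) →ₗ[A] A) := LinearMap.lcomp A A π
  let f : ((Fin k → A) →ₗ[A] A) →ₗ[A] ((Fin l → A) →ₗ[A] A) := LinearMap.lcomp A A ((LinearMap.ker π).subtype ∘ₗ σ)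
  have hg : Function.Injective g := fun a b h => LinearMap.ext fun m => by
    obtain ⟨x, rfl⟩ := hπ m
    exact LinearMap.congr_fun h x
  have hfg : LinearMap.ker f = LinearMap.range g := by
    refine le_antisymm (fun φ hφ => ?_) ?_
    · have h0 : LinearMap.ker π ≤ LinearMap.ker φ := fun x hx => by
        obtain ⟨y, hy⟩ := hσ ⟨x, hx⟩
        have h1 : φ (σ y).1 = 0 := LinearMap.congr_fun hφ y
        rw [LinearMap.mem_ker]
        rwa [hy] at h1
      refine ⟨(LinearMap.ker π).liftQ φ h0 ∘ₗ (LinearMap.quotKerEquivOfSurjective π hπ).symm.toLinearMap,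
        LinearMap.ext fun x => ?_⟩
      show (LinearMap.ker π).liftQ φ h0 ((LinearMap.quotKerEquivOfSurjective π hπ).symm (π x)) = φ x
      rw [LinearMap.quotKerEquivOfSurjective_symm_apply]
      exact Submodule.liftQ_apply _ _ x
    · rintro _ ⟨φ, rfl⟩
      refine LinearMap.ext fun y => ?_
      show φ (π (σ y).1) = 0
      rw [LinearMap.mem_ker.1 (σ y).2, map_zero]
  have hsurjH : Function.Surjective ((localCohomology 𝔪 r).map C.g).hom := fun w =>
    exact₃ hC w ((subsingleton_H_gt hr C.X₁ (Nat.lt_succ_self r)).elim _ _)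
  refine ⟨(injective_iff_map_eq_zero _).2 fun w hw => ?_, fun ψ => ?_⟩
  · obtain ⟨w₀, rfl⟩ := hsurjH w
    let ψ₀ := pairing 𝔪 r C.X₂ w₀
    have h0 : LinearMap.range g ≤ LinearMap.ker ψ₀ := by
      rintro _ ⟨φ, rfl⟩
      exact (pairing_natural 𝔪 r C.g w₀ φ).symm.trans (LinearMap.congr_fun hw φ)
    obtain ⟨ψ₁, hψ₁⟩ := Module.Injective.out (R := A) (Q := (localCohomology 𝔪 r).obj (ModuleCat.of A A))
      ((LinearMap.ker f).liftQ f le_rfl)
      (by rw [← LinearMap.ker_eq_bot, Submodule.ker_liftQ_eq_bot _ _ _ le_rfl])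
      ((LinearMap.ker f).liftQ ψ₀ (hfg ▸ h0))
    obtain ⟨w₁, hw₁⟩ := (bijective_pairing_pi 𝔪 r l).2 ψ₁
    let f' : ModuleCat.of A (Fin l → A) ⟶ C.X₂ := ModuleCat.ofHom ((LinearMap.ker π).subtype ∘ₗ σ)
    have hw₀ : (localCohomology 𝔪 r).map f' w₁ = w₀ := (bijective_pairing_pi 𝔪 r k).1 (LinearMap.ext fun φ => by
      refine (pairing_natural 𝔪 r f' w₁ φ).trans ?_
      rw [hw₁]
      exact hψ₁ (Submodule.Quotient.mk φ))
    rw [← hw₀, ← ModuleCat.comp_apply, ← Functor.map_comp,
      show f' ≫ C.g = 0 from ModuleCat.hom_ext (LinearMap.ext fun y => (σ y).2)]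
    obtain ⟨n, x, rfl⟩ := exists_cl w₁
    rw [map_cl]
    simp
  · obtain ⟨ψ₀, hψ₀⟩ := Module.Injective.out (R := A) (Q := (localCohomology 𝔪 r).obj (ModuleCat.of A A)) g hg ψ
    obtain ⟨w₀, hw₀⟩ := (bijective_pairing_pi 𝔪 r k).2 ψ₀
    refine ⟨(localCohomology 𝔪 r).map C.g w₀, LinearMap.ext fun φ => ?_⟩
    rw [pairing_natural, hw₀]
    exact hψ₀ φ

theorem subsingleton_ext_free (k : ℕ) {j : ℕ} :
    Subsingleton (Ext (ModuleCat.of A (Fin k → A)) (ModuleCat.of A A) (j + 1)) := by
  haveI : Projective (ModuleCat.of A (Fin k → A)) := ModuleCat.projective_of_categoryTheory_projective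
    (P := ModuleCat.of A (Fin k → A))
  exact subsingleton_of_forall_eq 0 Ext.eq_zero_of_projective

/-- Duality: `H^i_m(M) ≅ Hom(Ext^j(M, A), H^r_m(A))` for `i + j = r`. -/
theorem nonempty_duality : ∀ (j i : ℕ), i + j = r → ∀ (M : ModuleCat.{u} A) [Module.Finite A M],
    Nonempty ((localCohomology 𝔪 i).obj M ≃ₗ[A]
      (Ext M (ModuleCat.of A A) j →ₗ[A] (localCohomology 𝔪 r).obj (ModuleCat.of A A))) := by
  intro j
  induction j with
  | zero =>
    intro i hi M _
    obtain rfl : i = r := by omega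
    exact ⟨(LinearEquiv.ofBijective _ (bijective_pairing hr M)).trans
      ((Ext.linearEquiv₀.trans ModuleCat.homLinearEquiv).symm.arrowCongr (LinearEquiv.refl A _))⟩
  | succ j ih =>
    intro i hi M _
    obtain ⟨k, π, hπ⟩ := Module.Finite.exists_fin' A M
    let C : ShortComplex (ModuleCat.{u} A) :=
      ShortComplex.mk (X₁ := ModuleCat.of A (LinearMap.ker π)) (X₂ := ModuleCat.of A (Fin k → A)) (X₃ := M)
        (ModuleCat.ofHom (LinearMap.ker π).subtype) (ModuleCat.ofHom (Y := M) π)
        (ModuleCat.hom_ext (LinearMap.ext fun x => x.2))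
    have hC : C.ShortExact :=
      { exact := (ShortComplex.ShortExact.moduleCat_exact_iff_function_exact _).2
          (LinearMap.exact_subtype_ker_map π)
        mono_f := (ModuleCat.mono_iff_injective _).2 Subtype.val_injective
        epi_g := (ModuleCat.epi_iff_surjective _).2 hπ }
    haveI : Module.Finite A C.X₁ := Module.Finite.iff_fg.2 (IsNoetherian.noetherian (LinearMap.ker π))
    let H := (localCohomology 𝔪 r).obj (ModuleCat.of A A)
    let dE : Ext C.X₁ (ModuleCat.of A A) j →ₗ[A] Ext M (ModuleCat.of A A) (j + 1) :=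
      hC.extClass.precompOfLinear A (ModuleCat.of A A) (add_comm 1 j)
    have hdsurj : Function.Surjective dE := fun y => by
      haveI := subsingleton_ext_free hr k (j := j)
      exact Ext.contravariant_sequence_exact₃ hC (ModuleCat.of A A) y (Subsingleton.elim _ _) (add_comm 1 j)
    let T : (Ext M (ModuleCat.of A A) (j + 1) →ₗ[A] H) →ₗ[A] (Ext C.X₁ (ModuleCat.of A A) j →ₗ[A] H) :=
      LinearMap.lcomp A H dE
    have hTinj : Function.Injective T := fun a b h => LinearMap.ext fun y => by
      obtain ⟨x, rfl⟩ := hdsurj y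
      exact LinearMap.congr_fun h x
    have hδinj : Function.Injective (δ hC 𝔪 i) := (injective_iff_map_eq_zero _).2 fun w hw => by
      obtain ⟨v, rfl⟩ := exact₃ hC w hw
      haveI := subsingleton_H_free hr k (i := i) (by omega)
      exact (congrArg _ (Subsingleton.elim (α := (localCohomology 𝔪 i).obj C.X₂) v 0)).trans (map_zero _)
    obtain ⟨eK⟩ := ih (i + 1) (by omega) C.X₁
    -- correct the identification when `j = 0`
    cases j with
    | succ j =>
      haveI := subsingleton_ext_free hr k (j := j)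
      have hδsurj : Function.Surjective (δ hC 𝔪 i) := fun w =>
        exact₁ hC w (by
          haveI := subsingleton_H_free hr k (i := i + 1) (by omega)
          exact Subsingleton.elim (α := (localCohomology 𝔪 (i + 1)).obj C.X₂) _ _)
      have hdinj : Function.Injective dE := (injective_iff_map_eq_zero _).2 fun x hx => by
        obtain ⟨x₂, rfl⟩ := Ext.contravariant_sequence_exact₁ hC (ModuleCat.of A A) x (add_comm 1 (j + 1)) hx
        rw [Subsingleton.elim x₂ 0, Ext.comp_zero]
      exact ⟨(LinearEquiv.ofBijective (δ hC 𝔪 i) ⟨hδinj, hδsurj⟩).trans (eK.trans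
        ((LinearEquiv.ofBijective dE ⟨hdinj, hdsurj⟩).arrowCongr (LinearEquiv.refl A H)))⟩
    | zero =>
      obtain rfl : i + 1 = r := by omega
      let θ := LinearEquiv.ofBijective _ (bijective_pairing hr C.X₁)
      let c := (Ext.linearEquiv₀ (R := A) (X := C.X₁) (Y := ModuleCat.of A A)).trans ModuleCat.homLinearEquiv
      let Φ : (localCohomology 𝔪 i).obj M →ₗ[A] (Ext C.X₁ (ModuleCat.of A A) 0 →ₗ[A] H) :=
        (c.symm.arrowCongr (LinearEquiv.refl A H)).toLinearMap ∘ₗ θ.toLinearMap ∘ₗ δ hC 𝔪 i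
      have hΦinj : Function.Injective Φ :=
        (c.symm.arrowCongr (LinearEquiv.refl A H)).injective.comp (θ.injective.comp hδinj)
      have hΦ : ∀ w x, Φ w x = pairing 𝔪 (i + 1) C.X₁ (δ hC 𝔪 i w) (c x) := fun w x => rfl
      have hrange : LinearMap.range Φ = LinearMap.range T := by
        refine le_antisymm ?_ ?_
        · rintro _ ⟨w, rfl⟩
          have h0 : LinearMap.ker dE ≤ LinearMap.ker (Φ w) := fun x hx => by
            obtain ⟨x₂, rfl⟩ := Ext.contravariant_sequence_exact₁ hC (ModuleCat.of A A) x (add_comm 1 0) hx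
            obtain ⟨φ, rfl⟩ := (Ext.mk₀_bijective _ _).2 x₂
            rw [LinearMap.mem_ker, hΦ, show c ((Ext.mk₀ C.f).comp (Ext.mk₀ φ) (zero_add 0)) = ((C.f ≫ φ).hom : C.X₁ →ₗ[A] A) from by
              refine c.symm.injective ?_
              rw [LinearEquiv.symm_apply_apply, Ext.mk₀_comp_mk₀]
              rfl]
            refine (pairing_natural 𝔪 (i + 1) C.f (δ hC 𝔪 i w) φ.hom).symm.trans ?_
            rw [map_δ_eq_zero hC w, map_zero]
            rfl
          refine ⟨(LinearMap.ker dE).liftQ (Φ w) h0 ∘ₗ (LinearMap.quotKerEquivOfSurjective dE hdsurj).symm.toLinearMap,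
            LinearMap.ext fun x => ?_⟩
          show (LinearMap.ker dE).liftQ (Φ w) h0 ((LinearMap.quotKerEquivOfSurjective dE hdsurj).symm (dE x)) = _
          rw [LinearMap.quotKerEquivOfSurjective_symm_apply]
          exact Submodule.liftQ_apply _ _ x
        · rintro _ ⟨ψ, rfl⟩
          obtain ⟨v, hv⟩ := (c.symm.arrowCongr (LinearEquiv.refl A H)).surjective (T ψ)
          obtain ⟨u, rfl⟩ := θ.surjective v
          obtain ⟨w, hw⟩ := exact₁ hC u (by
            refine (bijective_pairing_pi 𝔪 (i + 1) k).1 ?_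
            rw [map_zero]
            refine LinearMap.ext fun φ => ?_
            refine (pairing_natural 𝔪 (i + 1) C.f u φ).trans ?_
            have h1 := LinearMap.congr_fun hv (c.symm (φ ∘ₗ C.f.hom))
            have h2 : pairing 𝔪 (i + 1) C.X₁ u (φ ∘ₗ C.f.hom) = T ψ (c.symm (φ ∘ₗ C.f.hom)) := by
              refine Eq.trans ?_ h1
              show θ u (φ ∘ₗ C.f.hom) = θ u (c (c.symm (φ ∘ₗ C.f.hom)))
              rw [LinearEquiv.apply_symm_apply]
            rw [h2]
            show ψ (dE (c.symm (φ ∘ₗ C.f.hom))) = 0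
            rw [show c.symm (φ ∘ₗ C.f.hom) = (Ext.mk₀ C.f).comp (Ext.mk₀ (ModuleCat.ofHom (Y := A) φ)) (zero_add 0) from by
              rw [Ext.mk₀_comp_mk₀]
              rfl]
            exact (congrArg ψ (hC.extClass_comp_assoc (Ext.mk₀ (ModuleCat.ofHom (Y := A) φ)) (h := add_comm 1 0))).trans (map_zero ψ))
          exact ⟨w, (congrArg (fun t => (c.symm.arrowCongr (LinearEquiv.refl A H)) (θ t)) hw).trans hv⟩
      exact ⟨(LinearEquiv.ofInjective Φ hΦinj).trans
        ((LinearEquiv.ofEq _ _ hrange).trans (LinearEquiv.ofInjective T hTinj).symm)⟩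

/-- Local duality with any injective hull. -/
theorem nonempty_duality_hull (E : Type u) [AddCommGroup E] [Module A E]
    (f : IsLocalRing.ResidueField A →ₗ[A] E) (hf : InjHull.IsInjectiveHull f) (M : Type u) [AddCommGroup M]
    [Module A M] [Module.Finite A M] (i : ℕ) (hi : i ≤ r) :
    Nonempty (LocCoh.H 𝔪 i M ≃ₗ[A]
      ((((_root_.Ext A (ModuleCat.{u} A) (r - i)).obj (Opposite.op (ModuleCat.of A M))).obj (ModuleCat.of A A)) →ₗ[A] E)) := by
  obtain ⟨g, hg⟩ := exists_injectiveHull_H_top hr
  obtain ⟨e, -⟩ := Groth.Agent.S0302.result A (IsLocalRing.ResidueField A) (LocCoh.H 𝔪 r A) E g hg f hf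
  obtain ⟨d⟩ := nonempty_duality hr (r - i) i (by omega) (ModuleCat.of A M)
  exact ⟨d.trans ((extEquiv (r - i) (ModuleCat.of A M) (ModuleCat.of A A)).symm.arrowCongr e)⟩

end Regular

end Groth.Agent.LocCohLib
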