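import Groth.Agent.LocCohLib.Flat
import Mathlib.RingTheory.Flat.Localization
import Mathlib.RingTheory.LocalProperties.Submodule
import Mathlib.RingTheory.KrullDimension.Module

/-!
# Grothendieck's vanishing theorem
-/

set_option autoImplicit false
set_option linter.style.haveILetI false

universe u

open CategoryTheory CategoryTheory.Limits

namespace Groth.Agent.LocCohLib

/-- Every chain in the support of `M` has length `< i`. -/
def DimLt (R : Type u) [CommRing R] (M : Type u) [AddCommGroup M] [Module R M] (i : ℕ) : Prop :=
  ∀ l : LTSeries (Module.support R M), l.length < i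

variable {R : Type u} [CommRing R]

theorem DimLt.of_supportDim {M : Type u} [AddCommGroup M] [Module R M] {i : ℕ}
    (h : Module.supportDim R M < (i : WithBot ℕ∞)) : DimLt R M i := fun l =>
  Nat.cast_lt.1 ((Order.LTSeries.length_le_krullDim l).trans_lt h)

theorem DimLt.subsingleton {M : Type u} [AddCommGroup M] [Module R M] (h : DimLt R M 0) :
    Subsingleton M := by
  rw [← Module.support_eq_empty_iff (R := R), Set.eq_empty_iff_forall_notMem]
  intro p hp
  exact Nat.not_lt_zero _ (h (RelSeries.singleton _ (⟨p, hp⟩ : Module.support R M)))

/-- The prime below. -/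
def below (S : Submonoid R) (q : PrimeSpectrum (Localization S)) : PrimeSpectrum R :=
  PrimeSpectrum.comap (algebraMap R (Localization S)) q

theorem below_strictMono (S : Submonoid R) : StrictMono (below S) :=
  Monotone.strictMono_of_injective (fun _ _ h => Ideal.comap_mono h)
    (PrimeSpectrum.localization_comap_injective (Localization S) S)

theorem below_disjoint (S : Submonoid R) (q : PrimeSpectrum (Localization S)) {s : R} (hs : s ∈ S) :
    s ∉ (below S q).asIdeal := fun h =>
  q.2.ne_top (Ideal.eq_top_of_isUnit_mem _ h (IsLocalization.map_units _ ⟨s, hs⟩))

theorem below_mem_support (S : Submonoid R) {M : Type u} [AddCommGroup M] [Module R M]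
    {q : PrimeSpectrum (Localization S)}
    (hq : q ∈ Module.support (Localization S) (LocalizedModule S M)) :
    below S q ∈ Module.support R M := by
  rw [Module.mem_support_iff'] at hq ⊢
  obtain ⟨m, hm⟩ := hq
  induction m using LocalizedModule.induction_on with
  | h x s =>
    refine ⟨x, fun r hr h0 => hm (algebraMap R (Localization S) r) hr ?_⟩
    rw [algebraMap_smul, LocalizedModule.smul'_mk, h0, LocalizedModule.zero_mk]

/-- The chain below. -/
noncomputable def belowSeries (S : Submonoid R) {M : Type u} [AddCommGroup M] [Module R M]
    (l : LTSeries (Module.support (Localization S) (LocalizedModule S M))) :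
    LTSeries (Module.support R M) :=
  l.map (fun q => ⟨below S q.1, below_mem_support S q.2⟩) fun _ _ h => below_strictMono S h

theorem DimLt.localized (S : Submonoid R) {M : Type u} [AddCommGroup M] [Module R M] {i : ℕ}
    (h : DimLt R M i) : DimLt (Localization S) (LocalizedModule S M) i := fun l =>
  h (belowSeries S l)

theorem DimLt.localized_away [IsLocalRing R] {b : R} (hb : ¬IsUnit b) {M : Type u} [AddCommGroup M]
    [Module R M] {i : ℕ} (h : DimLt R M (i + 1)) :
    DimLt (Localization (Submonoid.powers b)) (LocalizedModule (Submonoid.powers b) M) i := fun l => by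
  let l' := belowSeries (Submonoid.powers b) l
  let c : Module.support R M := ⟨IsLocalRing.closedPoint R, Module.mem_support_mono
    (IsLocalRing.le_maximalIdeal l'.last.1.2.ne_top) l'.last.2⟩
  have hlt : l'.last < c := by
    refine lt_of_le_of_ne (IsLocalRing.le_maximalIdeal l'.last.1.2.ne_top) fun e => ?_
    have he : below (Submonoid.powers b) l.last.1 = IsLocalRing.closedPoint R :=
      (congrArg Subtype.val (LTSeries.last_map l
        (fun q => (⟨below _ q.1, below_mem_support _ q.2⟩ : Module.support R M))
        (fun _ _ h => below_strictMono _ h))).symm.trans (congrArg Subtype.val e)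
    refine below_disjoint _ l.last.1 (Submonoid.mem_powers b) ?_
    rw [he]
    exact hb
  exact Nat.lt_of_succ_lt_succ (h (l'.snoc c hlt))

/-- `M_b` as restricted from `R_b`. -/
noncomputable def resLocEquiv (b : R) (M : ModuleCat.{u} R) :
    (res R (Localization (Submonoid.powers b))).obj
        (ModuleCat.of (Localization (Submonoid.powers b)) (LocalizedModule (Submonoid.powers b) M))
      ≅ (locFun b).obj M :=
  have e : ∀ (r : R) (x : LocalizedModule (Submonoid.powers b) M),
      algebraMap R (Localization (Submonoid.powers b)) r • x = r • x := fun r x =>
    algebraMap_smul (Localization (Submonoid.powers b)) r x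
  LinearEquiv.toModuleIso (X₁ := (res R (Localization (Submonoid.powers b))).obj
      (ModuleCat.of (Localization (Submonoid.powers b)) (LocalizedModule (Submonoid.powers b) M)))
    (X₂ := (locFun b).obj M)
    (m₁ := ((res R (Localization (Submonoid.powers b))).obj
      (ModuleCat.of (Localization (Submonoid.powers b)) (LocalizedModule (Submonoid.powers b) M))).isModule)
    (m₂ := ((locFun b).obj M).isModule)
    { toFun := fun x => x
      map_add' := fun _ _ => rfl
      map_smul' := fun r x => e r x
      invFun := fun x => x
      left_inv := fun _ => rfl
      right_inv := fun _ => rfl }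

theorem subsingleton_of_dimLt_aux : ∀ (n : ℕ) (R : Type u) [CommRing R] [IsNoetherianRing R]
    (s : Finset R), s.card ≤ n → ∀ (i : ℕ) (M : ModuleCat.{u} R), DimLt R M i →
    Subsingleton ((localCohomology (Ideal.span (s : Set R)) i).obj M) := by
  classical
  intro n
  induction n with
  | zero =>
    intro R _ _ s hs i M hM
    rw [Finset.card_eq_zero.1 (Nat.le_zero.1 hs), Finset.coe_empty, Ideal.span_empty]
    cases i with
    | zero => exact have := hM.subsingleton; (h0_injective (I := ⊥) (M := M)).subsingleton
    | succ k => exact acyclic_bot M k
  | succ n ih =>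
    intro R _ _ s hs i M hM
    cases i with
    | zero => exact have := hM.subsingleton; (h0_injective (M := M)).subsingleton
    | succ k =>
    rcases s.eq_empty_or_nonempty with rfl | ⟨b, hb⟩
    · rw [Finset.coe_empty, Ideal.span_empty]
      exact acyclic_bot M k
    refine Module.subsingleton_of_localization_maximal
      (fun (P : Ideal R) [P.IsMaximal] => LocalizedModule P.primeCompl
        ((localCohomology (Ideal.span (s : Set R)) (k + 1)).obj M))
      (fun P _ => LocalizedModule.mkLinearMap P.primeCompl _) fun P _ => ?_
    haveI : Module.Flat R (Localization P.primeCompl) := IsLocalization.flat _ P.primeCompl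
    haveI : IsNoetherianRing (Localization P.primeCompl) :=
      IsLocalization.isNoetherianRing P.primeCompl _ inferInstance
    obtain ⟨e⟩ := nonempty_tensEquiv (R' := Localization P.primeCompl)
      (Ideal.span (s : Set R)) (k + 1) M
    let N : ModuleCat.{u} (Localization P.primeCompl) :=
      ModuleCat.of _ (LocalizedModule P.primeCompl M)
    suffices hN : Subsingleton ((localCohomology
        ((Ideal.span (s : Set R)).map (algebraMap R (Localization P.primeCompl))) (k + 1)).obj N) by
      refine Equiv.subsingleton ((LocalizedModule.equivTensorProduct P.primeCompl _ ≪≫ₗ e ≪≫ₗ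
        ((localCohomology _ (k + 1)).mapIso
          ((LocalizedModule.equivTensorProduct P.primeCompl M).symm.toModuleIso :
            (tens (Localization P.primeCompl)).obj M ≅ N)).toLinearEquiv).toEquiv)
    rw [Ideal.map_span]
    let b' := algebraMap R (Localization P.primeCompl) b
    by_cases hu : IsUnit b'
    · rw [Ideal.eq_top_of_isUnit_mem _ (Ideal.subset_span (Set.mem_image_of_mem _ hb)) hu]
      exact subsingleton_top N _
    haveI : IsLocalRing (Localization P.primeCompl) :=
      inferInstanceAs (IsLocalRing (Localization.AtPrime P))
    let t : Finset (Localization P.primeCompl) := (s.erase b).image (algebraMap R _)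
    have ht : t.card ≤ n := Finset.card_image_le.trans (by rw [Finset.card_erase_of_mem hb]; omega)
    have hset : algebraMap R (Localization P.primeCompl) '' (s : Set R) = insert b' (t : Set _) := by
      conv_lhs => rw [← Finset.insert_erase hb]
      rw [Finset.coe_insert, Set.image_insert_eq, Finset.coe_image]
    rw [hset, Ideal.span_insert, sup_comm]
    refine subsingleton_of_forall_eq 0 fun w => ?_
    obtain ⟨v, rfl⟩ := ((loc_exact₁ _ b' N k) w).1
      ((ih (Localization P.primeCompl) t ht (k + 1) N (hM.localized P.primeCompl)).elim _ _)
    haveI : IsNoetherianRing (Localization (Submonoid.powers b')) :=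
      IsLocalization.isNoetherianRing (Submonoid.powers b') _ inferInstance
    obtain ⟨f⟩ := nonempty_resEquiv (R' := Localization (Submonoid.powers b'))
      (Ideal.span (t : Set (Localization P.primeCompl))) k
      (ModuleCat.of _ (LocalizedModule (Submonoid.powers b') N))
    have hbase : Subsingleton ((localCohomology (Ideal.span (t : Set (Localization P.primeCompl))) k).obj
        ((locFun b').obj N)) := by
      have h0 : Subsingleton ((localCohomology ((Ideal.span (t : Set (Localization P.primeCompl))).map
          (algebraMap _ (Localization (Submonoid.powers b')))) k).obj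
          (ModuleCat.of _ (LocalizedModule (Submonoid.powers b') N))) := by
        rw [Ideal.map_span, ← Finset.coe_image]
        exact ih _ _ (Finset.card_image_le.trans ht) k _
          (DimLt.localized_away hu (hM.localized P.primeCompl))
      haveI := @Equiv.subsingleton _ _ f.toEquiv.symm h0
      exact localCohomology_map_iso_subsingleton (resLocEquiv b' N)
    rw [hbase.elim v 0, map_zero]

/-- Grothendieck's vanishing theorem. -/
theorem subsingleton_of_dimLt [IsNoetherianRing R] (I : Ideal R) (i : ℕ) (M : ModuleCat.{u} R)
    (h : DimLt R M i) : Subsingleton ((localCohomology I i).obj M) := by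
  obtain ⟨s, rfl⟩ := IsNoetherian.noetherian I
  exact subsingleton_of_dimLt_aux s.card R s le_rfl i M h

end Groth.Agent.LocCohLib
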