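import Mathlib.CategoryTheory.Abelian.Ext
import Mathlib.CategoryTheory.Abelian.Projective.Ext
import Mathlib.Algebra.Category.ModuleCat.Projective
import Mathlib.Algebra.Category.ModuleCat.Ext.HasExt
import Mathlib.Algebra.Homology.ShortComplex.ModuleCat
import Mathlib.Algebra.Homology.DerivedCategory.Ext.Linear

/-!
# The two `Ext`s of modules agree

`_root_.Ext` (left derived functors of `Hom(-, Y)`, used by `localCohomology`) is naturally
isomorphic to `Abelian.Ext` on categories of modules.
-/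

set_option autoImplicit false

universe u

open CategoryTheory CategoryTheory.Limits Opposite

namespace Groth.Agent.LocCohLib

variable {R : Type u} [CommRing R]

section SC

variable {S T : ShortComplex (ModuleCat.{u} R)}

/-- The homology class of a cycle. -/
noncomputable def scCls (S : ShortComplex (ModuleCat.{u} R)) :
    LinearMap.ker S.g.hom →ₗ[R] S.homology :=
  (S.moduleCatCyclesIso.inv ≫ S.homologyπ).hom

theorem scCls_surjective (S : ShortComplex (ModuleCat.{u} R)) :
    Function.Surjective (scCls S) :=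
  (ModuleCat.epi_iff_surjective (S.moduleCatCyclesIso.inv ≫ S.homologyπ)).1 inferInstance

theorem scCls_eq_zero (z : LinearMap.ker S.g.hom) :
    scCls S z = 0 ↔ ∃ y, S.f y = (z : S.X₂) := by
  have h : scCls S z =
      S.moduleCatHomologyIso.inv (Submodule.Quotient.mk z :
        LinearMap.ker S.g.hom ⧸ LinearMap.range S.moduleCatToCycles) := by
    rw [scCls, S.moduleCatCyclesIso_inv_π]; rfl
  rw [h, ← map_zero S.moduleCatHomologyIso.inv.hom]
  refine ((ConcreteCategory.bijective_of_isIso S.moduleCatHomologyIso.inv).1.eq_iff).trans ?_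
  refine (Submodule.Quotient.mk_eq_zero (LinearMap.range S.moduleCatToCycles)).trans ?_
  exact ⟨fun ⟨y, hy⟩ => ⟨y, congrArg Subtype.val hy⟩, fun ⟨y, hy⟩ => ⟨y, Subtype.ext hy⟩⟩

theorem scCls_map (φ : S ⟶ T) (z : LinearMap.ker S.g.hom) (w : LinearMap.ker T.g.hom)
    (h : φ.τ₂ (z : S.X₂) = (w : T.X₂)) :
    ShortComplex.homologyMap φ (scCls S z) = scCls T w := by
  have h1 : ShortComplex.cyclesMap φ (S.moduleCatCyclesIso.inv z) = T.moduleCatCyclesIso.inv w := by
    apply (ModuleCat.mono_iff_injective T.iCycles).1 inferInstance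
    have e1 := ConcreteCategory.congr_hom (ShortComplex.cyclesMap_i φ) (S.moduleCatCyclesIso.inv z)
    have e2 := ConcreteCategory.congr_hom S.moduleCatCyclesIso_inv_iCycles z
    have e3 := ConcreteCategory.congr_hom T.moduleCatCyclesIso_inv_iCycles w
    exact (e1.trans ((congrArg φ.τ₂ e2).trans h)).trans e3.symm
  have e := ConcreteCategory.congr_hom (ShortComplex.homologyπ_naturality φ)
    (S.moduleCatCyclesIso.inv z)
  exact e.trans (congrArg T.homologyπ h1)

end SC

section Res

variable {X X' : ModuleCat.{u} R} (P : ProjectiveResolution X) (P' : ProjectiveResolution X')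
  {Y Y' : ModuleCat.{u} R}

/-- The complex `Hom(P, Y)`. -/
noncomputable abbrev cx (Y : ModuleCat.{u} R) : CochainComplex (ModuleCat.{u} R) ℕ :=
  P.complex.linearYonedaObj R Y

/-- The functor whose left derived functors give `Ext`. -/
noncomputable abbrev homFun (Y : ModuleCat.{u} R) : ModuleCat.{u} R ⥤ (ModuleCat.{u} R)ᵒᵖ :=
  ((linearYoneda R (ModuleCat.{u} R)).obj Y).rightOp

variable {P P'} in
/-- Precomposition with a map of resolutions. -/
noncomputable def mapX (φ : P'.complex ⟶ P.complex) (Y : ModuleCat.{u} R) :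
    cx P Y ⟶ cx P' Y :=
  (HomologicalComplex.unopFunctor (ModuleCat.{u} R) (ComplexShape.down ℕ)).map
    (((homFun Y).mapHomologicalComplex _).map φ).op

/-- The natural transformation induced by a morphism. -/
noncomputable abbrev homFunMap (h : Y ⟶ Y') : homFun Y' ⟶ homFun Y :=
  NatTrans.rightOp ((linearYoneda R (ModuleCat.{u} R)).map h)

/-- Postcomposition with a morphism. -/
noncomputable def mapY (h : Y ⟶ Y') : cx P Y ⟶ cx P Y' :=
  (HomologicalComplex.unopFunctor (ModuleCat.{u} R) (ComplexShape.down ℕ)).map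
    (((NatTrans.mapHomologicalComplex (homFunMap h) _).app P.complex)).op

theorem swap_iso {C : Type*} [Category C] {a a' b b' : C} (α : a ≅ a') (β : b ≅ b') (m : b ⟶ a)
    (k : b' ⟶ a') (h : m ≫ α.hom = β.hom ≫ k) : k ≫ α.inv = β.inv ≫ m := by
  rw [Iso.eq_inv_comp, ← Category.assoc, ← h, Category.assoc, α.hom_inv_id, Category.comp_id]

theorem homologyUnop_natural {K L : HomologicalComplex (ModuleCat.{u} R)ᵒᵖ (ComplexShape.down ℕ)}
    (ψ : K ⟶ L) (n : ℕ) :
    (L.homologyUnop n).inv ≫ HomologicalComplex.homologyMap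
        ((HomologicalComplex.unopFunctor _ _).map ψ.op) n =
      (HomologicalComplex.homologyMap ψ n).unop ≫ (K.homologyUnop n).inv := by
  apply Quiver.Hom.op_inj
  let ψ' := (HomologicalComplex.unopFunctor (ModuleCat.{u} R) (ComplexShape.down ℕ)).map ψ.op
  have h' : HomologicalComplex.homologyMap ψ n ≫ (L.unop.homologyOp n).hom =
      (K.unop.homologyOp n).hom ≫ (HomologicalComplex.homologyMap ψ' n).op :=
    HomologicalComplex.homologyOp_hom_naturality ψ' n
  show (HomologicalComplex.homologyMap ψ' n).op ≫ (L.unop.homologyOp n).inv =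
    (K.unop.homologyOp n).inv ≫ HomologicalComplex.homologyMap ψ n
  exact swap_iso _ _ _ _ h' 

theorem glue {C : Type*} [Category C] {a b c a' b' c' : C} (f : a ⟶ a') (i : a ⟶ b) (j : b ⟶ c)
    (i' : a' ⟶ b') (j' : b' ⟶ c') (m : b ⟶ b') (k : c ⟶ c') (h1 : f ≫ i' = i ≫ m)
    (h2 : j ≫ k = m ≫ j') : f ≫ i' ≫ j' = (i ≫ j) ≫ k := by
  rw [← Category.assoc, h1, Category.assoc, Category.assoc, h2]

theorem isoExt_natX (n : ℕ) (g : X' ⟶ X) (φ : P'.complex ⟶ P.complex)
    (comm : φ.f 0 ≫ P.π.f 0 = P'.π.f 0 ≫ g) :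
    ((Ext R (ModuleCat.{u} R) n).map g.op).app Y ≫ (P'.isoExt n Y).hom =
      (P.isoExt n Y).hom ≫ HomologicalComplex.homologyMap (mapX φ Y) n := by
  have h := ProjectiveResolution.isoLeftDerivedObj_inv_naturality g P' P φ comm (homFun Y) n
  exact glue _ _ _ _ _ _ _ (congrArg Quiver.Hom.unop h)
    (homologyUnop_natural (((homFun Y).mapHomologicalComplex _).map φ) n)

theorem isoExt_natY (n : ℕ) (h : Y ⟶ Y') :
    ((Ext R (ModuleCat.{u} R) n).obj (op X)).map h ≫ (P.isoExt n Y').hom =
      (P.isoExt n Y).hom ≫ HomologicalComplex.homologyMap (mapY P h) n := by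
  have e : (P.isoLeftDerivedObj (homFun Y') n).inv ≫ (NatTrans.leftDerived (homFunMap h) n).app X =
      HomologicalComplex.homologyMap
        ((NatTrans.mapHomologicalComplex (homFunMap h) _).app P.complex) n ≫
        (P.isoLeftDerivedObj (homFun Y) n).inv := by
    rw [ProjectiveResolution.leftDerived_app_eq _ P n, Iso.inv_hom_id_assoc]
    rfl
  exact glue _ _ _ _ _ _ _ (congrArg Quiver.Hom.unop e)
    (homologyUnop_natural ((NatTrans.mapHomologicalComplex (homFunMap h) _).app P.complex) n)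

/-- Cocycles. -/
noncomputable abbrev cocycles (n : ℕ) (Y : ModuleCat.{u} R) := LinearMap.ker ((cx P Y).sc n).g.hom

theorem cocycle_cond {n : ℕ} (z : cocycles P n Y) : P.complex.d (n + 1) n ≫ z.1 = 0 := by
  have h := z.2
  rw [LinearMap.mem_ker] at h
  have hn : (ComplexShape.down ℕ).symm.next n = n + 1 := CochainComplex.next ℕ n
  change (cx P Y).d n ((ComplexShape.down ℕ).symm.next n) z.1 = 0 at h
  rw [hn] at h
  exact h

/-- The class in `Abelian.Ext` of a cocycle, linearly. -/
noncomputable def cocycleToExt (n : ℕ) (Y : ModuleCat.{u} R) :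
    cocycles P n Y →ₗ[R] Abelian.Ext X Y n where
  toFun z := P.extMk z.1 (n + 1) rfl (cocycle_cond P z)
  map_add' z w := (P.add_extMk z.1 w.1 (n + 1) rfl (cocycle_cond P z) (cocycle_cond P w)).symm
  map_smul' r z := by
    show P.extMk (r • z.1) (n + 1) rfl (cocycle_cond P (r • z)) =
      r • P.extMk z.1 (n + 1) rfl (cocycle_cond P z)
    have h1 := P.extMk_comp_mk₀ z.1 (n + 1) rfl (cocycle_cond P z) (r • 𝟙 Y)
    rw [Abelian.Ext.mk₀_smul, Abelian.Ext.comp_smul, Abelian.Ext.comp_mk₀_id] at h1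
    rw [h1]
    congr 1

theorem cocycleToExt_surjective (n : ℕ) (Y : ModuleCat.{u} R) :
    Function.Surjective (cocycleToExt P n Y) := by
  intro a
  obtain ⟨f, hf, rfl⟩ := P.extMk_surjective a (n + 1) rfl
  refine ⟨⟨f, ?_⟩, rfl⟩
  show (cx P Y).d n ((ComplexShape.down ℕ).symm.next n) f = 0
  rw [show (ComplexShape.down ℕ).symm.next n = n + 1 from CochainComplex.next ℕ n]
  exact hf

theorem extMk_eq_zero_zero {Y : ModuleCat.{u} R} (f : P.complex.X 0 ⟶ Y)
    (hf : P.complex.d 1 0 ≫ f = 0) (h : P.extMk f 1 rfl hf = 0) : f = 0 := by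
  rw [← P.extEquivCohomologyClass.apply_eq_iff_eq, P.extEquivCohomologyClass_extMk,
    P.extEquivCohomologyClass_zero, CochainComplex.HomComplex.CohomologyClass.mk_eq_zero_iff,
    CochainComplex.HomComplex.Cocycle.toSingleMk_mem_coboundaries_iff _ _ _ _ _ (1 : ℤ)
      (by simp)] at h
  obtain ⟨g, hg⟩ := h
  rw [(CochainComplex.isZero_of_isStrictlyLE P.cochainComplex 0 1).eq_of_src g 0, comp_zero] at hg
  rw [← cancel_epi (P.cochainComplexXIso 0 0 rfl).hom, comp_zero]
  exact hg.symm

theorem cocycleToExt_eq_zero (n : ℕ) (Y : ModuleCat.{u} R) (z : cocycles P n Y) :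
    cocycleToExt P n Y z = 0 ↔ scCls _ z = 0 := by
  rw [scCls_eq_zero]
  show P.extMk z.1 (n + 1) rfl (cocycle_cond P z) = 0 ↔
    ∃ y, (cx P Y).d ((ComplexShape.down ℕ).symm.prev n) n y = z.1
  cases n with
  | succ k =>
    rw [P.extMk_eq_zero_iff z.1 _ rfl (cocycle_cond P z) k rfl,
      show (ComplexShape.down ℕ).symm.prev (k + 1) = k from CochainComplex.prev_nat_succ k]
    rfl
  | zero =>
    rw [show (ComplexShape.down ℕ).symm.prev 0 = 0 from CochainComplex.prev_nat_zero,
      HomologicalComplex.shape _ 0 0 (by simp)]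
    constructor
    · intro h
      exact ⟨0, (extMk_eq_zero_zero P z.1 (cocycle_cond P z) h).symm⟩
    · rintro ⟨y, hy⟩
      have h0 : z.1 = 0 := hy.symm
      simp only [h0]
      exact P.extMk_zero 1 rfl

/-- Homology of `Hom(P, Y)` is `Abelian.Ext`. -/
noncomputable def homologyEquiv (n : ℕ) (Y : ModuleCat.{u} R) :
    (cx P Y).homology n ≃ₗ[R] Abelian.Ext X Y n :=
  ((LinearMap.quotKerEquivOfSurjective _ (scCls_surjective ((cx P Y).sc n))).symm ≪≫ₗ
    Submodule.quotEquivOfEq _ (LinearMap.ker (cocycleToExt P n Y)) (by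
      ext z
      exact (cocycleToExt_eq_zero P n Y z).symm) ≪≫ₗ
    LinearMap.quotKerEquivOfSurjective _ (cocycleToExt_surjective P n Y))

theorem homologyEquiv_scCls (n : ℕ) (z : cocycles P n Y) :
    homologyEquiv P n Y (scCls _ z) = cocycleToExt P n Y z := by
  have h : (LinearMap.quotKerEquivOfSurjective _ (scCls_surjective ((cx P Y).sc n))).symm
      (scCls _ z) = Submodule.Quotient.mk z := by
    rw [LinearEquiv.symm_apply_eq]; rfl
  show LinearMap.quotKerEquivOfSurjective _ (cocycleToExt_surjective P n Y)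
    (Submodule.quotEquivOfEq _ (LinearMap.ker (cocycleToExt P n Y)) (by
      ext w; exact (cocycleToExt_eq_zero P n Y w).symm) ((LinearMap.quotKerEquivOfSurjective _
      (scCls_surjective ((cx P Y).sc n))).symm (scCls _ z))) = _
  erw [h]
  rfl

theorem homologyEquiv_mapX (n : ℕ) (g : X' ⟶ X) (φ : ProjectiveResolution.Hom P' P g)
    (x : (cx P Y).homology n) :
    homologyEquiv P' n Y (HomologicalComplex.homologyMap (mapX φ.hom Y) n x) =
      (Abelian.Ext.mk₀ g).comp (homologyEquiv P n Y x) (zero_add n) := by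
  obtain ⟨z, rfl⟩ := scCls_surjective _ x
  let w : cocycles P' n Y := ⟨φ.hom.f n ≫ z.1, by
    have h := (((HomologicalComplex.shortComplexFunctor _ _ n).map (mapX φ.hom Y)).comm₂₃)
    exact (ConcreteCategory.congr_hom h z.1).trans ((congrArg
      ((HomologicalComplex.shortComplexFunctor _ _ n).map (mapX φ.hom Y)).τ₃.hom z.2).trans
      (map_zero _))⟩
  have h2 : HomologicalComplex.homologyMap (mapX φ.hom Y) n (scCls _ z) = scCls _ w :=
    scCls_map ((HomologicalComplex.shortComplexFunctor _ _ n).map (mapX φ.hom Y)) z w rfl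
  rw [h2, homologyEquiv_scCls, homologyEquiv_scCls]
  exact (ProjectiveResolution.mk₀_comp_extMk z.1 (n + 1) rfl (cocycle_cond P z) φ).symm

theorem homologyEquiv_mapY (n : ℕ) (h : Y ⟶ Y') (x : (cx P Y).homology n) :
    homologyEquiv P n Y' (HomologicalComplex.homologyMap (mapY P h) n x) =
      (homologyEquiv P n Y x).comp (Abelian.Ext.mk₀ h) (add_zero n) := by
  obtain ⟨z, rfl⟩ := scCls_surjective _ x
  let w : cocycles P n Y' := ⟨z.1 ≫ h, by
    have hc := (((HomologicalComplex.shortComplexFunctor _ _ n).map (mapY P h)).comm₂₃)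
    exact (ConcreteCategory.congr_hom hc z.1).trans ((congrArg
      ((HomologicalComplex.shortComplexFunctor _ _ n).map (mapY P h)).τ₃.hom z.2).trans
      (map_zero _))⟩
  have h2 : HomologicalComplex.homologyMap (mapY P h) n (scCls _ z) = scCls _ w :=
    scCls_map ((HomologicalComplex.shortComplexFunctor _ _ n).map (mapY P h)) z w rfl
  rw [h2, homologyEquiv_scCls, homologyEquiv_scCls]
  exact (P.extMk_comp_mk₀ z.1 (n + 1) rfl (cocycle_cond P z) h).symm

end Res

/-- `_root_.Ext` agrees with `Abelian.Ext`. -/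
noncomputable def extEquiv (n : ℕ) (X Y : ModuleCat.{u} R) :
    ((Ext R (ModuleCat.{u} R) n).obj (op X)).obj Y ≃ₗ[R] Abelian.Ext X Y n :=
  ((projectiveResolution X).isoExt n Y).toLinearEquiv ≪≫ₗ
    homologyEquiv (projectiveResolution X) n Y

theorem extEquiv_natX (n : ℕ) {X X' : ModuleCat.{u} R} (g : X' ⟶ X) (Y : ModuleCat.{u} R)
    (x : ((Ext R (ModuleCat.{u} R) n).obj (op X)).obj Y) :
    extEquiv n X' Y (((Ext R (ModuleCat.{u} R) n).map g.op).app Y x) =
      (Abelian.Ext.mk₀ g).comp (extEquiv n X Y x) (zero_add n) := by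
  let P := projectiveResolution X
  let P' := projectiveResolution X'
  let φ : ProjectiveResolution.Hom P' P g :=
    { hom := ProjectiveResolution.lift g P' P
      hom_f_zero_comp_π_f_zero := by
        exact (ProjectiveResolution.lift_commutes_zero g P' P).trans
          (congrArg _ (ChainComplex.single₀_map_f_zero g).symm) }
  have h := ConcreteCategory.congr_hom (isoExt_natX P P' (Y := Y) n g φ.hom
    (ProjectiveResolution.lift_commutes_zero g P' P)) x
  exact (congrArg (homologyEquiv P' n Y) h).trans (homologyEquiv_mapX P P' n g φ _)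

theorem extEquiv_natY (n : ℕ) (X : ModuleCat.{u} R) {Y Y' : ModuleCat.{u} R} (h : Y ⟶ Y')
    (x : ((Ext R (ModuleCat.{u} R) n).obj (op X)).obj Y) :
    extEquiv n X Y' (((Ext R (ModuleCat.{u} R) n).obj (op X)).map h x) =
      (extEquiv n X Y x).comp (Abelian.Ext.mk₀ h) (add_zero n) := by
  have e := ConcreteCategory.congr_hom (isoExt_natY (projectiveResolution X) n h) x
  exact (congrArg (homologyEquiv _ n Y') e).trans (homologyEquiv_mapY _ n h _)

end Groth.Agent.LocCohLib
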