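import Groth.Prelude.Def_DualLC
import Groth.Agent.LocCohLib.Bridge
import Mathlib.Algebra.Homology.DerivedCategory.Ext.ExactSequences
import Mathlib.Algebra.Homology.DerivedCategory.Ext.EnoughInjectives
import Mathlib.CategoryTheory.Limits.ConcreteCategory.Filtered
import Mathlib.Algebra.Category.ModuleCat.FilteredColimits

/-!
# Local cohomology: classes, long exact sequence, degree zero

`H^i_I(M)` is handled through the classes `cl I i n x` of `x : Abelian.Ext (R ⧸ I ^ n) M i`.
-/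

set_option autoImplicit false
set_option linter.unusedVariables false

universe u

open CategoryTheory CategoryTheory.Limits Opposite
open CategoryTheory.Abelian (Ext)

namespace Groth.Agent.LocCohLib

variable {R : Type u} [CommRing R]

/-- The module `R ⧸ I ^ n`. -/
noncomputable abbrev qMod (I : Ideal R) (n : ℕ) : ModuleCat.{u} R :=
  (localCohomology.ringModIdeals (localCohomology.idealPowersDiagram I)).obj (op n)

/-- The transition map `R ⧸ I ^ m ⟶ R ⧸ I ^ n`. -/
noncomputable def tr (I : Ideal R) {n m : ℕ} (h : n ≤ m) : qMod I m ⟶ qMod I n :=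
  (localCohomology.ringModIdeals (localCohomology.idealPowersDiagram I)).map (homOfLE h).op

theorem tr_mk (I : Ideal R) {n m : ℕ} (h : n ≤ m) (r : R) :
    tr I h (Submodule.Quotient.mk r) = Submodule.Quotient.mk r := rfl

/-- Precomposition with a morphism of modules, on `Abelian.Ext`. -/
noncomputable def preL {X X' : ModuleCat.{u} R} (g : X' ⟶ X) (Y : ModuleCat.{u} R) (i : ℕ) :
    Ext X Y i →ₗ[R] Ext X' Y i where
  toFun x := (Ext.mk₀ g).comp x (zero_add i)
  map_add' x y := Ext.comp_add _ _ _ _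
  map_smul' r x := Ext.comp_smul _ _ _ _

/-- Postcomposition with an `Ext` class. -/
noncomputable def postL {Y Z : ModuleCat.{u} R} {a : ℕ} (e : Ext Y Z a) (X : ModuleCat.{u} R)
    (i j : ℕ) (h : i + a = j) : Ext X Y i →ₗ[R] Ext X Z j where
  toFun x := x.comp e h
  map_add' x y := Ext.add_comp _ _ _ _
  map_smul' r x := Ext.smul_comp _ _ _ _

instance : PreservesFilteredColimitsOfSize.{0, 0} (forget (ModuleCat.{u} R)) :=
  preservesFilteredColimitsOfSize_shrink.{0, u, 0, u} _

variable (I : Ideal R) (i : ℕ) (M : ModuleCat.{u} R)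

/-- The directed system `n ↦ Ext^i(R ⧸ I ^ n, M)`. -/
noncomputable abbrev sysFun : ℕᵒᵖᵒᵖ ⥤ ModuleCat.{u} R :=
  localCohomology.diagram (localCohomology.idealPowersDiagram I) i ⋙ (evaluation _ _).obj M

/-- The cocone with point `H^i_I(M)`. -/
noncomputable abbrev sysCocone : Cocone (sysFun I i M) :=
  ((evaluation _ _).obj M).mapCocone
    (colimit.cocone (localCohomology.diagram (localCohomology.idealPowersDiagram I) i))

/-- `H^i_I(M)` is the colimit of the system. -/
noncomputable def sysIsColimit : IsColimit (sysCocone I i M) :=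
  isColimitOfPreserves _ (colimit.isColimit _)

/-- The class in `H^i_I(M)` of an element of `Ext^i(R ⧸ I ^ n, M)`. -/
noncomputable def cl (n : ℕ) : Ext (qMod I n) M i →ₗ[R] (localCohomology I i).obj M :=
  ((sysCocone I i M).ι.app (op (op n))).hom ∘ₗ (extEquiv i (qMod I n) M).symm.toLinearMap

variable {I i M}

theorem cl_def (n : ℕ) (x : Ext (qMod I n) M i) :
    cl I i M n x = (sysCocone I i M).ι.app (op (op n)) ((extEquiv i (qMod I n) M).symm x) := rfl

theorem sys_map {n m : ℕ} (h : n ≤ m) (x : Ext (qMod I n) M i) :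
    (sysFun I i M).map (homOfLE h).op.op ((extEquiv i (qMod I n) M).symm x) =
      (extEquiv i (qMod I m) M).symm ((Ext.mk₀ (tr I h)).comp x (zero_add i)) := by
  refine (LinearEquiv.eq_symm_apply _).2 ?_
  exact (extEquiv_natX i (tr I h) M _).trans (by rw [LinearEquiv.apply_symm_apply])

theorem cl_tr {n m : ℕ} (h : n ≤ m) (x : Ext (qMod I n) M i) :
    cl I i M m ((Ext.mk₀ (tr I h)).comp x (zero_add i)) = cl I i M n x := by
  rw [cl_def, cl_def, ← sys_map h]
  exact ConcreteCategory.congr_hom ((sysCocone I i M).w (homOfLE h).op.op) _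

theorem exists_cl (z : (localCohomology I i).obj M) : ∃ n x, cl I i M n x = z := by
  obtain ⟨⟨⟨n⟩⟩, y, hy⟩ := Concrete.isColimit_exists_rep _ (sysIsColimit I i M) z
  refine ⟨n, extEquiv i (qMod I n) M y, ?_⟩
  rw [cl_def]
  exact (congrArg ((sysCocone I i M).ι.app (op (op n)))
    ((extEquiv i (qMod I n) M).symm_apply_apply y)).trans hy

theorem exists_cl_ge (z : (localCohomology I i).obj M) (k : ℕ) :
    ∃ n, k ≤ n ∧ ∃ x, cl I i M n x = z := by
  obtain ⟨n, x, rfl⟩ := exists_cl z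
  exact ⟨max k n, le_max_left _ _, _, cl_tr (le_max_right k n) x⟩

theorem cl_eq_zero_iff {n : ℕ} (x : Ext (qMod I n) M i) :
    cl I i M n x = 0 ↔
      ∃ (m : ℕ) (h : n ≤ m), (Ext.mk₀ (tr I h)).comp x (zero_add i) = 0 := by
  refine ⟨fun h0 => ?_, fun ⟨m, h, hm⟩ => by rw [← cl_tr h, hm, map_zero]⟩
  obtain ⟨⟨⟨m⟩⟩, f, g, hfg⟩ := (Concrete.isColimit_rep_eq_iff_exists (sysFun I i M)
    (i := op (op n)) (j := op (op n)) (sysIsColimit I i M)
    ((extEquiv i (qMod I n) M).symm x) (0 : (sysFun I i M).obj (op (op n)))).1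
      (h0.trans (map_zero _).symm)
  have hnm : n ≤ m := leOfHom f.unop.unop
  refine ⟨m, hnm, ?_⟩
  rw [show f = (homOfLE hnm).op.op from Subsingleton.elim _ _, sys_map hnm, map_zero] at hfg
  exact (extEquiv i (qMod I m) M).symm.map_eq_zero_iff.1 hfg

theorem map_cl {N : ModuleCat.{u} R} (f : M ⟶ N) {n : ℕ} (x : Ext (qMod I n) M i) :
    (localCohomology I i).map f (cl I i M n x) = cl I i N n (x.comp (Ext.mk₀ f) (add_zero i)) := by
  rw [cl_def, cl_def]
  refine (ConcreteCategory.congr_hom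
    (((colimit.ι (localCohomology.diagram (localCohomology.idealPowersDiagram I) i)
      (op (op n))).naturality f)).symm _).trans ?_
  refine congrArg ((sysCocone I i N).ι.app (op (op n))) ?_
  refine (LinearEquiv.eq_symm_apply _).2 ?_
  exact (extEquiv_natY i (qMod I n) f _).trans (by rw [LinearEquiv.apply_symm_apply])

/-- The map `R ⧸ I ^ n ⟶ R ⧸ I' ^ n` for `I ≤ I'`. -/
noncomputable abbrev qLE {I' : Ideal R} (h : I ≤ I') (n : ℕ) : qMod I n ⟶ qMod I' n :=
  (Dual2.quotMapOfLE h).app (op n)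

theorem hmapOfLE_cl {I' : Ideal R} (h : I ≤ I') {n : ℕ} (x : Ext (qMod I' n) M i) :
    ((Dual2.HmapOfLE h i).app M) (cl I' i M n x) =
      cl I i M n ((Ext.mk₀ (qLE h n)).comp x (zero_add i)) := by
  rw [cl_def, cl_def]
  have e := congrArg (fun q => q.app M) (ι_colimMap
    (Functor.whiskerRight (NatTrans.op (Dual2.quotMapOfLE h)) (_root_.Ext R (ModuleCat.{u} R) i))
    (op (op n)))
  refine (ConcreteCategory.congr_hom e _).trans ?_
  refine congrArg ((sysCocone I i M).ι.app (op (op n))) ?_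
  refine (LinearEquiv.eq_symm_apply _).2 ?_
  exact (extEquiv_natX i (qLE h n) M _).trans (by rw [LinearEquiv.apply_symm_apply])

/-! ### The long exact sequence -/

variable {S : ShortComplex (ModuleCat.{u} R)} (hS : S.ShortExact)

/-- The connecting homomorphism. -/
noncomputable def δ (I : Ideal R) (i : ℕ) :
    (localCohomology I i).obj S.X₃ →ₗ[R] (localCohomology I (i + 1)).obj S.X₁ :=
  ((sysIsColimit I i S.X₃).desc (Cocone.mk _
    { app := fun j => ModuleCat.ofHom (cl I (i + 1) S.X₁ j.unop.unop ∘ₗ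
        postL hS.extClass (qMod I j.unop.unop) i (i + 1) rfl ∘ₗ
        (extEquiv i (qMod I j.unop.unop) S.X₃).toLinearMap)
      naturality := fun j k f => by
        ext y
        have hjk : j.unop.unop ≤ k.unop.unop := leOfHom f.unop.unop
        obtain ⟨z, rfl⟩ := (extEquiv i (qMod I j.unop.unop) S.X₃).symm.surjective y
        rw [show f = (homOfLE hjk).op.op from Subsingleton.elim _ _]
        show cl I (i + 1) S.X₁ _ ((extEquiv i (qMod I k.unop.unop) S.X₃
            ((sysFun I i S.X₃).map (homOfLE hjk).op.op _)).comp hS.extClass rfl) =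
          cl I (i + 1) S.X₁ _ ((extEquiv i (qMod I j.unop.unop) S.X₃
            ((extEquiv i (qMod I j.unop.unop) S.X₃).symm z)).comp hS.extClass rfl)
        rw [sys_map hjk, LinearEquiv.apply_symm_apply, LinearEquiv.apply_symm_apply,
          Ext.comp_assoc (Ext.mk₀ (tr I hjk)) z hS.extClass (zero_add i) rfl (by omega),
          cl_tr] })).hom

theorem δ_cl {n : ℕ} (x : Ext (qMod I n) S.X₃ i) :
    δ hS I i (cl I i S.X₃ n x) = cl I (i + 1) S.X₁ n (x.comp hS.extClass rfl) := by
  rw [cl_def, δ]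
  refine (ConcreteCategory.congr_hom ((sysIsColimit I i S.X₃).fac _ (op (op n))) _).trans ?_
  show cl I (i + 1) S.X₁ n ((extEquiv i (qMod I n) S.X₃ _).comp hS.extClass rfl) = _
  rw [LinearEquiv.apply_symm_apply]

theorem map_map_eq_zero (w : (localCohomology I i).obj S.X₁) :
    (localCohomology I i).map S.g ((localCohomology I i).map S.f w) = 0 := by
  obtain ⟨n, x, rfl⟩ := exists_cl w
  rw [map_cl, map_cl, Ext.comp_assoc_of_third_deg_zero, Ext.mk₀_comp_mk₀, S.zero, Ext.mk₀_zero,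
    Ext.comp_zero, map_zero]

theorem δ_map_eq_zero (w : (localCohomology I i).obj S.X₂) :
    δ hS I i ((localCohomology I i).map S.g w) = 0 := by
  obtain ⟨n, x, rfl⟩ := exists_cl w
  rw [map_cl, δ_cl, Ext.comp_assoc_of_second_deg_zero, ShortComplex.ShortExact.comp_extClass,
    Ext.comp_zero, map_zero]

theorem map_δ_eq_zero (w : (localCohomology I i).obj S.X₃) :
    (localCohomology I (i + 1)).map S.f (δ hS I i w) = 0 := by
  obtain ⟨n, x, rfl⟩ := exists_cl w
  rw [δ_cl, map_cl, Ext.comp_assoc_of_third_deg_zero, ShortComplex.ShortExact.extClass_comp,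
    Ext.comp_zero, map_zero]

include hS in
theorem exact₂ (w : (localCohomology I i).obj S.X₂) (h : (localCohomology I i).map S.g w = 0) :
    ∃ v, (localCohomology I i).map S.f v = w := by
  obtain ⟨n, x, rfl⟩ := exists_cl w
  rw [map_cl, cl_eq_zero_iff] at h
  obtain ⟨m, hnm, hm⟩ := h
  rw [← Ext.comp_assoc_of_third_deg_zero] at hm
  obtain ⟨y, hy⟩ := Ext.covariant_sequence_exact₂ _ hS _ hm
  exact ⟨cl I i S.X₁ m y, by rw [map_cl, hy, cl_tr]⟩

theorem exact₃ (w : (localCohomology I i).obj S.X₃) (h : δ hS I i w = 0) :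
    ∃ v, (localCohomology I i).map S.g v = w := by
  obtain ⟨n, x, rfl⟩ := exists_cl w
  rw [δ_cl, cl_eq_zero_iff] at h
  obtain ⟨m, hnm, hm⟩ := h
  rw [← Ext.comp_assoc (Ext.mk₀ (tr I hnm)) x hS.extClass (zero_add i) rfl (by omega)] at hm
  obtain ⟨y, hy⟩ := Ext.covariant_sequence_exact₃ _ hS _ rfl hm
  exact ⟨cl I i S.X₂ m y, by rw [map_cl, hy, cl_tr]⟩

theorem exact₁ (w : (localCohomology I (i + 1)).obj S.X₁)
    (h : (localCohomology I (i + 1)).map S.f w = 0) : ∃ v, δ hS I i v = w := by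
  obtain ⟨n, x, rfl⟩ := exists_cl w
  rw [map_cl, cl_eq_zero_iff] at h
  obtain ⟨m, hnm, hm⟩ := h
  rw [← Ext.comp_assoc_of_third_deg_zero] at hm
  obtain ⟨y, hy⟩ := Ext.covariant_sequence_exact₁ _ hS _ hm rfl
  exact ⟨cl I i S.X₃ m y, by rw [δ_cl, hy, cl_tr]⟩

theorem δ_hmapOfLE {I' : Ideal R} (h : I ≤ I') (w : (localCohomology I' i).obj S.X₃) :
    δ hS I i ((Dual2.HmapOfLE h i).app S.X₃ w) =
      (Dual2.HmapOfLE h (i + 1)).app S.X₁ (δ hS I' i w) := by
  obtain ⟨n, x, rfl⟩ := exists_cl w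
  rw [hmapOfLE_cl, δ_cl, δ_cl, hmapOfLE_cl,
    Ext.comp_assoc (Ext.mk₀ (qLE h n)) x hS.extClass (zero_add i) rfl (by omega)]

/-- Local cohomology of an injective module vanishes in positive degrees. -/
theorem subsingleton_of_injective [Injective M] (k : ℕ) :
    Subsingleton ((localCohomology I (k + 1)).obj M) := by
  refine subsingleton_of_forall_eq 0 fun z => ?_
  obtain ⟨n, x, rfl⟩ := exists_cl z
  rw [Ext.eq_zero_of_injective x, map_zero]

/-! ### Degree zero -/

/-- The element `1` of `R ⧸ I ^ n`. -/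
noncomputable abbrev one' (I : Ideal R) (n : ℕ) : qMod I n :=
  (Submodule.Quotient.mk (1 : R) : R ⧸ I ^ n)

/-- Evaluation at `1`. -/
noncomputable def evalOne (I : Ideal R) (n : ℕ) (M : ModuleCat.{u} R) :
    (qMod I n ⟶ M) →ₗ[R] M where
  toFun f := f (one' I n)
  map_add' f g := rfl
  map_smul' r f := rfl

variable (I M) in
/-- `H^0_I(M) ⟶ M`. -/
noncomputable def h0 : (localCohomology I 0).obj M →ₗ[R] M :=
  ((sysIsColimit I 0 M).desc (Cocone.mk M
    { app := fun j => ModuleCat.ofHom (evalOne I j.unop.unop M ∘ₗ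
        (Ext.linearEquiv₀ (R := R)).toLinearMap ∘ₗ (extEquiv 0 (qMod I j.unop.unop) M).toLinearMap)
      naturality := fun j k f => by
        ext y
        have hjk : j.unop.unop ≤ k.unop.unop := leOfHom f.unop.unop
        obtain ⟨z, rfl⟩ := (extEquiv 0 (qMod I j.unop.unop) M).symm.surjective y
        obtain ⟨g, rfl⟩ := Ext.addEquiv₀.symm.surjective z
        rw [show f = (homOfLE hjk).op.op from Subsingleton.elim _ _]
        show Ext.addEquiv₀ (extEquiv 0 (qMod I k.unop.unop) M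
            ((sysFun I 0 M).map (homOfLE hjk).op.op _)) (one' I k.unop.unop) =
          Ext.addEquiv₀ (extEquiv 0 (qMod I j.unop.unop) M
            ((extEquiv 0 (qMod I j.unop.unop) M).symm _)) (one' I j.unop.unop)
        rw [sys_map hjk, LinearEquiv.apply_symm_apply, LinearEquiv.apply_symm_apply]
        erw [Ext.mk₀_comp_mk₀]
        erw [AddEquiv.apply_symm_apply, AddEquiv.apply_symm_apply]
        rfl })).hom

theorem h0_cl {n : ℕ} (f : qMod I n ⟶ M) : h0 I M (cl I 0 M n (Ext.mk₀ f)) = f (one' I n) := by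
  rw [cl_def, h0]
  refine (ConcreteCategory.congr_hom ((sysIsColimit I 0 M).fac _ (op (op n))) _).trans ?_
  show Ext.addEquiv₀ (extEquiv 0 (qMod I n) M _) (one' I n) = _
  rw [LinearEquiv.apply_symm_apply]
  exact congrArg (fun q : qMod I n ⟶ M => q (one' I n)) (Ext.addEquiv₀.apply_symm_apply f)

theorem exists_cl₀ (z : (localCohomology I 0).obj M) :
    ∃ n, ∃ f : qMod I n ⟶ M, cl I 0 M n (Ext.mk₀ f) = z := by
  obtain ⟨n, x, rfl⟩ := exists_cl z
  exact ⟨n, Ext.addEquiv₀ x, congrArg _ (Ext.mk₀_addEquiv₀_apply x)⟩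

theorem qMod_ext {n : ℕ} {f g : qMod I n ⟶ M} (h : f (one' I n) = g (one' I n)) : f = g := by
  refine ModuleCat.hom_ext (Submodule.linearMap_qext (I ^ n) ?_)
  exact LinearMap.ext_ring h

theorem h0_injective : Function.Injective (h0 I M) := by
  rw [injective_iff_map_eq_zero]
  intro z hz
  obtain ⟨n, f, rfl⟩ := exists_cl₀ z
  rw [h0_cl] at hz
  rw [qMod_ext (g := 0) (hz.trans rfl), Ext.mk₀_zero, map_zero]

theorem h0_mem_range (m : M) :
    (∃ z, h0 I M z = m) ↔ ∃ n : ℕ, ∀ a ∈ I ^ n, a • m = 0 := by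
  constructor
  · rintro ⟨z, rfl⟩
    obtain ⟨n, f, rfl⟩ := exists_cl₀ z
    refine ⟨n, fun a ha => ?_⟩
    rw [h0_cl, ← map_smul]
    refine (congrArg f ?_).trans (map_zero f.hom)
    exact (Submodule.Quotient.mk_eq_zero (I ^ n)).2
      (show a • (1 : R) ∈ I ^ n by rwa [smul_eq_mul, mul_one])
  · rintro ⟨n, hn⟩
    let f : qMod I n ⟶ M := ModuleCat.ofHom (Submodule.liftQ (I ^ n)
      (LinearMap.toSpanSingleton R M m) fun a ha => LinearMap.mem_ker.2 (hn a ha))
    refine ⟨cl I 0 M n (Ext.mk₀ f), ?_⟩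
    rw [h0_cl f]
    exact one_smul R m

theorem h0_map {N : ModuleCat.{u} R} (f : M ⟶ N) (z : (localCohomology I 0).obj M) :
    h0 I N ((localCohomology I 0).map f z) = f (h0 I M z) := by
  obtain ⟨n, g, rfl⟩ := exists_cl₀ z
  rw [map_cl, Ext.mk₀_comp_mk₀, h0_cl, h0_cl]
  rfl

theorem h0_hmapOfLE {I' : Ideal R} (h : I ≤ I') (z : (localCohomology I' 0).obj M) :
    h0 I M ((Dual2.HmapOfLE h 0).app M z) = h0 I' M z := by
  obtain ⟨n, g, rfl⟩ := exists_cl₀ z
  rw [hmapOfLE_cl, Ext.mk₀_comp_mk₀, h0_cl, h0_cl]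
  rfl

end Groth.Agent.LocCohLib
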