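import Groth.Agent.LocCohLib.Basic
import Groth.Prelude.Def_DRing3
import Mathlib.CategoryTheory.Abelian.Injective.Ext

/-!
# Local cohomology from injective resolutions: `H^i_I(M) = H^i(Γ_I(J•))`
-/

set_option autoImplicit false
set_option linter.unusedVariables false

universe u

open CategoryTheory CategoryTheory.Limits Opposite
open CategoryTheory.Abelian (Ext)

namespace Groth.Agent.LocCohLib

variable {R : Type u} [CommRing R] (I : Ideal R) {M : ModuleCat.{u} R}

/-- `Γ_I` applied to a resolution. -/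
noncomputable abbrev gCx (P : InjectiveResolution M) : CochainComplex (ModuleCat.{u} R) ℕ :=
  ((DRing.gammaI I).mapHomologicalComplex _).obj P.cocomplex

/-- The map `R ⧸ I ^ n ⟶ N` attached to an element killed by `I ^ n`. -/
noncomputable def homTo {N : ModuleCat.{u} R} (n : ℕ) (m : N) (h : ∀ a ∈ I ^ n, a • m = 0) :
    qMod I n ⟶ N :=
  ModuleCat.ofHom (Submodule.liftQ (I ^ n) (LinearMap.toSpanSingleton R N m)
    fun a ha => LinearMap.mem_ker.2 (h a ha))

theorem homTo_one {N : ModuleCat.{u} R} (n : ℕ) (m : N) (h : ∀ a ∈ I ^ n, a • m = 0) :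
    homTo I n m h (one' I n) = m := one_smul R m

variable {I} (P : InjectiveResolution M) {i : ℕ}

/-- Cocycles of `Γ_I(J•)`. -/
noncomputable abbrev gCocycles (I : Ideal R) (P : InjectiveResolution M) (i : ℕ) :=
  LinearMap.ker ((gCx I P).sc i).g.hom

/-- The underlying element of a cocycle. -/
noncomputable def gVal (z : gCocycles I P i) : P.cocomplex.X i :=
  (z.1 : DRing.torsionSub I (P.cocomplex.X i)).1

theorem gVal_add (z w : gCocycles I P i) : gVal P (z + w) = gVal P z + gVal P w := rfl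

theorem gVal_smul (r : R) (z : gCocycles I P i) : gVal P (r • z) = r • gVal P z := rfl

theorem gVal_torsion (z : gCocycles I P i) : ∃ n : ℕ, ∀ a ∈ I ^ n, a • gVal P z = 0 :=
  (z.1 : DRing.torsionSub I (P.cocomplex.X i)).2

theorem d_gVal (z : gCocycles I P i) : P.cocomplex.d i (i + 1) (gVal P z) = 0 := by
  have h : (gCx I P).d i ((ComplexShape.up ℕ).next i) z.1 = 0 := z.2
  rw [CochainComplex.next] at h
  exact congrArg Subtype.val h

theorem homTo_d (z : gCocycles I P i) (n : ℕ) (h : ∀ a ∈ I ^ n, a • gVal P z = 0) :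
    homTo I n (gVal P z) h ≫ P.cocomplex.d i (i + 1) = 0 :=
  qMod_ext ((congrArg (P.cocomplex.d i (i + 1)) (homTo_one I n _ h)).trans (d_gVal P z))

/-- The class attached to a cocycle and a bound on its annihilator. -/
noncomputable def clAt (z : gCocycles I P i) (n : ℕ) (h : ∀ a ∈ I ^ n, a • gVal P z = 0) :
    (localCohomology I i).obj M :=
  cl I i M n (P.extMk (homTo I n (gVal P z) h) (i + 1) rfl (homTo_d P z n h))

theorem extMk_congr {X : ModuleCat.{u} R} {k : ℕ} {f g : X ⟶ P.cocomplex.X k} (h : f = g)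
    (hf : f ≫ P.cocomplex.d k (k + 1) = 0) (hg : g ≫ P.cocomplex.d k (k + 1) = 0) :
    P.extMk f (k + 1) rfl hf = P.extMk g (k + 1) rfl hg := by
  subst h
  rfl

theorem tr_comp_homTo {N : ModuleCat.{u} R} {n k : ℕ} (hk : n ≤ k) (m : N)
    (h : ∀ a ∈ I ^ n, a • m = 0) (h' : ∀ a ∈ I ^ k, a • m = 0) :
    tr I hk ≫ homTo I n m h = homTo I k m h' :=
  qMod_ext ((homTo_one I n m h).trans (homTo_one I k m h').symm)

theorem clAt_mono (z : gCocycles I P i) {n k : ℕ} (hk : n ≤ k)
    (h : ∀ a ∈ I ^ n, a • gVal P z = 0) (h' : ∀ a ∈ I ^ k, a • gVal P z = 0) :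
    clAt P z k h' = clAt P z n h := by
  rw [clAt, clAt, ← cl_tr hk, InjectiveResolution.mk₀_comp_extMk]
  simp only [tr_comp_homTo hk _ h h']

theorem clAt_eq (z : gCocycles I P i) (n k : ℕ) (h : ∀ a ∈ I ^ n, a • gVal P z = 0)
    (h' : ∀ a ∈ I ^ k, a • gVal P z = 0) : clAt P z n h = clAt P z k h' := by
  have h'' : ∀ a ∈ I ^ max n k, a • gVal P z = 0 := fun a ha =>
    h a (Ideal.pow_le_pow_right (le_max_left n k) ha)
  rw [← clAt_mono P z (le_max_left n k) h h'', ← clAt_mono P z (le_max_right n k) h' h'']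

theorem clAt_add (z w : gCocycles I P i) (n : ℕ) (hn : ∀ a ∈ I ^ n, a • gVal P z = 0)
    (hk : ∀ a ∈ I ^ n, a • gVal P w = 0) (hs : ∀ a ∈ I ^ n, a • gVal P (z + w) = 0) :
    clAt P (z + w) n hs = clAt P z n hn + clAt P w n hk := by
  have e : homTo I n (gVal P (z + w)) hs = homTo I n (gVal P z) hn + homTo I n (gVal P w) hk :=
    qMod_ext ((homTo_one I n _ hs).trans
      ((congrArg₂ (· + ·) (homTo_one I n _ hn) (homTo_one I n _ hk)).symm))
  have e2 := P.add_extMk (homTo I n (gVal P z) hn) (homTo I n (gVal P w) hk) (i + 1) rfl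
    (homTo_d P z n hn) (homTo_d P w n hk)
  refine (congrArg (cl I i M n) ?_).trans (map_add (cl I i M n) _ _)
  rw [e2]
  exact extMk_congr P e _ _

theorem clAt_smul (r : R) (z : gCocycles I P i) (n : ℕ) (hn : ∀ a ∈ I ^ n, a • gVal P z = 0)
    (hr : ∀ a ∈ I ^ n, a • gVal P (r • z) = 0) :
    clAt P (r • z) n hr = r • clAt P z n hn := by
  have e : homTo I n (gVal P (r • z)) hr = (r • 𝟙 (qMod I n)) ≫ homTo I n (gVal P z) hn := by
    refine qMod_ext ((homTo_one I n _ hr).trans ?_)
    show r • gVal P z = homTo I n (gVal P z) hn (r • one' I n)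
    rw [map_smul, homTo_one]
  have h1 := P.mk₀_comp_extMk (homTo I n (gVal P z) hn) (i + 1) rfl (homTo_d P z n hn)
    (r • 𝟙 (qMod I n))
  rw [Ext.mk₀_smul, Ext.smul_comp, Ext.mk₀_id_comp] at h1
  refine (congrArg (cl I i M n) ?_).trans (map_smul (cl I i M n) r _)
  rw [h1]
  exact extMk_congr P e _ _

/-- The class of a cocycle. -/
noncomputable def toH (I : Ideal R) (P : InjectiveResolution M) (i : ℕ) :
    gCocycles I P i →ₗ[R] (localCohomology I i).obj M where
  toFun z := clAt P z (Classical.choose (gVal_torsion P z)) (Classical.choose_spec (gVal_torsion P z))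
  map_add' z w := by
    obtain ⟨n, hn⟩ := gVal_torsion P z
    obtain ⟨k, hk⟩ := gVal_torsion P w
    have hn' : ∀ a ∈ I ^ (n + k), a • gVal P z = 0 := fun a ha =>
      hn a (Ideal.pow_le_pow_right (Nat.le_add_right n k) ha)
    have hk' : ∀ a ∈ I ^ (n + k), a • gVal P w = 0 := fun a ha =>
      hk a (Ideal.pow_le_pow_right (Nat.le_add_left k n) ha)
    have hs : ∀ a ∈ I ^ (n + k), a • gVal P (z + w) = 0 := fun a ha => by
      rw [gVal_add, smul_add, hn' a ha, hk' a ha, add_zero]
    exact ((clAt_eq P (z + w) _ _ _ hs).trans (clAt_add P z w _ hn' hk' hs)).trans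
      (congrArg₂ (· + ·) (clAt_eq P z _ _ hn' _) (clAt_eq P w _ _ hk' _))
  map_smul' r z := by
    obtain ⟨n, hn⟩ := gVal_torsion P z
    have hr : ∀ a ∈ I ^ n, a • gVal P (r • z) = 0 := fun a ha => by
      rw [gVal_smul, smul_comm, hn a ha, smul_zero]
    exact ((clAt_eq P (r • z) _ _ _ hr).trans (clAt_smul P r z _ hn hr)).trans
      (congrArg (r • ·) (clAt_eq P z _ _ hn _))

theorem toH_eq (z : gCocycles I P i) (n : ℕ) (h : ∀ a ∈ I ^ n, a • gVal P z = 0) :
    toH I P i z = clAt P z n h := clAt_eq P z _ _ _ _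

theorem qMod_smul_eq_zero {N : ModuleCat.{u} R} {n : ℕ} (f : qMod I n ⟶ N) (a : R)
    (ha : a ∈ I ^ n) : a • f (one' I n) = 0 := by
  rw [← map_smul]
  refine (congrArg f ?_).trans (map_zero f.hom)
  exact (Submodule.Quotient.mk_eq_zero (I ^ n)).2
    (show a • (1 : R) ∈ I ^ n by rwa [smul_eq_mul, mul_one])

/-- A cocycle from a torsion element killed by the differential. -/
theorem exists_cocycle (x : P.cocomplex.X i) (n : ℕ) (h : ∀ a ∈ I ^ n, a • x = 0)
    (hd : P.cocomplex.d i (i + 1) x = 0) : ∃ z : gCocycles I P i, gVal P z = x := by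
  refine ⟨⟨⟨x, n, h⟩, ?_⟩, rfl⟩
  show (gCx I P).d i ((ComplexShape.up ℕ).next i) (⟨x, n, h⟩ : DRing.torsionSub I _) = 0
  rw [CochainComplex.next]
  exact Subtype.ext hd

theorem toH_surjective : Function.Surjective (toH I P i) := by
  intro y
  obtain ⟨n, x, rfl⟩ := exists_cl y
  obtain ⟨f, hf, rfl⟩ := P.extMk_surjective x (i + 1) rfl
  obtain ⟨z, hz⟩ := exists_cocycle P (f (one' I n)) n (qMod_smul_eq_zero f)
    (ConcreteCategory.congr_hom hf (one' I n))
  have h : ∀ a ∈ I ^ n, a • gVal P z = 0 := fun a ha => by rw [hz]; exact qMod_smul_eq_zero f a ha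
  refine ⟨z, ?_⟩
  rw [toH_eq P z n h, clAt]
  exact congrArg (cl I i M n) (extMk_congr P (qMod_ext ((homTo_one I n _ h).trans hz)) _ _)

theorem extMk_inj_zero {X : ModuleCat.{u} R} (f : X ⟶ P.cocomplex.X 0)
    (hf : f ≫ P.cocomplex.d 0 1 = 0) (h : P.extMk f 1 rfl hf = 0) : f = 0 := by
  rw [← P.extEquivCohomologyClass.apply_eq_iff_eq, P.extEquivCohomologyClass_extMk,
    P.extEquivCohomologyClass_zero, CochainComplex.HomComplex.CohomologyClass.mk_eq_zero_iff,
    CochainComplex.HomComplex.Cocycle.fromSingleMk_mem_coboundaries_iff _ _ _ _ _ (-1 : ℤ)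
      (by simp)] at h
  obtain ⟨g, hg⟩ := h
  rw [(CochainComplex.isZero_of_isStrictlyGE P.cochainComplex 0 (-1)).eq_of_tgt g 0,
    zero_comp] at hg
  rw [← cancel_mono (P.cochainComplexXIso 0 0 rfl).inv, zero_comp]
  exact hg.symm

theorem toH_eq_zero (z : gCocycles I P i) :
    toH I P i z = 0 ↔ scCls _ z = 0 := by
  rw [scCls_eq_zero]
  obtain ⟨n, hn⟩ := gVal_torsion P z
  rw [toH_eq P z n hn, clAt, cl_eq_zero_iff]
  show _ ↔ ∃ y, (gCx I P).d ((ComplexShape.up ℕ).prev i) i y = z.1
  cases i with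
  | zero =>
    rw [CochainComplex.prev_nat_zero, HomologicalComplex.shape _ 0 0 (by simp)]
    constructor
    · rintro ⟨m, hm, h⟩
      rw [InjectiveResolution.mk₀_comp_extMk] at h
      have h0 := extMk_inj_zero P _ _ h
      refine ⟨0, Subtype.ext ?_⟩
      exact ((homTo_one I n _ hn).symm.trans (ConcreteCategory.congr_hom h0 (one' I m))).symm
    · rintro ⟨y, hy⟩
      refine ⟨n, le_rfl, ?_⟩
      have h0 : homTo I n (gVal P z) hn = 0 :=
        qMod_ext ((homTo_one I n _ hn).trans (congrArg Subtype.val hy).symm)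
      rw [InjectiveResolution.mk₀_comp_extMk]
      simp only [h0, comp_zero]
      exact P.extMk_zero 1 rfl
  | succ k =>
    rw [CochainComplex.prev_nat_succ]
    constructor
    · rintro ⟨m, hm, h⟩
      rw [InjectiveResolution.mk₀_comp_extMk, P.extMk_eq_zero_iff _ _ rfl _ k rfl] at h
      obtain ⟨g, hg⟩ := h
      refine ⟨⟨g (one' I m), m, qMod_smul_eq_zero g⟩, Subtype.ext ?_⟩
      exact (ConcreteCategory.congr_hom hg (one' I m)).trans (homTo_one I n _ hn)
    · rintro ⟨⟨y, m, hy⟩, hyz⟩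
      refine ⟨max n m, le_max_left n m, ?_⟩
      rw [InjectiveResolution.mk₀_comp_extMk, P.extMk_eq_zero_iff _ _ rfl _ k rfl]
      refine ⟨homTo I (max n m) y fun a ha =>
        hy a (Ideal.pow_le_pow_right (le_max_right n m) ha), qMod_ext ?_⟩
      refine ((congrArg (P.cocomplex.d k (k + 1)) (homTo_one I _ y _)).trans
        (congrArg Subtype.val hyz)).trans ?_
      exact (homTo_one I n _ hn).symm

/-- `H^i_I(M) = H^i(Γ_I(J•))`. -/
noncomputable def gammaEquiv (I : Ideal R) (P : InjectiveResolution M) (i : ℕ) :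
    (gCx I P).homology i ≃ₗ[R] (localCohomology I i).obj M :=
  (LinearMap.quotKerEquivOfSurjective _ (scCls_surjective ((gCx I P).sc i))).symm ≪≫ₗ
    Submodule.quotEquivOfEq _ (LinearMap.ker (toH I P i)) (by
      ext z; exact (toH_eq_zero P z).symm) ≪≫ₗ
    LinearMap.quotKerEquivOfSurjective _ (toH_surjective P)

theorem gammaEquiv_scCls (z : gCocycles I P i) :
    gammaEquiv I P i (scCls _ z) = toH I P i z := by
  have h : (LinearMap.quotKerEquivOfSurjective _ (scCls_surjective ((gCx I P).sc i))).symm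
      (scCls _ z) = Submodule.Quotient.mk z := by
    rw [LinearEquiv.symm_apply_eq]; rfl
  show LinearMap.quotKerEquivOfSurjective _ (toH_surjective P)
    (Submodule.quotEquivOfEq _ (LinearMap.ker (toH I P i)) (by
      ext w; exact (toH_eq_zero P w).symm) ((LinearMap.quotKerEquivOfSurjective _
      (scCls_surjective ((gCx I P).sc i))).symm (scCls _ z))) = _
  erw [h]
  rfl

theorem gammaEquiv_map {N : ModuleCat.{u} R} {Q : InjectiveResolution N} {f : M ⟶ N}
    (φ : InjectiveResolution.Hom P Q f) (x : (gCx I P).homology i) :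
    gammaEquiv I Q i (HomologicalComplex.homologyMap
        (((DRing.gammaI I).mapHomologicalComplex _).map φ.hom) i x) =
      (localCohomology I i).map f (gammaEquiv I P i x) := by
  obtain ⟨z, rfl⟩ := scCls_surjective _ x
  obtain ⟨n, hn⟩ := gVal_torsion P z
  have hn' : ∀ a ∈ I ^ n, a • φ.hom.f i (gVal P z) = 0 := fun a ha => by
    rw [← map_smul, hn a ha, map_zero]
  obtain ⟨w, hw⟩ := exists_cocycle Q (φ.hom.f i (gVal P z)) n hn'
    ((ConcreteCategory.congr_hom (φ.hom.comm i (i + 1)) (gVal P z)).trans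
      ((congrArg (φ.hom.f (i + 1)) (d_gVal P z)).trans (map_zero _)))
  have h2 : HomologicalComplex.homologyMap (((DRing.gammaI I).mapHomologicalComplex _).map φ.hom) i
      (scCls _ z) = scCls _ w :=
    scCls_map ((HomologicalComplex.shortComplexFunctor _ _ i).map
      (((DRing.gammaI I).mapHomologicalComplex _).map φ.hom)) z w (Subtype.ext hw.symm)
  have hw' : ∀ a ∈ I ^ n, a • gVal Q w = 0 := fun a ha => by rw [hw]; exact hn' a ha
  rw [h2, gammaEquiv_scCls, gammaEquiv_scCls, toH_eq P z n hn, toH_eq Q w n hw', clAt, clAt, map_cl,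
    InjectiveResolution.extMk_comp_mk₀ _ _ _ _ φ]
  exact congrArg (cl I i N n) (extMk_congr Q (qMod_ext (((homTo_one I n _ hw').trans hw).trans
    (congrArg (φ.hom.f i) (homTo_one I n _ hn)).symm)) _ _)

/-- Inclusion of torsion for a larger ideal. -/
noncomputable def gammaIncl {I' : Ideal R} (h : I ≤ I') : DRing.gammaI I' ⟶ DRing.gammaI I where
  app N := ModuleCat.ofHom (Submodule.inclusion (p := DRing.torsionSub I' N)
    (p' := DRing.torsionSub I N) fun _ ⟨n, hn⟩ =>
      ⟨n, fun a ha => hn a (Ideal.pow_right_mono h n ha)⟩)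
  naturality _ _ _ := rfl

theorem gammaEquiv_incl {I' : Ideal R} (h : I ≤ I') (x : (gCx I' P).homology i) :
    gammaEquiv I P i (HomologicalComplex.homologyMap
        ((NatTrans.mapHomologicalComplex (gammaIncl h) _).app P.cocomplex) i x) =
      (Dual2.HmapOfLE h i).app M (gammaEquiv I' P i x) := by
  obtain ⟨z, rfl⟩ := scCls_surjective _ x
  obtain ⟨n, hn⟩ := gVal_torsion P z
  have hn' : ∀ a ∈ I ^ n, a • gVal P z = 0 := fun a ha => hn a (Ideal.pow_right_mono h n ha)
  obtain ⟨w, hw⟩ := exists_cocycle P (gVal P z) n hn' (d_gVal P z)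
  have h2 : HomologicalComplex.homologyMap
      ((NatTrans.mapHomologicalComplex (gammaIncl h) _).app P.cocomplex) i (scCls _ z) =
        scCls _ w :=
    scCls_map ((HomologicalComplex.shortComplexFunctor _ _ i).map
      ((NatTrans.mapHomologicalComplex (gammaIncl h) _).app P.cocomplex)) z w (Subtype.ext hw.symm)
  have hw' : ∀ a ∈ I ^ n, a • gVal P w = 0 := fun a ha => by rw [hw]; exact hn' a ha
  rw [h2, gammaEquiv_scCls, gammaEquiv_scCls, toH_eq P z n hn, toH_eq P w n hw', clAt, clAt,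
    hmapOfLE_cl, InjectiveResolution.mk₀_comp_extMk]
  exact congrArg (cl I i M n)
    (extMk_congr P (qMod_ext (((homTo_one I n _ hw').trans hw).trans (homTo_one I' n _ hn).symm)) _ _)

end Groth.Agent.LocCohLib
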