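import Groth.Agent.LocCohLib.LocFunctor
import Groth.Agent.LocCohLib.Resolution
import Mathlib.Algebra.Homology.HomologySequence
import Mathlib.CategoryTheory.Abelian.Injective.Resolution
import Mathlib.Algebra.Category.ModuleCat.EnoughInjectives
import Mathlib.Algebra.Homology.HomologicalComplexAbelian

/-!
# The sequence `H^i_{a + (b)}(M) → H^i_a(M) → H^i_a(M_b) → H^{i+1}_{a + (b)}(M)`
-/

set_option autoImplicit false
set_option linter.unusedVariables false
set_option linter.style.haveILetI false

universe u

open CategoryTheory CategoryTheory.Limits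

namespace Groth.Agent.LocCohLib

variable {R : Type u} [CommRing R] [IsNoetherianRing R] (a : Ideal R) (b : R)

theorem mem_torsionSub_sup {a a' : Ideal R} {M : Type u} [AddCommGroup M] [Module R M] (x : M) :
    x ∈ DRing.torsionSub (a ⊔ a') M ↔ x ∈ DRing.torsionSub a M ∧ x ∈ DRing.torsionSub a' M := by
  show (∃ n : ℕ, ∀ r ∈ (a ⊔ a') ^ n, r • x = 0) ↔
    (∃ n : ℕ, ∀ r ∈ a ^ n, r • x = 0) ∧ ∃ n : ℕ, ∀ r ∈ a' ^ n, r • x = 0
  rw [exists_pow_iff_le_radical, exists_pow_iff_le_radical, exists_pow_iff_le_radical, sup_le_iff]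

variable {M : ModuleCat.{u} R} (P : InjectiveResolution M)

/-- `Γ_{a + (b)}(J•) → Γ_a(J•) → Γ_a(J•_b)`. -/
noncomputable def locShort : ShortComplex (CochainComplex (ModuleCat.{u} R) ℕ) :=
  ShortComplex.mk
    ((NatTrans.mapHomologicalComplex (gammaIncl (le_sup_left : a ≤ a ⊔ Ideal.span {b})) _).app P.cocomplex)
    (((DRing.gammaI a).mapHomologicalComplex _).map (locResolutionHom b P).hom) (by
      refine HomologicalComplex.hom_ext _ _ fun n =>
        ModuleCat.hom_ext (LinearMap.ext fun x => Subtype.ext ?_)
      exact (toLoc_mem_torsionSub_span_iff b (P.cocomplex.X n) _).2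
        ((mem_torsionSub_sup _).1 (x : DRing.torsionSub (a ⊔ Ideal.span {b}) (P.cocomplex.X n)).2).2)

theorem locShort_shortExact : (locShort a b P).ShortExact := by
  refine HomologicalComplex.shortExact_of_degreewise_shortExact _ fun n => ?_
  haveI : Injective (ModuleCat.of R (P.cocomplex.X n)) := P.injective n
  haveI : Module.Injective R (P.cocomplex.X n) := Module.injective_module_of_injective_object R _
  exact
    { exact := (ShortComplex.ShortExact.moduleCat_exact_iff_function_exact _).2
        fun (x : DRing.torsionSub a (P.cocomplex.X n)) => ⟨fun h => by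
          refine ⟨(⟨x.1, (mem_torsionSub_sup _).2 ⟨x.2,
            (toLoc_mem_torsionSub_span_iff b (P.cocomplex.X n) _).1 (congrArg Subtype.val h)⟩⟩ :
              DRing.torsionSub (a ⊔ Ideal.span {b}) (P.cocomplex.X n)), Subtype.ext rfl⟩, by
          rintro ⟨y, rfl⟩
          exact Subtype.ext ((toLoc_mem_torsionSub_span_iff b (P.cocomplex.X n) _).2
            ((mem_torsionSub_sup _).1 (y : DRing.torsionSub (a ⊔ Ideal.span {b}) (P.cocomplex.X n)).2).2)⟩
      mono_f := (ModuleCat.mono_iff_injective _).2 fun x y h =>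
        Subtype.ext (congrArg (fun q : DRing.torsionSub a (P.cocomplex.X n) => q.1) h)
      epi_g := (ModuleCat.epi_iff_surjective _).2
        fun (y : DRing.torsionSub a ((locFun b).obj (P.cocomplex.X n))) => by
          obtain ⟨k, hk⟩ := y.2
          obtain ⟨j, hj, hjy⟩ := exists_lift (A := R) (J := P.cocomplex.X n) (a ^ k) (Submonoid.powers b)
            (y.1 : LocalizedModule (Submonoid.powers b) (P.cocomplex.X n)) hk
          exact ⟨(⟨j, k, hj⟩ : DRing.torsionSub a (P.cocomplex.X n)), Subtype.ext hjy⟩ }

/-- The connecting map. -/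
noncomputable def locδ (M : ModuleCat.{u} R) (i : ℕ) :
    (localCohomology a i).obj ((locFun b).obj M) →ₗ[R]
      (localCohomology (a ⊔ Ideal.span {b}) (i + 1)).obj M :=
  (gammaEquiv _ (injectiveResolution M) (i + 1)).toLinearMap ∘ₗ
    ((locShort_shortExact a b (injectiveResolution M)).δ i (i + 1) rfl).hom ∘ₗ
    (gammaEquiv a (locResolution b (injectiveResolution M)) i).symm.toLinearMap

theorem locδ_apply (M : ModuleCat.{u} R) (i : ℕ)
    (x : (gCx a (locResolution b (injectiveResolution M))).homology i) :
    locδ a b M i (gammaEquiv a (locResolution b (injectiveResolution M)) i x) =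
      gammaEquiv _ (injectiveResolution M) (i + 1)
        ((locShort_shortExact a b (injectiveResolution M)).δ i (i + 1) rfl x) :=
  congrArg (fun z => gammaEquiv _ (injectiveResolution M) (i + 1)
      ((locShort_shortExact a b (injectiveResolution M)).δ i (i + 1) rfl z))
    ((gammaEquiv a (locResolution b (injectiveResolution M)) i).symm_apply_apply x)

variable {a b}

theorem hmap_f (i : ℕ) (x : (gCx (a ⊔ Ideal.span {b}) P).homology i) :
    gammaEquiv a P i (HomologicalComplex.homologyMap (locShort a b P).f i x) =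
      (Dual2.HmapOfLE (le_sup_left : a ≤ a ⊔ Ideal.span {b}) i).app M (gammaEquiv _ P i x) :=
  gammaEquiv_incl P _ x

theorem hmap_g (i : ℕ) (x : (gCx a P).homology i) :
    gammaEquiv a (locResolution b P) i (HomologicalComplex.homologyMap (locShort a b P).g i x) =
      (localCohomology a i).map ((toLoc b).app M) (gammaEquiv a P i x) :=
  gammaEquiv_map P (locResolutionHom b P) x

variable (a b) (M)

/-- `H^0_{a+(b)} → H^0_a` is injective. -/
theorem loc_injective_zero :
    Function.Injective ((Dual2.HmapOfLE (le_sup_left : a ≤ a ⊔ Ideal.span {b}) 0).app M).hom :=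
  fun u v h => h0_injective ((h0_hmapOfLE _ u).symm.trans
    ((congrArg (h0 a M) h).trans (h0_hmapOfLE _ v)))

theorem loc_exact₂ (i : ℕ) :
    Function.Exact ((Dual2.HmapOfLE (le_sup_left : a ≤ a ⊔ Ideal.span {b}) i).app M).hom
      ((localCohomology a i).map ((toLoc b).app M)).hom := by
  have h := (ShortComplex.ShortExact.moduleCat_exact_iff_function_exact _).1
    ((locShort_shortExact a b (injectiveResolution M)).homology_exact₂ i)
  intro y
  obtain ⟨y, rfl⟩ := (gammaEquiv a (injectiveResolution M) i).surjective y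
  constructor
  · intro hy
    obtain ⟨x, rfl⟩ := (h y).1 ((gammaEquiv a _ i).map_eq_zero_iff.1 ((hmap_g _ i y).trans hy))
    exact ⟨gammaEquiv _ _ i x, (hmap_f _ i x).symm⟩
  · rintro ⟨x, hx⟩
    obtain ⟨x, rfl⟩ := (gammaEquiv _ (injectiveResolution M) i).surjective x
    have e : HomologicalComplex.homologyMap (locShort a b (injectiveResolution M)).f i x = y :=
      (gammaEquiv a _ i).injective ((hmap_f _ i x).trans hx)
    refine (hmap_g _ i y).symm.trans ?_
    rw [show HomologicalComplex.homologyMap (locShort a b (injectiveResolution M)).g i y = 0 from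
      (h y).2 ⟨x, e⟩]
    exact map_zero _

theorem loc_exact₃ (i : ℕ) :
    Function.Exact ((localCohomology a i).map ((toLoc b).app M)).hom (locδ a b M i) := by
  have h := (ShortComplex.ShortExact.moduleCat_exact_iff_function_exact _).1
    ((locShort_shortExact a b (injectiveResolution M)).homology_exact₃ i (i + 1) rfl)
  intro y
  obtain ⟨y, rfl⟩ := (gammaEquiv a (locResolution b (injectiveResolution M)) i).surjective y
  constructor
  · intro hy
    rw [locδ_apply] at hy
    have hy := (gammaEquiv (a ⊔ Ideal.span {b}) (injectiveResolution M) (i + 1)).map_eq_zero_iff.1 hy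
    obtain ⟨x, rfl⟩ := (h y).1 hy
    exact ⟨gammaEquiv _ _ i x, (hmap_g _ i x).symm⟩
  · rintro ⟨x, hx⟩
    obtain ⟨x, rfl⟩ := (gammaEquiv a (injectiveResolution M) i).surjective x
    have e : HomologicalComplex.homologyMap (locShort a b (injectiveResolution M)).g i x = y :=
      (gammaEquiv a _ i).injective ((hmap_g _ i x).trans hx)
    rw [locδ_apply]
    exact (gammaEquiv (a ⊔ Ideal.span {b}) (injectiveResolution M) (i + 1)).map_eq_zero_iff.2
      ((h y).2 ⟨x, e⟩)

theorem loc_exact₁ (i : ℕ) :
    Function.Exact (locδ a b M i)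
      ((Dual2.HmapOfLE (le_sup_left : a ≤ a ⊔ Ideal.span {b}) (i + 1)).app M).hom := by
  have h := (ShortComplex.ShortExact.moduleCat_exact_iff_function_exact _).1
    ((locShort_shortExact a b (injectiveResolution M)).homology_exact₁ i (i + 1) rfl)
  intro y
  obtain ⟨y, rfl⟩ := (gammaEquiv _ (injectiveResolution M) (i + 1)).surjective y
  constructor
  · intro hy
    obtain ⟨x, rfl⟩ := (h y).1 ((gammaEquiv a _ (i + 1)).map_eq_zero_iff.1 ((hmap_f _ _ y).trans hy))
    refine ⟨gammaEquiv a (locResolution b (injectiveResolution M)) i x, ?_⟩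
    exact locδ_apply a b M i x
  · rintro ⟨x, hx⟩
    obtain ⟨x, rfl⟩ := (gammaEquiv a (locResolution b (injectiveResolution M)) i).surjective x
    rw [locδ_apply] at hx
    refine (hmap_f _ (i + 1) y).symm.trans ?_
    rw [show HomologicalComplex.homologyMap (locShort a b (injectiveResolution M)).f (i + 1) y = 0 from
      (h y).2 ⟨x, (gammaEquiv _ _ (i + 1)).injective hx⟩]
    exact map_zero _

end Groth.Agent.LocCohLib
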