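import Groth.Agent.LocCohLib.Shift
import Groth.Prelude.Def_DRing3
import Mathlib.RingTheory.Filtration

/-!
# Torsion modules are acyclic; `H^0_I = Γ_I`
-/

set_option autoImplicit false

universe u

open CategoryTheory CategoryTheory.Limits
open CategoryTheory.Abelian (Ext)

namespace Groth.Agent.LocCohLib

variable {R : Type u} [CommRing R] {I : Ideal R}

/-- `H^i_I(M)` is `I`-power torsion. -/
theorem isPowerTorsion_H (i : ℕ) (M : ModuleCat.{u} R) :
    LocCoh.IsPowerTorsion I ((localCohomology I i).obj M) := by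
  intro z
  obtain ⟨n, x, rfl⟩ := exists_cl z
  refine ⟨n, fun a ha => ?_⟩
  have h : a • 𝟙 (qMod I n) = 0 := by
    refine qMod_ext ?_
    show a • one' I n = 0
    exact (Submodule.Quotient.mk_eq_zero (I ^ n)).2
      (show a • (1 : R) ∈ I ^ n by rwa [smul_eq_mul, mul_one])
  have h1 : a • x = (Ext.mk₀ (a • 𝟙 (qMod I n))).comp x (zero_add i) := by
    rw [Ext.mk₀_smul, Ext.smul_comp, Ext.mk₀_id_comp]
  rw [← map_smul, h1, h, Ext.mk₀_zero, Ext.zero_comp, map_zero]

/-- `H^0_I(M) ≅ Γ_I(M)`. -/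
noncomputable def h0Equiv (I : Ideal R) (M : ModuleCat.{u} R) :
    (localCohomology I 0).obj M ≃ₗ[R] DRing.torsionSub I M :=
  LinearEquiv.ofBijective ((h0 I M).codRestrict (DRing.torsionSub I M) fun z =>
      (h0_mem_range _).1 ⟨z, rfl⟩)
    ⟨fun x y h => h0_injective (congrArg Subtype.val h), fun m => by
      obtain ⟨z, hz⟩ := (h0_mem_range m.1).2 m.2
      exact ⟨z, Subtype.ext hz⟩⟩

theorem exists_pow_le_annihilator_of_fg {T : Type u} [AddCommGroup T] [Module R T]
    (hT : LocCoh.IsPowerTorsion I T) {W : Submodule R T} (hW : W.FG) :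
    ∃ k : ℕ, I ^ k ≤ W.annihilator := by
  classical
  obtain ⟨s, rfl⟩ := hW
  refine ⟨s.sup fun x => (hT x).choose, fun a ha => ?_⟩
  rw [Submodule.mem_annihilator_span]
  intro x
  exact (hT x.1).choose_spec a
    (Ideal.pow_le_pow_right (Finset.le_sup (f := fun x => (hT x).choose) x.2) ha)

variable [IsNoetherianRing R]

/-- Over a Noetherian ring the torsion of an injective module is injective. -/
theorem injective_torsionSub (J : Type u) [AddCommGroup J] [Module R J] [Module.Injective R J]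
    (I : Ideal R) : Module.Injective R (DRing.torsionSub I J) := by
  rw [← Module.Baer.iff_injective]
  intro a φ
  have hT : LocCoh.IsPowerTorsion I (DRing.torsionSub I J) := fun x => by
    obtain ⟨n, hn⟩ := x.2
    exact ⟨n, fun r hr => Subtype.ext (hn r hr)⟩
  obtain ⟨k, hk⟩ := exists_pow_le_annihilator_of_fg hT
    (W := LinearMap.range φ) (by
      rw [LinearMap.range_eq_map]
      exact Submodule.FG.map φ (Module.finite_def.1 inferInstance))
  obtain ⟨k₀, hk₀⟩ := I.exists_pow_inf_eq_pow_smul (M := R) a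
  let m := k + k₀
  have hker : LinearMap.ker ((I ^ m).mkQ ∘ₗ a.subtype) ≤
      LinearMap.ker ((DRing.torsionSub I J).subtype ∘ₗ φ) := by
    intro x hx
    rw [LinearMap.mem_ker, LinearMap.comp_apply, Submodule.mkQ_apply,
      Submodule.Quotient.mk_eq_zero] at hx
    have h1 : (x : R) ∈ I ^ k • a := by
      have h2 : (x : R) ∈ I ^ (m - k₀) • (I ^ k₀ • (⊤ : Submodule R R) ⊓ a) := by
        rw [← hk₀ m (by omega)]
        exact ⟨by rw [smul_eq_mul, Ideal.mul_top]; exact hx, x.2⟩
      rw [show m - k₀ = k by omega] at h2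
      exact Submodule.smul_mono le_rfl inf_le_right h2
    have h3 : ∀ y : R, y ∈ I ^ k • a → ∃ h : y ∈ a, φ ⟨y, h⟩ = 0 := by
      intro y hy
      refine Submodule.smul_induction_on (p := fun y => ∃ h : y ∈ a, φ ⟨y, h⟩ = 0) hy ?_ ?_
      · intro r hr b hb
        refine ⟨a.smul_mem r hb, ?_⟩
        rw [show (⟨r • b, a.smul_mem r hb⟩ : a) = r • ⟨b, hb⟩ from rfl, map_smul]
        exact Submodule.mem_annihilator.1 (hk hr) _ ⟨_, rfl⟩
      · rintro y₁ y₂ ⟨h₁, e₁⟩ ⟨h₂, e₂⟩
        refine ⟨add_mem h₁ h₂, ?_⟩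
        rw [show (⟨y₁ + y₂, add_mem h₁ h₂⟩ : a) = ⟨y₁, h₁⟩ + ⟨y₂, h₂⟩ from rfl, map_add, e₁, e₂,
          add_zero]
    obtain ⟨_, h4⟩ := h3 x h1
    rw [LinearMap.mem_ker, LinearMap.comp_apply, h4, map_zero]
  obtain ⟨ψ, hψ⟩ := Module.Injective.out (R := R) (Q := J)
    ((LinearMap.ker _).liftQ ((I ^ m).mkQ ∘ₗ a.subtype) le_rfl) (by
      rw [← LinearMap.ker_eq_bot, Submodule.ker_liftQ_eq_bot _ _ _ le_rfl])
    ((LinearMap.ker _).liftQ ((DRing.torsionSub I J).subtype ∘ₗ φ) hker)
  refine ⟨(ψ ∘ₗ (I ^ m).mkQ).codRestrict _ fun r => ⟨m, fun s hs => ?_⟩, fun x hx => Subtype.ext ?_⟩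
  · rw [LinearMap.comp_apply, ← map_smul, ← map_smul]
    refine (congrArg ψ ((Submodule.Quotient.mk_eq_zero (I ^ m)).2 ?_)).trans (map_zero ψ)
    exact Ideal.mul_mem_right r _ hs
  · exact hψ (Submodule.Quotient.mk ⟨x, hx⟩)

/-- An injection of a torsion module into a torsion injective module. -/
theorem exists_torsion_seq (N : ModuleCat.{u} R) (hN : LocCoh.IsPowerTorsion I N) :
    ∃ (T : ModuleCat.{u} R) (f : N ⟶ T), Injective T ∧ Mono f ∧ LocCoh.IsPowerTorsion I T := by
  let J : ModuleCat.{u} R := Injective.under N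
  haveI : Injective J := inferInstanceAs (Injective (Injective.under N))
  haveI : Injective (ModuleCat.of R J) := (inferInstance : Injective J)
  haveI : Module.Injective R J := Module.injective_module_of_injective_object R _
  haveI := injective_torsionSub (R := R) J I
  refine ⟨ModuleCat.of R (DRing.torsionSub I J), ModuleCat.ofHom ((Injective.ι N : N ⟶ J).hom.codRestrict
    (DRing.torsionSub I J) fun x => ?_), Module.injective_object_of_injective_module R _, ?_, ?_⟩
  · obtain ⟨n, hn⟩ := hN x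
    exact ⟨n, fun a ha => by rw [← map_smul, hn a ha, map_zero]⟩
  · exact (ModuleCat.mono_iff_injective _).2 fun x y h =>
      (ModuleCat.mono_iff_injective (Injective.ι N : N ⟶ J)).1 inferInstance
        (congrArg (fun q : DRing.torsionSub I J => (q : J)) h)
  · intro x
    obtain ⟨n, hn⟩ := (x : DRing.torsionSub I J).2
    exact ⟨n, fun r hr => Subtype.ext (hn r hr)⟩

/-- A torsion module has no higher local cohomology. -/
theorem subsingleton_of_isPowerTorsion : ∀ (k : ℕ) (N : ModuleCat.{u} R),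
    LocCoh.IsPowerTorsion I N → Subsingleton ((localCohomology I (k + 1)).obj N) := by
  intro k
  induction k with
  | zero =>
    intro N hN
    obtain ⟨T, f, hTi, hf, hT⟩ := exists_torsion_seq N hN
    let S := ShortComplex.mk f (cokernel.π f) (cokernel.condition f)
    have hS : S.ShortExact := { exact := ShortComplex.exact_cokernel f }
    haveI : Injective S.X₂ := hTi
    refine subsingleton_of_forall_eq 0 fun w => ?_
    obtain ⟨v, rfl⟩ := δ_surjective (S := S) hS 0 w
    obtain ⟨t, ht⟩ := (ModuleCat.epi_iff_surjective S.g).1 hS.epi_g (h0 I S.X₃ v)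
    obtain ⟨u, hu⟩ := (h0_mem_range (I := I) t).2 (hT t)
    rw [show v = (localCohomology I 0).map S.g u from h0_injective (by rw [h0_map, hu, ht])]
    exact δ_map_eq_zero hS u
  | succ k ih =>
    intro N hN
    obtain ⟨T, f, hTi, hf, hT⟩ := exists_torsion_seq N hN
    let S := ShortComplex.mk f (cokernel.π f) (cokernel.condition f)
    have hS : S.ShortExact := { exact := ShortComplex.exact_cokernel f }
    haveI : Injective S.X₂ := hTi
    have hQ : LocCoh.IsPowerTorsion I S.X₃ := fun y => by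
      obtain ⟨t, rfl⟩ := (ModuleCat.epi_iff_surjective S.g).1 hS.epi_g y
      obtain ⟨n, hn⟩ := hT t
      exact ⟨n, fun r hr => by rw [← map_smul, hn r hr, map_zero]⟩
    haveI := ih S.X₃ hQ
    exact (δ_surjective (S := S) (I := I) hS (k + 1)).subsingleton

end Groth.Agent.LocCohLib
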