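import Groth.Prelude.Def_DerCA
import Groth.Agent.LocCohLib.LocSequence
import Groth.Agent.LocCohLib.Torsion
import Mathlib.Algebra.Homology.DerivedCategory.ExactFunctor
import Mathlib.Algebra.Homology.DerivedCategory.HomologySequence
import Mathlib.Algebra.Homology.DerivedCategory.ShortExact
import Mathlib.Algebra.Homology.Embedding.ExtendHomology
import Mathlib.CategoryTheory.Abelian.Injective.Extend

/-!
# The extended Čech complex computes local cohomology
-/

set_option autoImplicit false
set_option linter.style.haveILetI false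
set_option linter.unusedVariables false

universe u

open CategoryTheory CategoryTheory.Limits

attribute [local instance] HasDerivedCategory.standard

namespace Groth.Agent.LocCohLib

variable {R : Type u} [CommRing R]

instance preservesHomology_locFunctor (S : Submonoid R) :
    (DerCA.locFunctor.{u} (R := R) S).PreservesHomology :=
  (DerCA.locFunctor S).preservesHomology_of_map_exact fun C hC =>
    (ShortComplex.ShortExact.moduleCat_exact_iff_function_exact _).2
      (IsLocalizedModule.map_exact S (LocalizedModule.mkLinearMap S C.X₁) (LocalizedModule.mkLinearMap S C.X₂)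
        (LocalizedModule.mkLinearMap S C.X₃) _ _
        ((ShortComplex.ShortExact.moduleCat_exact_iff_function_exact C).1 hC))

instance preservesFiniteLimits_locFunctor (S : Submonoid R) :
    PreservesFiniteLimits (DerCA.locFunctor.{u} (R := R) S) :=
  (DerCA.locFunctor S).preservesFiniteLimits_of_preservesHomology

instance preservesFiniteColimits_locFunctor (S : Submonoid R) :
    PreservesFiniteColimits (DerCA.locFunctor.{u} (R := R) S) :=
  (DerCA.locFunctor S).preservesFiniteColimits_of_preservesHomology

/-- Localisation maps of complexes, naturally. -/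
noncomputable def cxUnit (S : Submonoid R) : 𝟭 (DRing.Cx R) ⟶ DerCA.locCx S where
  app K := DerCA.locCxUnit S K
  naturality K L φ := HomologicalComplex.hom_ext _ _ fun n => (DerCA.locUnit S).naturality (φ.f n)

/-- The localisation map in the derived category. -/
noncomputable def dUnit (S : Submonoid R) :
    𝟭 (DerivedCategory (ModuleCat.{u} R)) ⟶ (DerCA.locFunctor S).mapDerivedCategory :=
  letI : Localization.Lifting DerivedCategory.Q
      (HomologicalComplex.quasiIso (ModuleCat.{u} R) (ComplexShape.up ℤ))
      DerivedCategory.Q (𝟭 (DerivedCategory (ModuleCat.{u} R))) := ⟨Functor.rightUnitor _⟩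
  Localization.liftNatTrans DerivedCategory.Q
    (HomologicalComplex.quasiIso (ModuleCat.{u} R) (ComplexShape.up ℤ))
    DerivedCategory.Q (DerCA.locCx S ⋙ DerivedCategory.Q) _ _
    (Functor.whiskerRight (cxUnit S) DerivedCategory.Q)

theorem dUnit_app (S : Submonoid R) (K : DRing.Cx R) :
    (dUnit S).app (DerivedCategory.Q.obj K) ≫ (DerCA.locFunctor S).mapDerivedCategoryFactors.hom.app K =
      DerivedCategory.Q.map (DerCA.locCxUnit S K) := by
  letI : Localization.Lifting DerivedCategory.Q
      (HomologicalComplex.quasiIso (ModuleCat.{u} R) (ComplexShape.up ℤ))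
      DerivedCategory.Q (𝟭 (DerivedCategory (ModuleCat.{u} R))) := ⟨Functor.rightUnitor _⟩
  have h := Localization.liftNatTrans_app DerivedCategory.Q
    (HomologicalComplex.quasiIso (ModuleCat.{u} R) (ComplexShape.up ℤ))
    DerivedCategory.Q (DerCA.locCx S ⋙ DerivedCategory.Q) (𝟭 (DerivedCategory (ModuleCat.{u} R)))
    ((DerCA.locFunctor S).mapDerivedCategory) (Functor.whiskerRight (cxUnit S) DerivedCategory.Q) K
  refine (congrArg (fun q => q ≫ (DerCA.locFunctor S).mapDerivedCategoryFactors.hom.app K) h).trans ?_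
  show ((𝟙 _) ≫ DerivedCategory.Q.map (DerCA.locCxUnit S K) ≫
    (DerCA.locFunctor S).mapDerivedCategoryFactors.inv.app K) ≫ _ = _
  rw [Category.id_comp, Category.assoc]
  simp

/-- Transport of the localisation map along an isomorphism. -/
noncomputable def locTransport (S : Submonoid R) {K L : DRing.Cx R}
    (e : DerivedCategory.Q.obj K ≅ DerivedCategory.Q.obj L) :
    DerivedCategory.Q.obj ((DerCA.locCx S).obj K) ≅ DerivedCategory.Q.obj ((DerCA.locCx S).obj L) :=
  ((DerCA.locFunctor S).mapDerivedCategoryFactors.app K).symm ≪≫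
    (DerCA.locFunctor S).mapDerivedCategory.mapIso e ≪≫
    (DerCA.locFunctor S).mapDerivedCategoryFactors.app L

theorem locTransport_comm (S : Submonoid R) {K L : DRing.Cx R}
    (e : DerivedCategory.Q.obj K ≅ DerivedCategory.Q.obj L) :
    DerivedCategory.Q.map (DerCA.locCxUnit S K) ≫ (locTransport S e).hom =
      e.hom ≫ DerivedCategory.Q.map (DerCA.locCxUnit S L) := by
  rw [← dUnit_app, ← dUnit_app]
  have h := (dUnit S).naturality e.hom
  simp only [locTransport, Iso.trans_hom, Iso.symm_hom, Iso.app_inv, Iso.app_hom, Functor.mapIso_hom,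
    Category.assoc, Iso.hom_inv_id_app_assoc, Functor.id_map] at h ⊢
  exact (Category.assoc _ _ _).symm.trans
    ((congrArg (· ≫ (DerCA.locFunctor S).mapDerivedCategoryFactors.hom.app L) h.symm).trans
      (Category.assoc _ _ _))

/-- The fibre of the localisation map is unique. -/
theorem nonempty_coconeIso (S : Submonoid R) {C : ShortComplex (DRing.Cx R)} (hC : C.ShortExact)
    (e₃ : (DerCA.locCx S).obj C.X₂ ≅ C.X₃) (hg : DerCA.locCxUnit S C.X₂ ≫ e₃.hom = C.g) (K : DRing.Cx R)
    (e : DerivedCategory.Q.obj K ≅ DerivedCategory.Q.obj C.X₂) :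
    Nonempty (DerivedCategory.Q.obj (CochainComplex.mappingCocone (DerCA.locCxUnit S K)) ≅
      DerivedCategory.Q.obj C.X₁) := by
  let φ := DerCA.locCxUnit S K
  have h₁ := DerivedCategory.mappingCone_triangle_distinguished φ
  have h₂ := Pretriangulated.rot_of_distTriang _ (DerivedCategory.triangleOfSES_distinguished hC)
  let e₂ : DerivedCategory.Q.obj ((DerCA.locCx S).obj K) ≅ DerivedCategory.Q.obj C.X₃ :=
    locTransport S e ≪≫ DerivedCategory.Q.mapIso e₃
  let T := Pretriangulated.isoTriangleOfIso₁₂ _ _ h₁ h₂ e e₂ (by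
    show DerivedCategory.Q.map φ ≫ e₂.hom = e.hom ≫ DerivedCategory.Q.map C.g
    rw [← hg, Functor.map_comp, Iso.trans_hom, ← Category.assoc, ← Category.assoc, locTransport_comm]
    rfl)
  let e₄ : DerivedCategory.Q.obj (CochainComplex.mappingCone φ) ≅
      (DerivedCategory.Q.obj C.X₁)⟦(1 : ℤ)⟧ := Pretriangulated.Triangle.π₃.mapIso T
  exact ⟨(DerivedCategory.Q.commShiftIso (-1 : ℤ)).app (CochainComplex.mappingCone φ) ≪≫
    (shiftFunctor _ (-1 : ℤ)).mapIso e₄ ≪≫
    (shiftFunctorCompIsoId _ (1 : ℤ) (-1) (by omega)).app (DerivedCategory.Q.obj C.X₁)⟩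

theorem mapExtend_aux (F : ModuleCat.{u} R ⥤ ModuleCat.{u} R) {A A' B B' C D : ModuleCat.{u} R}
    (p : A ≅ A') (q : B ≅ B') (d : A' ⟶ B') (r : C ≅ F.obj A') (s : D ≅ F.obj B') :
    (F.map p.hom ≫ r.inv) ≫ (r.hom ≫ F.map d ≫ s.inv) = F.map (p.hom ≫ d ≫ q.inv) ≫ F.map q.hom ≫ s.inv := by
  simp only [Category.assoc, Iso.inv_hom_id_assoc, Functor.map_comp]
  rw [← F.map_comp_assoc q.inv q.hom, Iso.inv_hom_id, CategoryTheory.Functor.map_id, Category.id_comp]

theorem mapExtend_comm (F : ModuleCat.{u} R ⥤ ModuleCat.{u} R) [F.Additive]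
    (K : CochainComplex (ModuleCat.{u} R) ℕ) (n m : ℤ) (a b : ℕ)
    (ha : ComplexShape.embeddingUpNat.f a = n) (hb : ComplexShape.embeddingUpNat.f b = m) :
    (F.mapIso (K.extendXIso ComplexShape.embeddingUpNat ha) ≪≫
        (((F.mapHomologicalComplex (ComplexShape.up ℕ)).obj K).extendXIso
          ComplexShape.embeddingUpNat ha).symm).hom ≫
      (((F.mapHomologicalComplex (ComplexShape.up ℕ)).obj K).extend ComplexShape.embeddingUpNat).d n m =
    F.map ((K.extend ComplexShape.embeddingUpNat).d n m) ≫
      (F.mapIso (K.extendXIso ComplexShape.embeddingUpNat hb) ≪≫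
        (((F.mapHomologicalComplex (ComplexShape.up ℕ)).obj K).extendXIso
          ComplexShape.embeddingUpNat hb).symm).hom := by
  rw [HomologicalComplex.extend_d_eq _ _ ha hb, HomologicalComplex.extend_d_eq _ _ ha hb]
  exact mapExtend_aux F (K.extendXIso ComplexShape.embeddingUpNat ha)
    (K.extendXIso ComplexShape.embeddingUpNat hb) (K.d a b)
    (((F.mapHomologicalComplex (ComplexShape.up ℕ)).obj K).extendXIso ComplexShape.embeddingUpNat ha)
    (((F.mapHomologicalComplex (ComplexShape.up ℕ)).obj K).extendXIso ComplexShape.embeddingUpNat hb)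

open scoped Classical in
/-- A functor commutes with extension by zero. -/
noncomputable def mapExtendIso (F : ModuleCat.{u} R ⥤ ModuleCat.{u} R) [F.Additive]
    (K : CochainComplex (ModuleCat.{u} R) ℕ) :
    (F.mapHomologicalComplex (ComplexShape.up ℤ)).obj (K.extend ComplexShape.embeddingUpNat) ≅
      ((F.mapHomologicalComplex (ComplexShape.up ℕ)).obj K).extend ComplexShape.embeddingUpNat :=
  HomologicalComplex.Hom.isoOfComponents
    (fun n => if h : 0 ≤ n then
        F.mapIso (K.extendXIso ComplexShape.embeddingUpNat (i := n.toNat) (Int.toNat_of_nonneg h)) ≪≫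
          (((F.mapHomologicalComplex (ComplexShape.up ℕ)).obj K).extendXIso ComplexShape.embeddingUpNat
            (i := n.toNat) (Int.toNat_of_nonneg h)).symm
      else IsZero.iso
        (F.map_isZero (K.isZero_extend_X _ _ fun i (hi : (i : ℤ) = n) => h (hi ▸ Int.natCast_nonneg i)))
        (((F.mapHomologicalComplex (ComplexShape.up ℕ)).obj K).isZero_extend_X _ _
          fun i (hi : (i : ℤ) = n) => h (hi ▸ Int.natCast_nonneg i)))
    (fun i j (hij : i + 1 = j) => by
      by_cases hi : 0 ≤ i
      · obtain ⟨k, rfl⟩ := Int.eq_ofNat_of_zero_le hi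
        obtain rfl : j = ((k + 1 : ℕ) : ℤ) := by omega
        rw [dif_pos hi, dif_pos (Int.natCast_nonneg (k + 1))]
        exact mapExtend_comm F K _ _ _ _ _ _
      · exact (F.map_isZero (K.isZero_extend_X _ _
          fun l (hl : (l : ℤ) = i) => hi (hl ▸ Int.natCast_nonneg l))).eq_of_src _ _)

variable [IsNoetherianRing R]

/-- `Γ_a` of a resolution, indexed by `ℤ`. -/
noncomputable abbrev gCxZ (a : Ideal R) {M : ModuleCat.{u} R} (P : InjectiveResolution M) : DRing.Cx R :=
  ((DRing.gammaI a).mapHomologicalComplex (ComplexShape.up ℤ)).obj P.cochainComplex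

/-- `Γ_{a+(b)} → Γ_a → (Γ_a)_b`. -/
noncomputable def gLocShort (a : Ideal R) (b : R) {M : ModuleCat.{u} R} (P : InjectiveResolution M) :
    ShortComplex (DRing.Cx R) :=
  ShortComplex.mk
    ((NatTrans.mapHomologicalComplex (gammaIncl (le_sup_left : a ≤ a ⊔ Ideal.span {b}))
      (ComplexShape.up ℤ)).app P.cochainComplex)
    (DerCA.locCxUnit (Submonoid.powers b) (gCxZ a P)) (by
      refine HomologicalComplex.hom_ext _ _ fun n => ModuleCat.hom_ext (LinearMap.ext fun x => ?_)
      obtain ⟨k, hk⟩ := ((mem_torsionSub_sup _).1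
        (x : DRing.torsionSub (a ⊔ Ideal.span {b}) (P.cochainComplex.X n)).2).2
      refine (IsLocalizedModule.eq_zero_iff (Submonoid.powers b)
        (LocalizedModule.mkLinearMap (Submonoid.powers b) _)).2 ⟨⟨b ^ k, k, rfl⟩, Subtype.ext ?_⟩
      exact hk _ (Ideal.pow_mem_pow (Ideal.mem_span_singleton_self b) k))

theorem gLocShort_shortExact (a : Ideal R) (b : R) {M : ModuleCat.{u} R} (P : InjectiveResolution M) :
    (gLocShort a b P).ShortExact := by
  refine HomologicalComplex.shortExact_of_degreewise_shortExact _ fun n => ?_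
  haveI : Injective (ModuleCat.of R (P.cochainComplex.X n)) :=
    (inferInstance : Injective (P.cochainComplex.X n))
  haveI : Module.Injective R (P.cochainComplex.X n) := Module.injective_module_of_injective_object R _
  haveI : Module.Injective R (DRing.torsionSub a (P.cochainComplex.X n)) :=
    injective_torsionSub (P.cochainComplex.X n) a
  exact
    { exact := (ShortComplex.ShortExact.moduleCat_exact_iff_function_exact _).2
        fun (x : DRing.torsionSub a (P.cochainComplex.X n)) => ⟨fun h => by
          obtain ⟨⟨_, k, rfl⟩, hk⟩ := (IsLocalizedModule.eq_zero_iff (Submonoid.powers b)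
            (LocalizedModule.mkLinearMap (Submonoid.powers b) (DRing.torsionSub a (P.cochainComplex.X n)))).1 h
          refine ⟨(⟨x.1, (mem_torsionSub_sup _).2 ⟨x.2, k, fun r hr => ?_⟩⟩ :
              DRing.torsionSub (a ⊔ Ideal.span {b}) (P.cochainComplex.X n)), Subtype.ext rfl⟩
          rw [Ideal.span_singleton_pow, Ideal.mem_span_singleton] at hr
          obtain ⟨c, rfl⟩ := hr
          rw [mul_comm, mul_smul, show b ^ k • x.1 = 0 from congrArg Subtype.val hk, smul_zero], by
          rintro ⟨y, rfl⟩
          exact ConcreteCategory.congr_hom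
            (HomologicalComplex.congr_hom (gLocShort a b P).zero n) y⟩
      mono_f := (ModuleCat.mono_iff_injective _).2 fun x y h =>
        Subtype.ext (congrArg (fun q : DRing.torsionSub a (P.cochainComplex.X n) => q.1) h)
      epi_g := (ModuleCat.epi_iff_surjective _).2
        fun (y : LocalizedModule (Submonoid.powers b) (DRing.torsionSub a (P.cochainComplex.X n))) => by
          obtain ⟨j, -, hj⟩ := exists_lift (A := R) (J := DRing.torsionSub a (P.cochainComplex.X n)) ⊥
            (Submonoid.powers b) y (fun r hr => by rw [Ideal.mem_bot.1 hr, zero_smul])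
          exact ⟨j, hj⟩ }

/-- The Čech complex is `Γ_I` of an injective resolution. -/
theorem nonempty_extCechIso {M : ModuleCat.{u} R} (P : InjectiveResolution M) : ∀ fs : List R,
    Nonempty (DerivedCategory.Q.obj (DerCA.extCech M fs) ≅
      DerivedCategory.Q.obj (gCxZ (Ideal.span {x | x ∈ fs}) P)) := by
  intro fs
  induction fs with
  | nil =>
    have hset : {x : R | x ∈ ([] : List R)} = ∅ := Set.eq_empty_iff_forall_notMem.2 fun x hx => List.not_mem_nil hx
    rw [hset, Ideal.span_empty]
    let i : gCxZ (⊥ : Ideal R) P ≅ P.cochainComplex :=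
      HomologicalComplex.Hom.isoOfComponents
        (fun n => (LinearEquiv.ofTop (DRing.torsionSub (⊥ : Ideal R) (P.cochainComplex.X n))
          (eq_top_iff.2 fun x _ => ⟨1, fun c hc => by
            rw [pow_one, Ideal.mem_bot] at hc
            rw [hc, zero_smul]⟩)).toModuleIso)
        (fun n m _ => rfl)
    exact ⟨(@asIso _ _ _ _ (DerivedCategory.Q.map P.ι') ((DerivedCategory.isIso_Q_map_iff_quasiIso (C := ModuleCat.{u} R) P.ι').2 inferInstance)) ≪≫ (DerivedCategory.Q.mapIso i).symm⟩
  | cons f fs ih =>
    obtain ⟨e⟩ := ih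
    have hset : Ideal.span {x : R | x ∈ f :: fs} = Ideal.span {x | x ∈ fs} ⊔ Ideal.span {f} := by
      rw [← Ideal.span_union]
      congr 1
      ext x
      simp [or_comm]
    rw [hset]
    exact nonempty_coconeIso (Submonoid.powers f) (gLocShort_shortExact (Ideal.span {x | x ∈ fs}) f P)
      (Iso.refl _) (Category.comp_id _) (DerCA.extCech M fs) e

/-- The extended Čech complex computes local cohomology. -/
theorem nonempty_extCechHIso (M : ModuleCat.{u} R) (fs : List R) (i : ℕ) :
    Nonempty (DerCA.extCechH fs M (i : ℤ) ≅ (localCohomology (Ideal.span {x | x ∈ fs}) i).obj M) := by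
  let P := injectiveResolution M
  obtain ⟨e⟩ := nonempty_extCechIso P fs
  exact ⟨((DerivedCategory.homologyFunctorFactors (ModuleCat.{u} R) (i : ℤ)).app _).symm ≪≫
    (DerivedCategory.homologyFunctor (ModuleCat.{u} R) (i : ℤ)).mapIso e ≪≫
    (DerivedCategory.homologyFunctorFactors (ModuleCat.{u} R) (i : ℤ)).app _ ≪≫
    (HomologicalComplex.homologyFunctor (ModuleCat.{u} R) (ComplexShape.up ℤ) (i : ℤ)).mapIso
      (mapExtendIso (DRing.gammaI _) P.cocomplex) ≪≫
    (gCx _ P).extendHomologyIso ComplexShape.embeddingUpNat rfl ≪≫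
    (gammaEquiv _ P i).toModuleIso⟩

end Groth.Agent.LocCohLib
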