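import Groth.Agent.LocCohLib.Bridge
import Mathlib.Algebra.Category.ModuleCat.Colimits
import Mathlib.Algebra.Category.ModuleCat.Injective
import Mathlib.Algebra.Homology.HomotopyCategory.HomComplexCohomology
import Mathlib.Algebra.Homology.HomotopyCategory.HomComplexSingle
import Mathlib.Algebra.Homology.HomotopyCategory.KInjective
import Mathlib.Algebra.Homology.HomotopyCategory.KProjective
import Mathlib.Algebra.Homology.HomologySequence
import Mathlib.RingTheory.Flat.Basic
import Mathlib.Algebra.Homology.HomologicalComplexAbelian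

/-!
# The complex of homomorphisms between complexes of modules
-/

set_option autoImplicit false
set_option linter.style.haveILetI false

universe u

open CategoryTheory CategoryTheory.Limits CochainComplex CochainComplex.HomComplex

namespace Groth.Agent.LocCohLib

variable {S : Type u} [CommRing S]

/-- Cochain complexes of modules. -/
abbrev MCx (S : Type u) [CommRing S] := CochainComplex (ModuleCat.{u} S) ℤ

/-- The complex `Hom(X, L)` of modules. -/
noncomputable def homCx (X L : MCx S) : MCx S where
  X n := ModuleCat.of S (Cochain X L n)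
  d i j := ModuleCat.ofHom (δ_hom S X L i j)
  shape i j h := ModuleCat.hom_ext (LinearMap.ext fun z => δ_shape i j h z)
  d_comp_d' i j k _ _ := ModuleCat.hom_ext (LinearMap.ext fun z => δ_δ i j k z)

theorem homCx_d (X L : MCx S) (i j : ℤ) (z : Cochain X L i) : (homCx X L).d i j z = δ i j z := rfl

/-- Precomposition. -/
noncomputable def homCxPre {X Y : MCx S} (f : X ⟶ Y) (L : MCx S) : homCx Y L ⟶ homCx X L where
  f n := ModuleCat.ofHom
    { toFun := fun z : Cochain Y L n => (Cochain.ofHom f).comp z (zero_add n)
      map_add' := fun _ _ => Cochain.comp_add _ _ _ _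
      map_smul' := fun _ _ => Cochain.comp_smul _ _ _ _ }
  comm' i j _ := ModuleCat.hom_ext (LinearMap.ext fun z => δ_ofHom_comp f z j)

/-- Postcomposition. -/
noncomputable def homCxPost (X : MCx S) {L M : MCx S} (g : L ⟶ M) : homCx X L ⟶ homCx X M where
  f n := ModuleCat.ofHom
    { toFun := fun z : Cochain X L n => z.comp (Cochain.ofHom g) (add_zero n)
      map_add' := fun _ _ => Cochain.add_comp _ _ _ _
      map_smul' := fun _ _ => Cochain.smul_comp _ _ _ _ }
  comm' i j _ := ModuleCat.hom_ext (LinearMap.ext fun z => δ_comp_ofHom z g j)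

theorem homCxPre_apply {X Y : MCx S} (f : X ⟶ Y) (L : MCx S) (n : ℤ) (z : Cochain Y L n) (p q : ℤ)
    (h : p + n = q) : ((homCxPre f L).f n z : Cochain X L n).v p q h = f.f p ≫ z.v p q h :=
  Cochain.zero_cochain_comp_v _ _ _ _ _ |>.trans (by rw [Cochain.ofHom_v])

theorem homCxPost_apply (X : MCx S) {L M : MCx S} (g : L ⟶ M) (n : ℤ) (z : Cochain X L n) (p q : ℤ)
    (h : p + n = q) : ((homCxPost X g).f n z : Cochain X M n).v p q h = z.v p q h ≫ g.f q :=
  Cochain.comp_zero_cochain_v _ _ _ _ _ |>.trans (by rw [Cochain.ofHom_v])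

/-- The contravariant short exact sequence. -/
noncomputable abbrev homShortPre (C : ShortComplex (MCx S)) (L : MCx S) : ShortComplex (MCx S) :=
  ShortComplex.mk (homCxPre C.g L) (homCxPre C.f L) (HomologicalComplex.hom_ext _ _ fun n =>
    ModuleCat.hom_ext (LinearMap.ext fun (z : Cochain C.X₃ L n) => by
      show (homCxPre C.f L).f n ((homCxPre C.g L).f n z) = (0 : Cochain C.X₁ L n)
      refine Cochain.ext _ _ fun p q h => ?_
      refine (homCxPre_apply C.f L n _ p q h).trans ?_
      refine (congrArg (fun t => C.f.f p ≫ t) (homCxPre_apply C.g L n z p q h)).trans ?_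
      rw [← Category.assoc, ← HomologicalComplex.comp_f, C.zero]
      simp))

theorem homShortPre_shortExact {C : ShortComplex (MCx S)} (hC : C.ShortExact) (L : MCx S)
    [∀ q, Injective (L.X q)] : (homShortPre C L).ShortExact := by
  have hd : ∀ p, (C.map (HomologicalComplex.eval _ _ p)).ShortExact := fun p => hC.map_of_exact _
  refine HomologicalComplex.shortExact_of_degreewise_shortExact _ fun n => ?_
  exact
    { exact := (ShortComplex.ShortExact.moduleCat_exact_iff_function_exact _).2
        fun (z : Cochain C.X₂ L n) => ⟨fun hz => by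
          haveI : ∀ p, Epi (C.g.f p) := fun p => (hd p).epi_g
          refine ⟨Cochain.mk fun p q h => (haveI : Epi (C.map (HomologicalComplex.eval _ _ p)).g := (hd p).epi_g; (hd p).exact.desc (z.v p q h) ?_), Cochain.ext _ _ fun p q h => ?_⟩
          · exact (homCxPre_apply C.f L n z p q h).symm.trans
              (congrArg (fun w : Cochain C.X₁ L n => w.v p q h) hz)
          · refine (homCxPre_apply C.g L n _ p q h).trans ?_
            haveI : Epi (C.map (HomologicalComplex.eval _ _ p)).g := (hd p).epi_g
            exact (congrArg (fun t => C.g.f p ≫ t) (Cochain.mk_v _ p q h)).trans ((hd p).exact.g_desc _ _), by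
          rintro ⟨w, rfl⟩
          exact ConcreteCategory.congr_hom (HomologicalComplex.congr_hom (homShortPre C L).zero n) w⟩
      mono_f := (ModuleCat.mono_iff_injective _).2 fun (z w : Cochain C.X₃ L n) h => by
        refine Cochain.ext _ _ fun p q hpq => ?_
        haveI : Epi (C.g.f p) := (hd p).epi_g
        exact (cancel_epi (C.g.f p)).1 ((homCxPre_apply C.g L n z p q hpq).symm.trans
          ((congrArg (fun v : Cochain C.X₂ L n => v.v p q hpq) h).trans (homCxPre_apply C.g L n w p q hpq)))
      epi_g := (ModuleCat.epi_iff_surjective _).2 fun (z : Cochain C.X₁ L n) => by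
        haveI : ∀ p, Mono (C.f.f p) := fun p => (hd p).mono_f
        refine ⟨Cochain.mk fun p q h => Injective.factorThru (z.v p q h) (C.f.f p), Cochain.ext _ _ fun p q h => ?_⟩
        refine (homCxPre_apply C.f L n _ p q h).trans ?_
        rw [Cochain.mk_v, Injective.comp_factorThru] }

/-- The covariant short exact sequence. -/
noncomputable abbrev homShortPost (X : MCx S) (C : ShortComplex (MCx S)) : ShortComplex (MCx S) :=
  ShortComplex.mk (homCxPost X C.f) (homCxPost X C.g) (HomologicalComplex.hom_ext _ _ fun n =>
    ModuleCat.hom_ext (LinearMap.ext fun (z : Cochain X C.X₁ n) => by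
      show (homCxPost X C.g).f n ((homCxPost X C.f).f n z) = (0 : Cochain X C.X₃ n)
      refine Cochain.ext _ _ fun p q h => ?_
      refine (homCxPost_apply X C.g n _ p q h).trans ?_
      refine (congrArg (fun t => t ≫ C.g.f q) (homCxPost_apply X C.f n z p q h)).trans ?_
      rw [Category.assoc, ← HomologicalComplex.comp_f, C.zero]
      simp))

theorem homShortPost_shortExact (X : MCx S) [∀ p, Projective (X.X p)] {C : ShortComplex (MCx S)}
    (hC : C.ShortExact) : (homShortPost X C).ShortExact := by
  have hd : ∀ p, (C.map (HomologicalComplex.eval _ _ p)).ShortExact := fun p => hC.map_of_exact _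
  refine HomologicalComplex.shortExact_of_degreewise_shortExact _ fun n => ?_
  exact
    { exact := (ShortComplex.ShortExact.moduleCat_exact_iff_function_exact _).2
        fun (z : Cochain X C.X₂ n) => ⟨fun hz => by
          haveI : ∀ p, Mono (C.f.f p) := fun p => (hd p).mono_f
          refine ⟨Cochain.mk fun p q h => (haveI : Mono (C.map (HomologicalComplex.eval _ _ q)).f := (hd q).mono_f; (hd q).exact.lift (z.v p q h) ?_), Cochain.ext _ _ fun p q h => ?_⟩
          · exact (homCxPost_apply X C.g n z p q h).symm.trans
              (congrArg (fun w : Cochain X C.X₃ n => w.v p q h) hz)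
          · refine (homCxPost_apply X C.f n _ p q h).trans ?_
            haveI : Mono (C.map (HomologicalComplex.eval _ _ q)).f := (hd q).mono_f
            exact (congrArg (fun t => t ≫ C.f.f q) (Cochain.mk_v _ p q h)).trans ((hd q).exact.lift_f _ _), by
          rintro ⟨w, rfl⟩
          exact ConcreteCategory.congr_hom (HomologicalComplex.congr_hom (homShortPost X C).zero n) w⟩
      mono_f := (ModuleCat.mono_iff_injective _).2 fun (z w : Cochain X C.X₁ n) h => by
        refine Cochain.ext _ _ fun p q hpq => ?_
        haveI : Mono (C.f.f q) := (hd q).mono_f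
        exact (cancel_mono (C.f.f q)).1 ((homCxPost_apply X C.f n z p q hpq).symm.trans
          ((congrArg (fun v : Cochain X C.X₂ n => v.v p q hpq) h).trans (homCxPost_apply X C.f n w p q hpq)))
      epi_g := (ModuleCat.epi_iff_surjective _).2 fun (z : Cochain X C.X₃ n) => by
        haveI : ∀ q, Epi (C.g.f q) := fun q => (hd q).epi_g
        refine ⟨Cochain.mk fun p q h => Projective.factorThru (z.v p q h) (C.g.f q), Cochain.ext _ _ fun p q h => ?_⟩
        refine (homCxPost_apply X C.g n _ p q h).trans ?_
        rw [Cochain.mk_v, Projective.factorThru_comp] }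

/-- The class of a cocycle. -/
noncomputable def hcls (X L : MCx S) (n : ℤ) (z : Cochain X L n) (hz : δ n (n + 1) z = 0) :
    (homCx X L).homology n :=
  scCls ((homCx X L).sc n) ⟨z, by
    show (homCx X L).d n ((ComplexShape.up ℤ).next n) z = 0
    rw [CochainComplex.next]; exact hz⟩

theorem exists_hcls (X L : MCx S) (n : ℤ) (x : (homCx X L).homology n) :
    ∃ (z : Cochain X L n) (hz : δ n (n + 1) z = 0), hcls X L n z hz = x := by
  obtain ⟨z, rfl⟩ := scCls_surjective ((homCx X L).sc n) x
  have h : (homCx X L).d n ((ComplexShape.up ℤ).next n) z.1 = 0 := z.2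
  rw [CochainComplex.next] at h
  exact ⟨z.1, h, rfl⟩

theorem hcls_smul_eq_zero_iff (X L : MCx S) (n : ℤ) (z : Cochain X L n) (hz : δ n (n + 1) z = 0) (r : S) :
    r • hcls X L n z hz = 0 ↔ ∃ β : Cochain X L (n - 1), δ (n - 1) n β = r • z := by
  rw [hcls]
  refine ((iff_of_eq (congrArg (· = 0) (map_smul (scCls ((homCx X L).sc n)) r _).symm)).trans (scCls_eq_zero _)).trans ?_
  show (∃ y, (homCx X L).d ((ComplexShape.up ℤ).prev n) n y = r • z) ↔ _
  rw [CochainComplex.prev]
  rfl

theorem subsingleton_homology_of_isKInjective {X L : MCx S} [L.IsKInjective] (hX : X.Acyclic) (n : ℤ) :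
    Subsingleton ((homCx X L).homology n) := by
  refine subsingleton_of_forall_eq 0 fun x => ?_
  obtain ⟨z, hz, rfl⟩ := exists_hcls X L n x
  rw [← one_smul S (hcls X L n z hz), hcls_smul_eq_zero_iff, one_smul]
  let c : Cocycle X L n := Cocycle.mk z (n + 1) rfl hz
  have h0 : CohomologyClass.toHom (CohomologyClass.mk c) = 0 := by
    rw [CohomologyClass.toHom_mk, HomotopyCategory.quotient_map_eq_zero_iff]
    exact ⟨CochainComplex.IsKInjective.homotopyZero _ hX⟩
  exact (mem_coboundaries_iff c (n - 1) (by omega)).1 ((CohomologyClass.toHom_mk_eq_zero_iff c).1 h0)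

theorem subsingleton_homology_of_isKProjective {X L : MCx S} [X.IsKProjective] (hL : L.Acyclic) (n : ℤ) :
    Subsingleton ((homCx X L).homology n) := by
  refine subsingleton_of_forall_eq 0 fun x => ?_
  obtain ⟨z, hz, rfl⟩ := exists_hcls X L n x
  rw [← one_smul S (hcls X L n z hz), hcls_smul_eq_zero_iff, one_smul]
  let c : Cocycle X L n := Cocycle.mk z (n + 1) rfl hz
  have hLn : (L⟦n⟧).Acyclic := fun i => by
    rw [HomologicalComplex.exactAt_iff_isZero_homology]
    exact ((hL _).isZero_homology).of_iso
      (((HomologicalComplex.homologyFunctor (ModuleCat.{u} S) (ComplexShape.up ℤ) 0).shiftIso n i (n + i) rfl).app L)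
  have h0 : CohomologyClass.toHom (CohomologyClass.mk c) = 0 := by
    rw [CohomologyClass.toHom_mk, HomotopyCategory.quotient_map_eq_zero_iff]
    exact ⟨CochainComplex.IsKProjective.homotopyZero _ hLn⟩
  exact (mem_coboundaries_iff c (n - 1) (by omega)).1 ((CohomologyClass.toHom_mk_eq_zero_iff c).1 h0)

theorem injective_homCx_X (X L : MCx S) [∀ p, Module.Projective S (X.X p)] [∀ q, Injective (L.X q)]
    (n : ℤ) : Injective ((homCx X L).X n) := by
  refine (Module.injective_iff_injective_object S (Cochain X L n)).1 ⟨fun A B _ _ _ _ f hf g => ?_⟩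
  let φ : ∀ (p q : ℤ) (h : p + n = q), ModuleCat.of S (TensorProduct S A (X.X p)) ⟶ L.X q := fun p q h =>
    ModuleCat.ofHom (X := TensorProduct S A (X.X p)) (TensorProduct.lift
      { toFun := fun a => ((g a : Cochain X L n).v p q h).hom
        map_add' := fun a b => by rw [map_add, Cochain.add_v]; rfl
        map_smul' := fun r a => by rw [map_smul, Cochain.smul_v]; rfl })
  haveI : ∀ p, Mono (ModuleCat.ofHom (X := TensorProduct S A (X.X p)) (Y := TensorProduct S B (X.X p))
      (LinearMap.rTensor (X.X p) f)) := fun p =>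
    (ModuleCat.mono_iff_injective _).2 (Module.Flat.rTensor_preserves_injective_linearMap f hf)
  let ψ : ∀ (p q : ℤ) (h : p + n = q), ModuleCat.of S (TensorProduct S B (X.X p)) ⟶ L.X q := fun p q h =>
    Injective.factorThru (φ p q h) (ModuleCat.ofHom (X := TensorProduct S A (X.X p))
      (Y := TensorProduct S B (X.X p)) (LinearMap.rTensor (X.X p) f))
  refine ⟨{ toFun := fun b => Cochain.mk fun p q h => ModuleCat.ofHom ((ψ p q h).hom ∘ₗ TensorProduct.mk S B (X.X p) b)
            map_add' := fun b c => Cochain.ext _ _ fun p q h => ?_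
            map_smul' := fun r b => Cochain.ext _ _ fun p q h => ?_ }, fun a => Cochain.ext _ _ fun p q h => ?_⟩
  · rw [Cochain.add_v, Cochain.mk_v, Cochain.mk_v, Cochain.mk_v]
    exact ModuleCat.hom_ext (LinearMap.ext fun x => by
      show (ψ p q h).hom (TensorProduct.tmul S (b + c) x) = _
      rw [TensorProduct.add_tmul, map_add]; rfl)
  · rw [RingHom.id_apply, Cochain.smul_v, Cochain.mk_v, Cochain.mk_v]
    exact ModuleCat.hom_ext (LinearMap.ext fun x => by
      show (ψ p q h).hom (TensorProduct.tmul S (r • b) x) = _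
      rw [← TensorProduct.smul_tmul', map_smul]; rfl)
  · show (Cochain.mk fun p q h => ModuleCat.ofHom ((ψ p q h).hom ∘ₗ TensorProduct.mk S B (X.X p) (f a))).v p q h = _
    rw [Cochain.mk_v]
    exact ModuleCat.hom_ext (LinearMap.ext fun x => ConcreteCategory.congr_hom
      (Injective.comp_factorThru (φ p q h) (ModuleCat.ofHom (X := TensorProduct S A (X.X p))
        (Y := TensorProduct S B (X.X p)) (LinearMap.rTensor (X.X p) f))) (TensorProduct.tmul S a x))

end Groth.Agent.LocCohLib
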