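import Groth.Agent.LocCohLib.LocSequence
import Groth.Agent.LocCohLib.Torsion

/-!
# Zero and unit ideal; acyclicity by induction on generators
-/

set_option autoImplicit false
set_option linter.style.haveILetI false

universe u v

open CategoryTheory CategoryTheory.Limits

namespace Groth.Agent.LocCohLib

variable {R : Type u} [CommRing R]

/-- `M` is `Γ_I`-acyclic. -/
def Acyclic (I : Ideal R) (M : ModuleCat.{u} R) : Prop :=
  ∀ k : ℕ, Subsingleton ((localCohomology I (k + 1)).obj M)

theorem subsingleton_top (M : ModuleCat.{u} R) (i : ℕ) :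
    Subsingleton ((localCohomology (⊤ : Ideal R) i).obj M) := by
  refine subsingleton_of_forall_eq 0 fun z => ?_
  obtain ⟨n, hn⟩ := isPowerTorsion_H i M z
  have h : (1 : R) ∈ (⊤ : Ideal R) ^ n := by rw [Ideal.top_pow]; exact Submodule.mem_top
  rw [← one_smul R z, hn 1 h]

variable [IsNoetherianRing R]

theorem acyclic_bot (M : ModuleCat.{u} R) : Acyclic (⊥ : Ideal R) M := fun k =>
  subsingleton_of_isPowerTorsion k M fun x => ⟨1, fun a ha => by
    rw [pow_one, Ideal.mem_bot] at ha
    rw [ha, zero_smul]⟩

theorem localCohomology_map_iso_subsingleton {I : Ideal R} {i : ℕ} {M N : ModuleCat.{u} R}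
    (e : M ≅ N) [Subsingleton ((localCohomology I i).obj M)] :
    Subsingleton ((localCohomology I i).obj N) :=
  (ConcreteCategory.bijective_of_isIso ((localCohomology I i).mapIso e).hom).2.subsingleton

theorem acyclic_sup_span {a : Ideal R} (b : R) {M : ModuleCat.{u} R} (hM : Acyclic a M)
    (hMb : Acyclic a ((locFun b).obj M))
    (hsurj : ∀ y ∈ DRing.torsionSub a ((locFun b).obj M),
      ∃ x ∈ DRing.torsionSub a M, (toLoc b).app M x = y) :
    Acyclic (a ⊔ Ideal.span {b}) M := by
  intro k
  refine subsingleton_of_forall_eq 0 fun w => ?_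
  obtain ⟨v, rfl⟩ := ((loc_exact₁ a b M k) w).1 ((hM k).elim _ _)
  rw [(loc_exact₃ a b M k) v]
  cases k with
  | succ k => exact ⟨0, (hMb k).elim _ _⟩
  | zero =>
    obtain ⟨x, hx, hxv⟩ := hsurj _ ((h0_mem_range _).1 ⟨v, rfl⟩)
    obtain ⟨t, ht⟩ := (h0_mem_range x).2 hx
    exact ⟨t, h0_injective ((h0_map _ t).trans ((congrArg _ ht).trans hxv))⟩

/-- Acyclicity by induction on the generators, for a family stable under localisation. -/
theorem acyclic_induction {ι : Type v} (F : ι → ModuleCat.{u} R)
    (hloc : ∀ (j : ι) (b : R), ∃ j', Nonempty (F j' ≅ (locFun b).obj (F j)))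
    (hsurj : ∀ (j : ι) (a : Ideal R) (b : R), ∀ y ∈ DRing.torsionSub a ((locFun b).obj (F j)),
      ∃ x ∈ DRing.torsionSub a (F j), (toLoc b).app (F j) x = y)
    (I : Ideal R) : ∀ j, Acyclic I (F j) := by
  classical
  obtain ⟨s, rfl⟩ := IsNoetherian.noetherian I
  induction s using Finset.induction_on with
  | empty =>
    intro j
    rw [Finset.coe_empty, Submodule.span_empty]
    exact acyclic_bot _
  | insert b s _ ih =>
    intro j
    rw [Finset.coe_insert, Submodule.span_insert, sup_comm]
    refine acyclic_sup_span b (ih j) ?_ (hsurj j _ b)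
    obtain ⟨j', ⟨e⟩⟩ := hloc j b
    intro k
    have := ih j' k
    exact localCohomology_map_iso_subsingleton e

/-- Local cohomology vanishes above the number of generators. -/
theorem subsingleton_of_card_lt (s : Finset R) : ∀ (i : ℕ), s.card < i → ∀ M : ModuleCat.{u} R,
    Subsingleton ((localCohomology (Ideal.span (s : Set R)) i).obj M) := by
  classical
  induction s using Finset.induction_on with
  | empty =>
    intro i hi M
    obtain ⟨k, rfl⟩ : ∃ k, i = k + 1 := ⟨i - 1, by simp at hi; omega⟩
    rw [Finset.coe_empty, Ideal.span_empty]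
    exact acyclic_bot M k
  | insert b s hb ih =>
    intro i hi M
    rw [Finset.card_insert_of_notMem hb] at hi
    obtain ⟨k, rfl⟩ : ∃ k, i = k + 1 := ⟨i - 1, by omega⟩
    rw [Finset.coe_insert, Ideal.span_insert, sup_comm]
    refine subsingleton_of_forall_eq 0 fun w => ?_
    obtain ⟨v, rfl⟩ := ((loc_exact₁ _ b M k) w).1 ((ih (k + 1) (by omega) M).elim _ _)
    rw [(ih k (by omega) _).elim v 0, map_zero]

end Groth.Agent.LocCohLib
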