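import Groth.Agent.LocCohLib.BaseRing
import Mathlib.RingTheory.Flat.Basic
import Mathlib.LinearAlgebra.TensorProduct.Pi
import Mathlib.LinearAlgebra.TensorProduct.RightExactness

/-!
# Local cohomology and flat base change
-/

set_option autoImplicit false
set_option linter.style.haveILetI false

universe u

open CategoryTheory CategoryTheory.Limits TensorProduct

namespace Groth.Agent.LocCohLib

variable {R : Type u} [CommRing R] (R' : Type u) [CommRing R'] [Algebra R R']

/-- `M ↦ R' ⊗ M`. -/
noncomputable def tens : ModuleCat.{u} R ⥤ ModuleCat.{u} R' where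
  obj M := ModuleCat.of R' (R' ⊗[R] M)
  map f := ModuleCat.ofHom (f.hom.baseChange R')
  map_id M := ModuleCat.hom_ext (LinearMap.baseChange_id)
  map_comp f g := ModuleCat.hom_ext (LinearMap.baseChange_comp f.hom g.hom)

instance : (tens (R := R) R').Additive where
  map_add {M N} {f g} := ModuleCat.hom_ext (LinearMap.baseChange_add f.hom g.hom)

instance [Module.Flat R R'] : (tens (R := R) R').PreservesHomology :=
  (tens (R := R) R').preservesHomology_of_map_exact fun S hS =>
    (ShortComplex.ShortExact.moduleCat_exact_iff_function_exact _).2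
      (Module.Flat.lTensor_exact R'
        ((ShortComplex.ShortExact.moduleCat_exact_iff_function_exact S).1 hS))

variable {R'} [Module.Flat R R']

theorem exists_pow_smul_lTensor_subtype (I : Ideal R) (M : ModuleCat.{u} R)
    (z : R' ⊗[R] (DRing.torsionSub I M)) :
    ∃ n : ℕ, ∀ a ∈ I ^ n, algebraMap R R' a • ((DRing.torsionSub I M).subtype.lTensor R' z) = 0 := by
  induction z using TensorProduct.induction_on with
  | zero => exact ⟨0, fun a _ => by rw [map_zero, smul_zero]⟩
  | tmul r m =>
    obtain ⟨n, hn⟩ := m.2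
    refine ⟨n, fun a ha => ?_⟩
    rw [LinearMap.lTensor_tmul, algebraMap_smul, smul_tmul', smul_tmul]
    show r ⊗ₜ[R] (a • (m : M)) = 0
    rw [hn a ha, tmul_zero]
  | add x y hx hy =>
    obtain ⟨n, hn⟩ := hx
    obtain ⟨k, hk⟩ := hy
    refine ⟨n + k, fun a ha => ?_⟩
    rw [map_add, smul_add, hn a (Ideal.pow_le_pow_right (Nat.le_add_right n k) ha),
      hk a (Ideal.pow_le_pow_right (Nat.le_add_left k n) ha), add_zero]

variable [IsNoetherianRing R]

/-- Elements of `R' ⊗ M` killed by `J` come from elements of `M` killed by `J`. -/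
theorem mem_range_of_smul_eq_zero (J : Ideal R) (M : ModuleCat.{u} R) (x : R' ⊗[R] M)
    (hx : ∀ a ∈ J, algebraMap R R' a • x = 0) :
    x ∈ LinearMap.range ((Submodule.torsionBySet R M (J : Set R)).subtype.lTensor R') := by
  classical
  obtain ⟨s, hs⟩ := IsNoetherian.noetherian J
  let φ : M →ₗ[R] (s → M) := LinearMap.pi fun a => a.1 • LinearMap.id
  have hex : Function.Exact (Submodule.torsionBySet R M (J : Set R)).subtype φ := by
    intro y
    refine ⟨fun hy => ⟨⟨y, ?_⟩, rfl⟩, ?_⟩
    · rw [Submodule.mem_torsionBySet_iff]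
      rintro ⟨a, ha⟩
      have ha' : a ∈ Submodule.span R (s : Set R) := hs.symm ▸ ha
      show a • y = 0
      clear ha
      induction ha' using Submodule.span_induction with
      | mem c hc => exact congrFun hy ⟨c, hc⟩
      | zero => rw [zero_smul]
      | add c d _ _ h₁ h₂ => rw [add_smul, h₁, h₂, add_zero]
      | smul t c _ ih => rw [smul_eq_mul, mul_smul, ih, smul_zero]
    · rintro ⟨w, rfl⟩
      funext a
      exact (Submodule.mem_torsionBySet_iff _ _).1 w.2 ⟨a.1, hs ▸ Submodule.subset_span a.2⟩
  have hx0 : φ.lTensor R' x = 0 := by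
    apply (TensorProduct.piRight R R R' fun _ : s => (M : Type u)).injective
    rw [map_zero]
    funext a
    have : ∀ z : R' ⊗[R] M, TensorProduct.piRight R R R' (fun _ : s => (M : Type u)) (φ.lTensor R' z) a
        = algebraMap R R' a.1 • z := fun z => by
      induction z using TensorProduct.induction_on with
      | zero => simp
      | tmul r m =>
        rw [LinearMap.lTensor_tmul, TensorProduct.piRight_apply, TensorProduct.piRightHom_tmul,
          algebraMap_smul]
        show r ⊗ₜ[R] (a.1 • m) = _
        rw [tmul_smul]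
      | add z w hz hw =>
        rw [map_add, map_add, smul_add]
        exact congrArg₂ (· + ·) hz hw
    rw [this, hx _ (hs ▸ Submodule.subset_span a.2)]
    rfl
  exact ((Module.Flat.lTensor_exact R' hex) x).1 hx0

theorem mem_torsionSub_tens (I : Ideal R) (M : ModuleCat.{u} R) (x : (tens R').obj M) :
    x ∈ DRing.torsionSub (I.map (algebraMap R R')) ((tens R').obj M) ↔
      (x : R' ⊗[R] M) ∈ LinearMap.range ((DRing.torsionSub I M).subtype.lTensor R') := by
  constructor
  · rintro ⟨n, hn⟩
    obtain ⟨w, hw⟩ := mem_range_of_smul_eq_zero (R' := R') (I ^ n) M (x : R' ⊗[R] M) fun a ha =>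
      hn _ (by rw [← Ideal.map_pow]; exact Ideal.mem_map_of_mem _ ha)
    have hle : Submodule.torsionBySet R M ((I ^ n : Ideal R) : Set R) ≤ DRing.torsionSub I M :=
      fun m hm => ⟨n, fun a ha => (Submodule.mem_torsionBySet_iff _ _).1 hm ⟨a, ha⟩⟩
    exact ⟨(Submodule.inclusion hle).lTensor R' w, by
      rw [← LinearMap.lTensor_comp_apply]; exact hw⟩
  · rintro ⟨z, rfl⟩
    obtain ⟨n, hn⟩ := exists_pow_smul_lTensor_subtype I M z
    refine ⟨n, ?_⟩
    rw [← Ideal.map_pow]
    exact (annihilated_map_iff (I ^ n) ((tens R').obj M) _).2 hn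

omit [IsNoetherianRing R] in
theorem isLocalizedModule_tens (b : R) (M : ModuleCat.{u} R) :
    IsLocalizedModule (Submonoid.powers (algebraMap R R' b))
      ((tens R').map ((toLoc b).app M)).hom where
  map_units := by
    rintro ⟨_, n, rfl⟩
    rw [Module.End.isUnit_iff]
    have h := IsLocalizedModule.map_units
      (LocalizedModule.mkLinearMap (Submonoid.powers b) M) (⟨b ^ n, n, rfl⟩ : Submonoid.powers b)
    rw [Module.End.isUnit_iff] at h
    have h2 := ((LinearEquiv.ofBijective
      (b ^ n • LinearMap.id : LocalizedModule (Submonoid.powers b) M →ₗ[R] _) h).lTensor R').bijective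
    have e : (fun y : R' ⊗[R] LocalizedModule (Submonoid.powers b) M =>
        algebraMap R R' b ^ n • y) = fun y => ((LinearEquiv.ofBijective
      (b ^ n • LinearMap.id : LocalizedModule (Submonoid.powers b) M →ₗ[R] _) h).lTensor R') y := by
      funext y
      induction y using TensorProduct.induction_on with
      | zero => simp
      | tmul r m =>
        rw [← map_pow, algebraMap_smul, LinearEquiv.lTensor_tmul, ← tmul_smul]
        rfl
      | add y z hy hz => rw [smul_add, hy, hz, map_add]
    show Function.Bijective fun y : R' ⊗[R] LocalizedModule (Submonoid.powers b) M =>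
      algebraMap R R' b ^ n • y
    rw [e]
    exact h2
  surj := fun y => by
    have key : ∀ y : R' ⊗[R] LocalizedModule (Submonoid.powers b) M, ∃ (n : ℕ) (x : R' ⊗[R] M),
        algebraMap R R' b ^ n • y =
          (LocalizedModule.mkLinearMap (Submonoid.powers b) M).lTensor R' x := by
      intro y
      induction y using TensorProduct.induction_on with
      | zero => exact ⟨0, 0, by simp⟩
      | tmul r m =>
        obtain ⟨⟨x, ⟨_, n, rfl⟩⟩, hx⟩ := IsLocalizedModule.surj (Submonoid.powers b)
          (LocalizedModule.mkLinearMap (Submonoid.powers b) M) m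
        refine ⟨n, r ⊗ₜ x, ?_⟩
        rw [← map_pow, algebraMap_smul, LinearMap.lTensor_tmul, ← tmul_smul]
        exact congrArg (r ⊗ₜ[R] ·) hx
      | add y z hy hz =>
        obtain ⟨n, x, hx⟩ := hy
        obtain ⟨k, w, hw⟩ := hz
        refine ⟨n + k, algebraMap R R' (b ^ k) • x + algebraMap R R' (b ^ n) • w, ?_⟩
        rw [algebraMap_smul, algebraMap_smul, map_add, map_smul, map_smul, ← hx, ← hw,
          ← algebraMap_smul R' (b ^ k), ← algebraMap_smul R' (b ^ n), map_pow, map_pow,
          ← mul_smul, ← mul_smul, ← pow_add, ← pow_add, add_comm k n, smul_add]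
    obtain ⟨n, x, hx⟩ := key y
    exact ⟨⟨x, ⟨_, n, rfl⟩⟩, hx⟩
  exists_of_eq := fun {x₁ x₂} h => by
    have hex : Function.Exact (DRing.torsionSub (Ideal.span {b}) M).subtype
        (LocalizedModule.mkLinearMap (Submonoid.powers b) M) := fun m =>
      ⟨fun hm => ⟨⟨m, (toLoc_mem_torsionSub_span_iff b M m).1 hm⟩, rfl⟩, by
        rintro ⟨w, rfl⟩; exact (toLoc_mem_torsionSub_span_iff b M w.1).2 w.2⟩
    obtain ⟨y₁, rfl⟩ : ∃ y : R' ⊗[R] M, y = x₁ := ⟨x₁, rfl⟩
    obtain ⟨y₂, rfl⟩ : ∃ y : R' ⊗[R] M, y = x₂ := ⟨x₂, rfl⟩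
    have h0 : (LocalizedModule.mkLinearMap (Submonoid.powers b) M).lTensor R' (y₁ - y₂) = 0 := by
      rw [map_sub, sub_eq_zero]
      exact h
    obtain ⟨z, hz⟩ := ((Module.Flat.lTensor_exact R' hex) _).1 h0
    obtain ⟨n, hn⟩ := exists_pow_smul_lTensor_subtype (Ideal.span {b}) M z
    refine ⟨⟨_, n, rfl⟩, ?_⟩
    show algebraMap R R' b ^ n • y₁ = algebraMap R R' b ^ n • y₂
    have h := hn _ (Ideal.pow_mem_pow (Ideal.mem_span_singleton_self b) n)
    rw [hz, smul_sub, sub_eq_zero, map_pow] at h
    exact h

/-- `(R' ⊗ M)_b = R' ⊗ M_b`. -/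
noncomputable def tensLocIso (b : R) (M : ModuleCat.{u} R) :
    (locFun (algebraMap R R' b)).obj ((tens R').obj M) ≅ (tens R').obj ((locFun b).obj M) :=
  haveI := isLocalizedModule_tens (R' := R') b M
  (IsLocalizedModule.iso (Submonoid.powers (algebraMap R R' b))
    ((tens R').map ((toLoc b).app M)).hom).toModuleIso

omit [IsNoetherianRing R] in
theorem tensLocIso_toLoc (b : R) (M : ModuleCat.{u} R) (x : (tens R').obj M) :
    (tensLocIso b M).hom ((toLoc (algebraMap R R' b)).app _ x) = (tens R').map ((toLoc b).app M) x := by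
  haveI := isLocalizedModule_tens (R' := R') b M
  exact IsLocalizedModule.iso_mk_one (S := Submonoid.powers (algebraMap R R' b))
    (f := ((tens R').map ((toLoc b).app M)).hom) x

variable [IsNoetherianRing R']

/-- `R' ⊗ E` is acyclic for `E` injective. -/
theorem acyclic_tens (I : Ideal R) (E : ModuleCat.{u} R) [Injective E] :
    Acyclic (I.map (algebraMap R R')) ((tens R').obj E) := by
  classical
  obtain ⟨s, rfl⟩ := IsNoetherian.noetherian I
  induction s using Finset.induction_on generalizing E with
  | empty =>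
    rw [Finset.coe_empty, Submodule.span_empty, Ideal.map_bot]
    exact acyclic_bot _
  | insert b s _ ih =>
    rw [Finset.coe_insert, Submodule.span_insert, sup_comm, Ideal.map_sup,
      show Ideal.map (algebraMap R R') (Submodule.span R {b}) = Ideal.span {algebraMap R R' b}
        from (Ideal.map_span _ _).trans (by rw [Set.image_singleton])]
    haveI : Injective ((locFun b).obj E) :=
      Functor.PreservesInjectiveObjects.injective_obj (F := locFun b) inferInstance
    refine acyclic_sup_span _ (ih E) (fun k => ?_) fun y hy => ?_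
    · haveI := ih ((locFun b).obj E) k
      exact localCohomology_map_iso_subsingleton (tensLocIso b E).symm
    · haveI : Injective (ModuleCat.of R E) := (inferInstance : Injective E)
      haveI : Module.Injective R E := Module.injective_module_of_injective_object R _
      let a : Ideal R := Submodule.span R (s : Set R)
      have hy' : (tensLocIso (R' := R') b E).hom y ∈
          DRing.torsionSub (a.map (algebraMap R R')) ((tens R').obj ((locFun b).obj E)) :=
        DRing.map_mem_torsionSub _ (tensLocIso (R' := R') b E).hom.hom hy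
      obtain ⟨z, hz⟩ := (mem_torsionSub_tens a _ _).1 hy'
      let g : DRing.torsionSub a E →ₗ[R] DRing.torsionSub a ((locFun b).obj E) :=
        ((toLoc b).app E).hom.restrict fun m hm => DRing.map_mem_torsionSub a _ hm
      have hg : Function.Surjective g := fun w => by
        obtain ⟨k, hk⟩ := w.2
        obtain ⟨j, hj, hjw⟩ := exists_lift (A := R) (J := E) (a ^ k) (Submonoid.powers b)
          (w.1 : LocalizedModule (Submonoid.powers b) E) hk
        exact ⟨⟨j, k, hj⟩, Subtype.ext hjw⟩
      obtain ⟨z', rfl⟩ := LinearMap.lTensor_surjective R' hg z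
      refine ⟨(DRing.torsionSub a E).subtype.lTensor R' z',
        (mem_torsionSub_tens a E _).2 ⟨z', rfl⟩, ?_⟩
      apply (ConcreteCategory.bijective_of_isIso (tensLocIso (R' := R') b E).hom).1
      refine (tensLocIso_toLoc b E _).trans (Eq.trans ?_ hz)
      show LinearMap.lTensor R' _ (LinearMap.lTensor R' _ z') = _
      rw [← LinearMap.lTensor_comp_apply, ← LinearMap.lTensor_comp_apply]
      rfl

theorem nonempty_h1_of_h0 {A : Type u} [CommRing A] {B : Type u} [CommRing B]
    (T : ModuleCat.{u} A ⥤ ModuleCat.{u} B) [T.Additive] [T.PreservesHomology] (J : Ideal A)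
    (J' : Ideal B) (S : ShortComplex (ModuleCat.{u} A)) (hS : S.ShortExact) (i : ℕ)
    (h1 : Subsingleton ((localCohomology J (i + 1)).obj S.X₂))
    (h2 : Subsingleton ((localCohomology J' (i + 1)).obj (T.obj S.X₂)))
    (e : T.obj ((localCohomology J i).obj S.X₃) ≃ₗ[B] (localCohomology J' i).obj (T.obj S.X₃))
    (he : Submodule.map e.toLinearMap (LinearMap.range (T.map ((localCohomology J i).map S.g)).hom) =
      LinearMap.range ((localCohomology J' i).map (T.map S.g)).hom) :
    Nonempty (T.obj ((localCohomology J (i + 1)).obj S.X₁) ≃ₗ[B]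
      (localCohomology J' (i + 1)).obj (T.obj S.X₁)) := by
  haveI := Functor.preservesEpimorphisms_of_map_exact T fun S hS => hS.map T
  haveI := Functor.preservesMonomorphisms_of_map_exact T fun S hS => hS.map T
  haveI := hS.mono_f
  haveI := hS.epi_g
  have hS' : (S.map T).ShortExact := hS.map T
  let C := ShortComplex.mk ((localCohomology J i).map S.g) (ModuleCat.ofHom (δ hS J i))
    (ModuleCat.hom_ext (LinearMap.ext fun z => δ_map_eq_zero hS z))
  have hC : C.Exact := (ShortComplex.ShortExact.moduleCat_exact_iff_function_exact C).2 fun z =>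
    ⟨exact₃ hS z, fun ⟨v, hv⟩ => hv ▸ δ_map_eq_zero hS v⟩
  have hTC := (ShortComplex.ShortExact.moduleCat_exact_iff_function_exact _).1 (hC.map T)
  haveI : Epi C.g := (ModuleCat.epi_iff_surjective _).2 fun w => exact₁ hS w (h1.elim _ _)
  have hsurj : Function.Surjective (T.map C.g).hom := (ModuleCat.epi_iff_surjective _).1 inferInstance
  obtain ⟨g⟩ := nonempty_cokerEquiv (J := J') (S.map T) hS' i h2
  have hTC' : LinearMap.range (T.map C.f).hom = LinearMap.ker (T.map C.g).hom :=
    (LinearMap.exact_iff.1 hTC).symm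
  exact ⟨((Submodule.quotEquivOfEq _ _ hTC') ≪≫ₗ
    LinearMap.quotKerEquivOfSurjective _ hsurj).symm ≪≫ₗ Submodule.Quotient.equiv _ _ e he ≪≫ₗ g⟩

/-- Flat base change. -/
theorem nonempty_tensEquiv (I : Ideal R) : ∀ (i : ℕ) (M : ModuleCat.{u} R),
    Nonempty ((tens R').obj ((localCohomology I i).obj M) ≃ₗ[R']
      (localCohomology (I.map (algebraMap R R')) i).obj ((tens R').obj M)) := by
  let I' := I.map (algebraMap R R')
  let φ : ∀ M : ModuleCat.{u} R, (tens R').obj ((localCohomology I 0).obj M) ⟶ (tens R').obj M :=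
    fun M => (tens R').map (ModuleCat.ofHom (h0 I M))
  have hφ : ∀ M, Function.Injective (φ M).hom := fun M =>
    Module.Flat.lTensor_preserves_injective_linearMap (M := R') _ h0_injective
  have hφr : ∀ M (x : (tens R').obj M),
      x ∈ LinearMap.range (φ M).hom ↔ x ∈ DRing.torsionSub I' ((tens R').obj M) := fun M x => by
    rw [mem_torsionSub_tens]
    constructor
    · rintro ⟨z, rfl⟩
      exact ⟨(h0Equiv I M).toLinearMap.lTensor R' z,
        (LinearMap.lTensor_comp_apply R' (DRing.torsionSub I M).subtype _ z).symm⟩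
    · rintro ⟨z, rfl⟩
      refine ⟨(h0Equiv I M).symm.toLinearMap.lTensor R' z, ?_⟩
      refine (LinearMap.lTensor_comp_apply R' (h0 I M) _ z).symm.trans ?_
      refine congrArg (fun f => LinearMap.lTensor R' f z) ?_
      exact LinearMap.ext fun w => congrArg Subtype.val ((h0Equiv I M).apply_symm_apply w)
  let e₀ : ∀ M : ModuleCat.{u} R, (tens R').obj ((localCohomology I 0).obj M) ≃ₗ[R']
      (localCohomology I' 0).obj ((tens R').obj M) := fun M =>
    LinearEquiv.ofInjective (φ M).hom (hφ M) ≪≫ₗ
      LinearEquiv.ofEq _ _ (Submodule.ext (hφr M)) ≪≫ₗ (h0Equiv I' ((tens R').obj M)).symm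
  have he₀ : ∀ M z, h0 I' _ (e₀ M z) = φ M z := fun M z =>
    congrArg Subtype.val ((h0Equiv I' ((tens R').obj M)).apply_symm_apply _)
  intro i
  induction i with
  | zero => exact fun M => ⟨e₀ M⟩
  | succ i ih =>
    intro M
    let S := injSeq M
    have hS : S.ShortExact := injSeq_shortExact M
    haveI : Injective S.X₂ := inferInstanceAs (Injective (injSeq M).X₂)
    have h1 := fun k => subsingleton_of_injective (I := I) (M := S.X₂) k
    have h2 := acyclic_tens (R' := R') I S.X₂
    cases i with
    | zero =>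
      refine nonempty_h1_of_h0 (tens R') I I' S hS 0 (h1 0) (h2 0) (e₀ S.X₃) ?_
      have hsq : ∀ z, e₀ S.X₃ ((tens R').map ((localCohomology I 0).map S.g) z) =
          (localCohomology I' 0).map ((tens R').map S.g) (e₀ S.X₂ z) := fun z => by
        refine h0_injective ?_
        rw [h0_map, he₀, he₀]
        show φ S.X₃ _ = (tens R').map S.g (φ S.X₂ z)
        rw [← ConcreteCategory.comp_apply, ← ConcreteCategory.comp_apply, ← Functor.map_comp,
          ← Functor.map_comp]
        congr 3
        exact ModuleCat.hom_ext (LinearMap.ext fun w => h0_map S.g w)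
      refine le_antisymm ?_ ?_
      · rintro _ ⟨_, ⟨z, rfl⟩, rfl⟩
        exact ⟨e₀ S.X₂ z, (hsq z).symm⟩
      · rintro _ ⟨w, rfl⟩
        exact ⟨_, ⟨(e₀ S.X₂).symm w, rfl⟩, (hsq _).trans
          (congrArg _ ((e₀ S.X₂).apply_symm_apply w))⟩
    | succ k =>
      obtain ⟨e⟩ := ih S.X₃
      refine nonempty_h1_of_h0 (tens R') I I' S hS (k + 1) (h1 (k + 1)) (h2 (k + 1)) e ?_
      have z1 : (localCohomology I (k + 1)).map S.g = 0 :=
        ModuleCat.hom_ext (LinearMap.ext fun z => by rw [(h1 k).elim z 0, map_zero, map_zero])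
      have z2 : (localCohomology I' (k + 1)).map ((tens R').map S.g) = 0 :=
        ModuleCat.hom_ext (LinearMap.ext fun z => by rw [(h2 k).elim z 0, map_zero, map_zero])
      rw [z1, z2, Functor.map_zero]
      simp

end Groth.Agent.LocCohLib
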