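import Groth.Agent.LocCohLib.DualFinal
import Groth.Agent.S5155
import Groth.Agent.DepthLib.RegularLocal
import Groth.Agent.GorLib.InjDim
import Mathlib.CategoryTheory.Abelian.Injective.Dimension
import Mathlib.Algebra.Homology.DerivedCategory.Ext.ExactSequences

/-!
# `H^r_m(A)` is an injective hull of the residue field for a Gorenstein local ring of depth `r`
-/

set_option autoImplicit false
set_option linter.style.haveILetI false
set_option linter.unusedVariables false

universe u

open CategoryTheory CategoryTheory.Limits CochainComplex CochainComplex.HomComplex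
open CategoryTheory.Abelian (Ext)
open scoped Pointwise

attribute [local instance] HasDerivedCategory.standard

namespace Groth.Agent.LocCohLib.Gor

theorem subsingleton_H_self_lt {A : Type u} [CommRing A] [LocCoh.IsGorensteinLocalRing A] {r : ℕ}
    (hr : LocCoh.depth A A = r) {i : ℕ} (hi : i < r) :
    Subsingleton ((localCohomology (IsLocalRing.maximalIdeal A) i).obj (ModuleCat.of A A)) :=
  (natCast_le_idealDepth_iff_vanishing (IsLocalRing.maximalIdeal A) A r).1 hr.ge i hi

/-- The socle of `H^r_m(A)` is one-dimensional. -/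
theorem exists_socle : ∀ (r : ℕ) (A : Type u) [CommRing A] [LocCoh.IsGorensteinLocalRing A],
    LocCoh.depth A A = r →
      ∃ e : (localCohomology (IsLocalRing.maximalIdeal A) r).obj (ModuleCat.of A A), e ≠ 0 ∧
        (∀ a ∈ IsLocalRing.maximalIdeal A, a • e = 0) ∧
        ∀ h : (localCohomology (IsLocalRing.maximalIdeal A) r).obj (ModuleCat.of A A),
          (∀ a ∈ IsLocalRing.maximalIdeal A, a • h = 0) → ∃ c : A, h = c • e := by
  intro r
  induction r with
  | zero =>
    intro A _ _ hr
    haveI := GorLib.injective_of_depth_eq_zero (A := A) hr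
    obtain ⟨u, hu⟩ := (isAssociatedPrime_iff.1 (DepthLib.depth_eq_zero_iff.1 hr)).2
    have hu0 : u ≠ 0 := fun h => (IsLocalRing.maximalIdeal.isMaximal A).ne_top ((Ideal.eq_top_iff_one _).2 (by
      rw [hu, h, Submodule.mem_colon_singleton, smul_zero]; exact zero_mem _))
    have huk : ∀ a ∈ IsLocalRing.maximalIdeal A, a * u = 0 := fun a ha => by
      rw [hu, Submodule.mem_colon_singleton, Submodule.mem_bot] at ha
      exact ha
    obtain ⟨k, hk⟩ : ∃ k : ℕ, IsLocalRing.maximalIdeal A ^ k = ⊥ := by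
      haveI : Ring.KrullDimLE 0 A :=
        (Ring.krullDimLE_iff (n := 0) (R := A)).2 (GorLib.ringKrullDim_eq_zero_of_injective (A := A)).le
      haveI : IsArtinianRing A := IsNoetherianRing.isArtinianRing_of_krullDimLE_zero
      obtain ⟨k, hk⟩ := IsArtinianRing.isNilpotent_jacobson_bot (R := A)
      exact ⟨k, by rw [← IsLocalRing.jacobson_eq_maximalIdeal ⊥ bot_ne_top]; exact hk⟩
    have htor : ∀ z : A, z ∈ DRing.torsionSub (IsLocalRing.maximalIdeal A) A := fun z => ⟨k, fun a ha => by
      rw [hk, Ideal.mem_bot] at ha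
      rw [ha, zero_smul]⟩
    let E := h0Equiv (IsLocalRing.maximalIdeal A) (ModuleCat.of A A)
    refine ⟨E.symm ⟨u, htor u⟩, fun h => hu0 ?_, fun a ha => ?_, fun h hh => ?_⟩
    · exact congrArg Subtype.val (E.symm.injective (h.trans (map_zero E.symm).symm))
    · rw [← map_smul]
      exact (congrArg E.symm (Subtype.ext (huk a ha))).trans (map_zero E.symm)
    · let v : A := (E h).1
      have hv : ∀ a ∈ IsLocalRing.maximalIdeal A, a • v = 0 := fun a ha => by
        have := congrArg E (hh a ha)
        rw [map_smul, map_zero] at this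
        exact congrArg Subtype.val this
      let ι : IsLocalRing.ResidueField A →ₗ[A] A :=
        (IsLocalRing.maximalIdeal A).liftQ (LinearMap.toSpanSingleton A A u) fun a ha => huk a ha
      let φ : IsLocalRing.ResidueField A →ₗ[A] A :=
        (IsLocalRing.maximalIdeal A).liftQ (LinearMap.toSpanSingleton A A v) fun a ha => hv a ha
      have hinj : Function.Injective ι := by
        rw [← LinearMap.ker_eq_bot, eq_bot_iff]
        intro z hz
        obtain ⟨z, rfl⟩ := Submodule.Quotient.mk_surjective _ z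
        have h : z • u = 0 := hz
        refine (Submodule.Quotient.mk_eq_zero _).2 ?_
        rw [hu, Submodule.mem_colon_singleton, Submodule.mem_bot]
        exact h
      obtain ⟨ψ, hψ⟩ := Module.Injective.out ι hinj φ
      refine ⟨ψ 1, E.injective (Subtype.ext ?_)⟩
      rw [map_smul, LinearEquiv.apply_symm_apply]
      have h1 := hψ (Submodule.Quotient.mk (1 : A))
      change ψ ((1 : A) • u) = (1 : A) • v at h1
      rw [one_smul, one_smul] at h1
      change v = ψ 1 • u
      rw [← h1, smul_eq_mul, mul_comm, ← smul_eq_mul, ← map_smul, smul_eq_mul, mul_one]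
  | succ r ih =>
    intro A _ _ hr
    obtain ⟨x, hx, hsmulx, hnq⟩ := GorLib.exists_regular_of_depth hr
    haveI : Nontrivial (A ⧸ Ideal.span {x}) := Ideal.Quotient.nontrivial_iff.2
      (ne_top_of_le_ne_top (IsLocalRing.maximalIdeal.isMaximal A).ne_top ((Ideal.span_singleton_le_iff_mem _).2 hx))
    haveI : IsLocalRing (A ⧸ Ideal.span {x}) :=
      IsLocalRing.of_surjective' (Ideal.Quotient.mk _) Ideal.Quotient.mk_surjective
    haveI := (GorLib.isGorensteinLocalRing_quotient_iff hx hsmulx).1 ‹_›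
    let m := IsLocalRing.maximalIdeal A
    let A' := A ⧸ Ideal.span {x}
    let m' := IsLocalRing.maximalIdeal A'
    have hmap : m.map (algebraMap A A') = m' :=
      IsLocalRing.eq_maximalIdeal (Ideal.IsMaximal.map_of_surjective_of_ker_le Ideal.Quotient.mk_surjective
        (by rw [Ideal.mk_ker]; exact (Ideal.span_singleton_le_iff_mem _).2 hx))
    obtain ⟨e', he0, hekill, hespan⟩ := ih A' hnq
    obtain ⟨E⟩ := nonempty_resEquiv' (S := A) (A := A') Ideal.Quotient.mk_surjective m m' hmap
      (ModuleCat.of A' A') r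
    have hsmul : IsSMulRegular (ModuleCat.of A A) x := hsmulx
    have hS := mulSeq_shortExact hsmul
    let i : (mulSeq x (ModuleCat.of A A)).X₃ ≅ (res A A').obj (ModuleCat.of A' A') :=
      (Submodule.quotEquivOfEq _ _ (by
        rw [← Submodule.ideal_span_singleton_smul, smul_eq_mul, Ideal.mul_top]) :
          (A ⧸ x • (⊤ : Submodule A A)) ≃ₗ[A] A').toModuleIso
    let ψ : ((res A A').obj ((localCohomology m' r).obj (ModuleCat.of A' A'))) →ₗ[A]
        (localCohomology m (r + 1)).obj (ModuleCat.of A A) :=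
      (δ hS m r) ∘ₗ (((localCohomology m r).mapIso i).toLinearEquiv.symm.toLinearMap) ∘ₗ E.toLinearMap
    have hinj : Function.Injective ψ := by
      refine ((injective_iff_map_eq_zero (δ hS m r)).2 fun w hw => ?_).comp
        (((localCohomology m r).mapIso i).toLinearEquiv.symm.injective.comp E.injective)
      obtain ⟨v, rfl⟩ := exact₃ hS w hw
      haveI := subsingleton_H_self_lt hr (i := r) (Nat.lt_succ_self r)
      exact (congrArg _ (Subsingleton.elim (α := (localCohomology m r).obj (ModuleCat.of A A)) v 0)).trans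
        (map_zero _)
    let e'' : (res A A').obj ((localCohomology m' r).obj (ModuleCat.of A' A')) := e'
    refine ⟨ψ e'', fun h => he0 (hinj (h.trans (map_zero ψ).symm)), fun a ha => ?_, fun h hh => ?_⟩
    · refine (map_smul ψ a e'').symm.trans ((congrArg ψ ?_).trans (map_zero ψ))
      refine hekill _ ?_
      have h1 : algebraMap A A' a ∈ m.map (algebraMap A A') := Ideal.mem_map_of_mem _ ha
      rw [hmap] at h1
      exact h1
    · obtain ⟨v, hv⟩ := exact₁ hS h ((ker_lsmul_map x h).trans (hh x hx))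
      obtain ⟨w, hw⟩ : ∃ w, ψ w = h :=
        ⟨E.symm (((localCohomology m r).mapIso i).toLinearEquiv v), by
          show δ hS m r (((localCohomology m r).mapIso i).toLinearEquiv.symm (E (E.symm _))) = h
          rw [LinearEquiv.apply_symm_apply, LinearEquiv.symm_apply_apply, hv]⟩
      obtain ⟨c', hc'⟩ := hespan w fun a ha => by
        obtain ⟨a, rfl⟩ := Ideal.Quotient.mk_surjective a
        have ham : a ∈ m := by
          have h1 : a ∈ (m.map (algebraMap A A')).comap (algebraMap A A') := by
            rw [hmap]; exact ha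
          rw [Ideal.comap_map_of_surjective' (algebraMap A A') Ideal.Quotient.mk_surjective, show RingHom.ker (algebraMap A A') =
            Ideal.span {x} from Ideal.mk_ker, sup_eq_left.2 ((Ideal.span_singleton_le_iff_mem _).2 hx)] at h1
          exact h1
        let w' : (res A A').obj ((localCohomology m' r).obj (ModuleCat.of A' A')) := w
        have h0 : a • w' = 0 := hinj (((map_smul ψ a w').trans ((congrArg (a • ·) hw).trans (hh a ham))).trans
          (map_zero ψ).symm)
        exact h0
      obtain ⟨c, rfl⟩ := Ideal.Quotient.mk_surjective c'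
      refine ⟨c, ?_⟩
      rw [← hw, hc']
      exact map_smul ψ c e''

/-- Local cohomology of a regular local ring vanishes above the dimension. -/
theorem subsingleton_gam_homology {A : Type u} [CommRing A] [LocCoh.IsGorensteinLocalRing A] {r : ℕ}
    (hr : LocCoh.depth A A = r) (i : ℕ) (hi : i ≠ r) :
    Subsingleton ((localCohomology (IsLocalRing.maximalIdeal A) i).obj (ModuleCat.of A A)) := by
  rcases lt_or_gt_of_ne hi with h | h
  · exact subsingleton_H_self_lt hr h
  refine subsingleton_of_forall_eq 0 fun z => ?_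
  obtain ⟨n, y, rfl⟩ := exists_cl z
  haveI : Module.Finite A (qMod (IsLocalRing.maximalIdeal A) n) :=
    inferInstanceAs (Module.Finite A (A ⧸ IsLocalRing.maximalIdeal A ^ n))
  haveI : Subsingleton (ExtS (qMod (IsLocalRing.maximalIdeal A) n) i) :=
    GorLib.ext_vanish_of_depth_lt r A hr (qMod (IsLocalRing.maximalIdeal A) n) i h
  exact (congrArg _ (Subsingleton.elim (α := ExtS (qMod (IsLocalRing.maximalIdeal A) n) i) y 0)).trans
    (map_zero _)

/-- `H^r_m(A)` is injective. -/
theorem injective_H_top {A : Type u} [CommRing A] [LocCoh.IsGorensteinLocalRing A] {r : ℕ}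
    (hr : LocCoh.depth A A = r) :
    Module.Injective A ((localCohomology (IsLocalRing.maximalIdeal A) r).obj (ModuleCat.of A A)) := by
  let m := IsLocalRing.maximalIdeal A
  let P₀ := injectiveResolution (ModuleCat.of A A)
  let W := gam m P₀.cochainComplex
  let H := (localCohomology m r).obj (ModuleCat.of A A)
  have hWiso : ∀ i : ℕ, Nonempty (W.homology (i : ℤ) ≅ (localCohomology m i).obj (ModuleCat.of A A)) := fun i =>
    ⟨(HomologicalComplex.homologyFunctor (ModuleCat.{u} A) (ComplexShape.up ℤ) (i : ℤ)).mapIso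
      (mapExtendIso (DRing.gammaI m) P₀.cocomplex) ≪≫
      (gCx m P₀).extendHomologyIso ComplexShape.embeddingUpNat rfl ≪≫ (gammaEquiv m P₀ i).toModuleIso⟩
  haveI : W.IsGE (r : ℤ) := (CochainComplex.isGE_iff _ _).2 fun i hi => by
    rw [HomologicalComplex.exactAt_iff_isZero_homology]
    rcases lt_or_ge i 0 with hneg | hpos
    · exact (HomologicalComplex.exactAt_iff_isZero_homology _ _).1
        (HomologicalComplex.ExactAt.of_isZero (W.isZero_of_isStrictlyGE 0 i hneg))
    obtain ⟨k, rfl⟩ := Int.eq_ofNat_of_zero_le hpos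
    obtain ⟨e⟩ := hWiso k
    haveI := subsingleton_gam_homology hr k (by omega)
    exact (ModuleCat.isZero_of_subsingleton _).of_iso e
  haveI : W.IsLE (r : ℤ) := (CochainComplex.isLE_iff _ _).2 fun i hi => by
    rw [HomologicalComplex.exactAt_iff_isZero_homology]
    obtain ⟨k, rfl⟩ := Int.eq_ofNat_of_zero_le (show 0 ≤ i by omega)
    obtain ⟨e⟩ := hWiso k
    haveI := subsingleton_gam_homology hr k (by omega)
    exact (ModuleCat.isZero_of_subsingleton _).of_iso e
  obtain ⟨Y, ⟨eY⟩⟩ := DerivedCategory.exists_iso_singleFunctor_obj_of_isGE_of_isLE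
    (DerivedCategory.Q.obj W) (r : ℤ)
  have eH : Nonempty (Y ≅ H) := by
    obtain ⟨e⟩ := hWiso r
    exact ⟨(HomologicalComplex.singleObjHomologySelfIso (ComplexShape.up ℤ) (r : ℤ) Y).symm ≪≫
      ((DerivedCategory.homologyFunctorFactors (ModuleCat.{u} A) (r : ℤ)).app _).symm ≪≫
      (DerivedCategory.homologyFunctor (ModuleCat.{u} A) (r : ℤ)).mapIso
        (((DerivedCategory.singleFunctorIsoCompQ (ModuleCat.{u} A) (r : ℤ)).app Y).symm ≪≫ eY.symm) ≪≫
      (DerivedCategory.homologyFunctorFactors (ModuleCat.{u} A) (r : ℤ)).app _ ≪≫ e⟩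
  obtain ⟨eH⟩ := eH
  -- `Ext¹(N, H) = 0` for finite `N`
  have hExt : ∀ (N : ModuleCat.{u} A) [Module.Finite A N], Subsingleton (Ext N H 1) := by
    intro N _
    have hp : Subsingleton (piece P₀ m N 0 ((r : ℤ) + 1)) := subsingleton_of_forall_eq 0 fun x => by
      obtain ⟨N', hN', y, -, hy⟩ := smul_eq_zero_of_ext P₀ m N 0 ((r : ℤ) + 1) (r + 1) (by push_cast; omega) x
      haveI : Subsingleton (ExtS N' (r + 1)) := GorLib.ext_vanish_of_depth_lt r A hr N' (r + 1) le_rfl
      have := hy 1 ((one_smul A y).trans (Subsingleton.elim (α := ExtS N' (r + 1)) y 0))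
      rwa [one_smul] at this
    haveI hc : Subsingleton (CohomologyClass (sgl 0 N) W ((r : ℤ) + 1)) :=
      subsingleton_of_forall_eq 0 fun c => by
        obtain ⟨c, rfl⟩ := c.mk_surjective
        rw [CohomologyClass.mk_eq_zero_iff, mem_coboundaries_iff c ((r : ℤ) + 1 - 1) (by omega)]
        have h1 := (hcls_smul_eq_zero_iff (sgl 0 N) W ((r : ℤ) + 1) c.1 (c.δ_eq_zero _) 1).1
          ((one_smul _ _).trans (hp.elim _ _))
        obtain ⟨β, hβ⟩ := h1
        rw [one_smul] at hβ
        exact ⟨β, hβ⟩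
    haveI hK : Subsingleton (DerivedCategory.Qh.obj ((HomotopyCategory.quotient _ _).obj (sgl 0 N)) ⟶
        DerivedCategory.Qh.obj ((HomotopyCategory.quotient _ _).obj (W⟦(r : ℤ) + 1⟧))) :=
      ((CochainComplex.IsKInjective.Qh_map_bijective _ _).comp
        (CohomologyClass.toHom_bijective (sgl 0 N) W ((r : ℤ) + 1))).2.subsingleton
    let a := (DerivedCategory.quotientCompQhIso (ModuleCat.{u} A)).app (sgl 0 N)
    let b := (DerivedCategory.quotientCompQhIso (ModuleCat.{u} A)).app (W⟦(r : ℤ) + 1⟧)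
    let cN := (DerivedCategory.singleFunctorIsoCompQ (ModuleCat.{u} A) 0).app N
    let cW : (DerivedCategory.singleFunctor (ModuleCat.{u} A) 0).obj H⟦((1 : ℕ) : ℤ)⟧ ≅
        DerivedCategory.Q.obj (W⟦(r : ℤ) + 1⟧) :=
      (((DerivedCategory.singleFunctors (ModuleCat.{u} A)).shiftIso ((1 : ℕ) : ℤ) (-1) 0 (by simp)).app H) ≪≫
        (((DerivedCategory.singleFunctors (ModuleCat.{u} A)).shiftIso ((r : ℤ) + 1) (-1) (r : ℤ)
          (by omega)).app H).symm ≪≫
        (CategoryTheory.shiftFunctor _ ((r : ℤ) + 1)).mapIso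
          ((DerivedCategory.singleFunctor (ModuleCat.{u} A) (r : ℤ)).mapIso eH.symm ≪≫ eY.symm) ≪≫
        (((DerivedCategory.Q (C := ModuleCat.{u} A)).commShiftIso ((r : ℤ) + 1)).app W).symm
    haveI : Subsingleton ((HomotopyCategory.quotient (ModuleCat.{u} A) (ComplexShape.up ℤ) ⋙
        DerivedCategory.Qh).obj (sgl 0 N) ⟶ (HomotopyCategory.quotient (ModuleCat.{u} A) (ComplexShape.up ℤ) ⋙
        DerivedCategory.Qh).obj (W⟦(r : ℤ) + 1⟧)) := hK
    haveI : Subsingleton (ShiftedHom ((DerivedCategory.singleFunctor (ModuleCat.{u} A) 0).obj N)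
        ((DerivedCategory.singleFunctor (ModuleCat.{u} A) 0).obj H) ((1 : ℕ) : ℤ)) :=
      (Iso.homCongr (cN ≪≫ a.symm) (cW ≪≫ b.symm)).injective.subsingleton
    exact Ext.homEquiv.injective.subsingleton
  refine Module.Baer.injective fun b g => ?_
  let C : ShortComplex (ModuleCat.{u} A) := ShortComplex.mk (X₁ := ModuleCat.of A b) (X₂ := ModuleCat.of A A)
    (X₃ := ModuleCat.of A (A ⧸ b)) (ModuleCat.ofHom b.subtype) (ModuleCat.ofHom b.mkQ)
    (ModuleCat.hom_ext (LinearMap.ext fun x => (Submodule.Quotient.mk_eq_zero _).2 x.2))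
  have hC : C.ShortExact :=
    { exact := (ShortComplex.ShortExact.moduleCat_exact_iff_function_exact _).2 (LinearMap.exact_subtype_mkQ _)
      mono_f := (ModuleCat.mono_iff_injective _).2 Subtype.val_injective
      epi_g := (ModuleCat.epi_iff_surjective _).2 (Submodule.mkQ_surjective _) }
  haveI : Module.Finite A C.X₃ := Module.Finite.quotient A b
  obtain ⟨y, hy⟩ := Ext.contravariant_sequence_exact₁ hC H (Ext.mk₀ (ModuleCat.ofHom (Y := H) g)) (rfl : 1 + 0 = 1)
    ((hExt C.X₃).elim _ _)
  obtain ⟨f, rfl⟩ := (Ext.mk₀_bijective _ _).2 y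
  rw [Ext.mk₀_comp_mk₀] at hy
  exact ⟨f.hom, fun z hz => ConcreteCategory.congr_hom ((Ext.mk₀_bijective _ _).1 hy) ⟨z, hz⟩⟩

/-- `H^r_m(A)` is an injective hull of the residue field. -/
theorem exists_injectiveHull_H_top {A : Type u} [CommRing A] [LocCoh.IsGorensteinLocalRing A] {r : ℕ}
    (hr : LocCoh.depth A A = r) : ∃ f : IsLocalRing.ResidueField A →ₗ[A]
      LocCoh.H (IsLocalRing.maximalIdeal A) r A, InjHull.IsInjectiveHull f := by
  refine (Groth.Agent.S5155.result A _).2 ⟨injective_H_top hr, isPowerTorsion_H r _, ?_⟩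
  obtain ⟨e, he0, hekill, hespan⟩ := exists_socle r A hr
  let q : A →ₗ[A] LocCoh.H (IsLocalRing.maximalIdeal A) r A := LinearMap.toSpanSingleton A _ e
  let f₀ : IsLocalRing.ResidueField A →ₗ[A] LocCoh.H (IsLocalRing.maximalIdeal A) r A :=
    Submodule.liftQ (IsLocalRing.maximalIdeal A) q fun a ha => hekill a ha
  have hf₀ : f₀ ≠ 0 := fun h => he0 ((one_smul A e).symm.trans (LinearMap.congr_fun h (Submodule.Quotient.mk (1 : A))))
  haveI : Nontrivial (IsLocalRing.ResidueField A →ₗ[A] LocCoh.H (IsLocalRing.maximalIdeal A) r A) :=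
    ⟨⟨f₀, 0, hf₀⟩⟩
  have hall : ∀ g : IsLocalRing.ResidueField A →ₗ[A] LocCoh.H (IsLocalRing.maximalIdeal A) r A,
      ∃ c : A, g = c • f₀ := fun g => by
    let g₁ : (A ⧸ IsLocalRing.maximalIdeal A) →ₗ[A] LocCoh.H (IsLocalRing.maximalIdeal A) r A := g
    obtain ⟨c, hc⟩ := hespan (g₁ (Submodule.Quotient.mk (1 : A))) fun a ha => by
      refine ((map_smul g₁ a _).symm.trans (congrArg g₁ ?_)).trans (map_zero g₁)
      rw [← Submodule.Quotient.mk_smul, Submodule.Quotient.mk_eq_zero]
      exact Ideal.mul_mem_right 1 _ ha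
    refine ⟨c, LinearMap.ext fun z => ?_⟩
    obtain ⟨a, rfl⟩ := Submodule.Quotient.mk_surjective _ z
    show g₁ (Submodule.Quotient.mk a) = c • (a • e)
    rw [smul_comm, ← hc]
    refine Eq.trans ?_ (map_smul g₁ a _)
    rw [← Submodule.Quotient.mk_smul, smul_eq_mul, mul_one]
  refine isSimpleModule_iff_toSpanSingleton_surjective.2 ⟨inferInstance, fun g hg g' => ?_⟩
  obtain ⟨c, rfl⟩ := hall g
  obtain ⟨c', rfl⟩ := hall g'
  have hcu : IsUnit c := IsLocalRing.notMem_maximalIdeal.1 fun hc => hg (LinearMap.ext fun z => by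
    obtain ⟨a, rfl⟩ := Submodule.Quotient.mk_surjective _ z
    show c • (a • e) = 0
    rw [smul_comm, hekill c hc, smul_zero])
  obtain ⟨v, hv⟩ := hcu.exists_left_inv
  exact ⟨c' * v, by rw [LinearMap.toSpanSingleton_apply, smul_smul, mul_assoc, hv, mul_one]⟩

end Groth.Agent.LocCohLib.Gor
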