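import Groth.Agent.LocCohLib.Grothendieck
import Groth.Agent.LocCohLib.Flat
import Groth.Agent.LocCohLib.Artinian
import Groth.Agent.LocCohLib.ExtVanishing
import Mathlib.RingTheory.Flat.FaithfullyFlat.Basic
import Mathlib.RingTheory.KrullDimension.Basic

/-!
# Cohomological dimension of an ideal
-/

set_option autoImplicit false
set_option linter.style.haveILetI false

universe u

open CategoryTheory CategoryTheory.Limits
open scoped TensorProduct

namespace Groth.Agent.LocCohLib

variable {R : Type u} [CommRing R] [IsNoetherianRing R]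

section BaseChange

variable {R' : Type u} [CommRing R'] [IsNoetherianRing R'] [Algebra R R']

theorem subsingleton_map_of_res (I : Ideal R) (i : ℕ) (E : ModuleCat.{u} R')
    (h : Subsingleton ((localCohomology I i).obj ((res R R').obj E))) :
    Subsingleton ((localCohomology (I.map (algebraMap R R')) i).obj E) := by
  obtain ⟨e⟩ := nonempty_resEquiv (R' := R') I i E
  exact e.toEquiv.subsingleton

theorem subsingleton_of_tens [Module.Flat R R'] (I : Ideal R) (i : ℕ) (M : ModuleCat.{u} R)
    (href : ∀ (N : Type u) [AddCommGroup N] [Module R N], Subsingleton (R' ⊗[R] N) → Subsingleton N)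
    (h : Subsingleton ((localCohomology (I.map (algebraMap R R')) i).obj ((tens R').obj M))) :
    Subsingleton ((localCohomology I i).obj M) := by
  obtain ⟨e⟩ := nonempty_tensEquiv (R' := R') I i M
  exact href _ e.toEquiv.subsingleton

end BaseChange

theorem subsingleton_of_localizations (I : Ideal R) (i : ℕ) (M : ModuleCat.{u} R)
    (h : ∀ (p : Ideal R) [p.IsPrime],
      Subsingleton ((localCohomology (I.map (algebraMap R (Localization.AtPrime p))) i).obj
        ((tens (Localization.AtPrime p)).obj M))) :
    Subsingleton ((localCohomology I i).obj M) := by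
  rw [← Module.support_eq_empty_iff (R := R), Set.eq_empty_iff_forall_notMem]
  intro p hp
  haveI : Module.Flat R (Localization.AtPrime p.asIdeal) :=
    IsLocalization.flat (Localization.AtPrime p.asIdeal) p.asIdeal.primeCompl
  obtain ⟨e⟩ := nonempty_tensEquiv (R' := Localization.AtPrime p.asIdeal) I i M
  haveI := h p.asIdeal
  haveI : Subsingleton (Localization.AtPrime p.asIdeal ⊗[R] (localCohomology I i).obj M) :=
    e.toEquiv.subsingleton
  haveI := (LocalizedModule.equivTensorProduct p.asIdeal.primeCompl
    ((localCohomology I i).obj M)).toEquiv.subsingleton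
  exact (not_nontrivial_iff_subsingleton.2 this) (Module.mem_support_iff.1 hp)

/-- Localising a torsion module at an element of the ideal. -/
theorem subsingleton_locFun_of_isPowerTorsion {J : Ideal R} {b : R} (hb : b ∈ J) {M : ModuleCat.{u} R}
    (hM : LocCoh.IsPowerTorsion J M) : Subsingleton ((locFun b).obj M) := by
  refine subsingleton_of_forall_eq 0 fun (x : LocalizedModule (Submonoid.powers b) M) => ?_
  induction x using LocalizedModule.induction_on with
  | h m s =>
    obtain ⟨n, hn⟩ := hM m
    refine Eq.trans ?_ (LocalizedModule.zero_mk s)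
    refine LocalizedModule.mk_eq.2 ⟨⟨b ^ n, n, rfl⟩, ?_⟩
    rw [smul_zero, smul_zero]
    show b ^ n • s • m = 0
    rw [smul_comm, hn _ (Ideal.pow_mem_pow hb n), smul_zero]

theorem subsingleton_of_subsingleton_obj {I : Ideal R} {i : ℕ} {M : ModuleCat.{u} R}
    [Subsingleton M] : Subsingleton ((localCohomology I i).obj M) :=
  ⟨fun z w => by
    have hz : ∀ z : (localCohomology I i).obj M, z = 0 := fun z =>
      (one_smul R z).symm.trans (smul_eq_zero_of_smul_eq_zero (s := (1 : R))
        (fun m => Subsingleton.elim _ _) i z)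
    rw [hz z, hz w]⟩

/-- For `J`-torsion `M`, `H^i_{I+J}(M) → H^i_I(M)` is injective; hence vanishing passes up. -/
theorem subsingleton_sup_span_of_isPowerTorsion {J : Ideal R} (s : Finset R) (hs : (s : Set R) ⊆ J)
    {M : ModuleCat.{u} R} (hM : LocCoh.IsPowerTorsion J M) (I : Ideal R) (i : ℕ)
    (h : Subsingleton ((localCohomology I i).obj M)) :
    Subsingleton ((localCohomology (I ⊔ Ideal.span (s : Set R)) i).obj M) := by
  classical
  induction s using Finset.induction_on with
  | empty => rwa [Finset.coe_empty, Ideal.span_empty, sup_bot_eq]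
  | insert b s hb ih =>
    rw [Finset.coe_insert, Set.insert_subset_iff] at hs
    haveI := ih hs.2
    rw [Finset.coe_insert, Ideal.span_insert, sup_comm (Ideal.span {b}), ← sup_assoc]
    haveI := subsingleton_locFun_of_isPowerTorsion hs.1 hM
    refine Function.Injective.subsingleton
      (f := ((Dual2.HmapOfLE (le_sup_left : I ⊔ Ideal.span (s : Set R) ≤
        (I ⊔ Ideal.span (s : Set R)) ⊔ Ideal.span {b}) i).app M).hom) ?_
    cases i with
    | zero => exact loc_injective_zero _ b M
    | succ k =>
      refine (injective_iff_map_eq_zero _).2 fun w hw => ?_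
      obtain ⟨v, rfl⟩ := (loc_exact₁ _ b M k w).1 hw
      rw [(subsingleton_of_subsingleton_obj (I := I ⊔ Ideal.span (s : Set R)) (i := k)
        (M := (locFun b).obj M)).elim v 0, map_zero]

theorem subsingleton_sup_of_isPowerTorsion {I J : Ideal R} {M : ModuleCat.{u} R}
    (hM : LocCoh.IsPowerTorsion J M) (i : ℕ) (h : Subsingleton ((localCohomology I i).obj M)) :
    Subsingleton ((localCohomology (I ⊔ J) i).obj M) := by
  obtain ⟨s, hs⟩ := IsNoetherian.noetherian J
  rw [← hs]
  exact subsingleton_sup_span_of_isPowerTorsion s (hs ▸ Ideal.subset_span) hM I i h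

/-- A module with no `J`-local cohomology has no local cohomology for larger ideals. -/
theorem subsingleton_of_acyclic_torsionFree {J J' : Ideal R} (hJ : J ≤ J') : ∀ (k : ℕ)
    (Q : ModuleCat.{u} R), (∀ n, Subsingleton ((localCohomology J n).obj Q)) →
    Subsingleton ((localCohomology J' k).obj Q) := by
  intro k
  induction k with
  | zero =>
    intro Q hQ
    haveI := hQ 0
    exact Function.Injective.subsingleton (f := ((Dual2.HmapOfLE hJ 0).app Q).hom) fun u v huv =>
      h0_injective ((h0_hmapOfLE hJ u).symm.trans ((congrArg (h0 J Q) huv).trans (h0_hmapOfLE hJ v)))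
  | succ k ih =>
    intro Q hQ
    obtain ⟨E, ι, hE, hι, hT⟩ := exists_torsionFree_seq ((subsingleton_h0_iff Q).1 (hQ 0))
    let S : ShortComplex (ModuleCat.{u} R) := ShortComplex.mk ι (cokernel.π ι) (cokernel.condition _)
    have hS : S.ShortExact := { exact := ShortComplex.exact_cokernel _ }
    haveI : Injective S.X₂ := hE
    have hC : ∀ n, Subsingleton ((localCohomology J n).obj S.X₃) := fun n => by
      refine subsingleton_of_forall_eq 0 fun w => ?_
      obtain ⟨v, rfl⟩ := exact₃ hS w ((hQ (n + 1)).elim _ _)
      have hE' : Subsingleton ((localCohomology J n).obj E) := by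
        cases n with
        | zero => exact (subsingleton_h0_iff E).2 hT
        | succ n => exact subsingleton_of_injective n
      rw [hE'.elim v 0]
      exact map_zero _
    haveI := ih S.X₃ hC
    exact (δ_surjective (I := J') hS k).subsingleton

/-- `cd(I + J) ≤ cd(I) + cd(J)`. -/
theorem subsingleton_sup (I J : Ideal R) (a : ℕ)
    (hI : ∀ (N : ModuleCat.{u} R) (k : ℕ), a < k → Subsingleton ((localCohomology I k).obj N)) :
    ∀ (c : ℕ) (M : ModuleCat.{u} R), (∀ k, c < k → Subsingleton ((localCohomology J k).obj M)) →
    ∀ i, a + c < i → Subsingleton ((localCohomology (I ⊔ J) i).obj M) := by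
  intro c
  induction c with
  | zero =>
    intro M hM i hi
    let S := torSeq J M
    have hS : S.ShortExact := torSeq_shortExact J M
    haveI : Subsingleton ((localCohomology (I ⊔ J) i).obj S.X₁) :=
      subsingleton_sup_of_isPowerTorsion (isPowerTorsion_torsionSub J M) i (hI _ _ (by omega))
    haveI : Subsingleton ((localCohomology (I ⊔ J) i).obj S.X₃) :=
      subsingleton_of_acyclic_torsionFree le_sup_right i S.X₃ fun n => by
        cases n with
        | zero => exact (subsingleton_h0_iff _).2 (torsionSub_quotient_eq_bot J M)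
        | succ n =>
          refine subsingleton_of_forall_eq 0 fun w => ?_
          obtain ⟨v, rfl⟩ := exact₃ hS w ((subsingleton_of_isPowerTorsion (I := J) (n + 1) S.X₁
            (isPowerTorsion_torsionSub J M)).elim _ _)
          rw [(hM (n + 1) (Nat.succ_pos n)).elim v 0]
          exact map_zero _
    refine subsingleton_of_forall_eq 0 fun w => ?_
    obtain ⟨v, rfl⟩ := exact₂ hS w (Subsingleton.elim _ _)
    rw [Subsingleton.elim v 0]
    exact map_zero _
  | succ c ih =>
    intro M hM i hi
    obtain ⟨j, rfl⟩ : ∃ j, i = j + 1 := ⟨i - 1, by omega⟩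
    have hS := injSeq_shortExact M
    haveI := ih (injSeq M).X₃ (fun k hk => by
      refine subsingleton_of_forall_eq 0 fun w => ?_
      obtain ⟨v, rfl⟩ := exact₃ hS w ((hM (k + 1) (by omega)).elim _ _)
      obtain ⟨k', rfl⟩ : ∃ k', k = k' + 1 := ⟨k - 1, by omega⟩
      rw [(subsingleton_of_injective (I := J) (M := (injSeq M).X₂) k').elim v 0]
      exact map_zero _) j (by omega)
    exact (δ_surjective (I := I ⊔ J) hS j).subsingleton

section Local

variable [IsLocalRing R]

theorem subsingleton_H_locFun (I : Ideal R) {b : R} (hb : ¬ IsUnit b) (M : ModuleCat.{u} R) (n : ℕ)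
    (h : DimLt R M (n + 1)) : Subsingleton ((localCohomology I n).obj ((locFun b).obj M)) := by
  let B := Localization (Submonoid.powers b)
  haveI : IsNoetherianRing B := IsLocalization.isNoetherianRing (Submonoid.powers b) B inferInstance
  have hsub := subsingleton_of_dimLt (I.map (algebraMap R B)) n
    (ModuleCat.of B (LocalizedModule (Submonoid.powers b) M)) (h.localized_away hb)
  obtain ⟨e⟩ := nonempty_resEquiv (R' := B) I n
    (ModuleCat.of B (LocalizedModule (Submonoid.powers b) M))
  haveI : Subsingleton ((localCohomology I n).obj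
      ((res R B).obj (ModuleCat.of B (LocalizedModule (Submonoid.powers b) M)))) :=
    haveI : Subsingleton ((res R B).obj ((localCohomology (I.map (algebraMap R B)) n).obj
      (ModuleCat.of B (LocalizedModule (Submonoid.powers b) M)))) := hsub
    e.symm.toEquiv.subsingleton
  exact localCohomology_map_iso_subsingleton (resLocEquiv b M)

/-- `H^n_a(M)` is Artinian for `n = dim M`. -/
theorem isArtinian_H_top (a : Ideal R) (n : ℕ) (M : ModuleCat.{u} R) [Module.Finite R M]
    (hn : Module.supportDim R M = n) : IsArtinian R ((localCohomology a n).obj M) := by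
  classical
  have hdim : DimLt R M (n + 1) := DimLt.of_supportDim (by
    rw [hn]; exact_mod_cast Nat.lt_succ_self n)
  by_cases ha : a = ⊤
  · subst ha
    haveI := subsingleton_top M n
    infer_instance
  obtain ⟨s, hs⟩ := IsNoetherian.noetherian (IsLocalRing.maximalIdeal R)
  have key : ∀ t : Finset R, (t : Set R) ⊆ IsLocalRing.maximalIdeal R →
      IsArtinian R ((localCohomology (a ⊔ Ideal.span (t : Set R)) n).obj M) →
      IsArtinian R ((localCohomology a n).obj M) := by
    intro t
    induction t using Finset.induction_on with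
    | empty => intro _ h; rwa [Finset.coe_empty, Ideal.span_empty, sup_bot_eq] at h
    | insert b t hb ih =>
      intro hsub h
      rw [Finset.coe_insert, Set.insert_subset_iff] at hsub
      rw [Finset.coe_insert, Ideal.span_insert, sup_comm (Ideal.span {b}), ← sup_assoc] at h
      refine ih hsub.2 (@isArtinian_of_surjective _ _ _ _ _ _ _ _
        ((Dual2.HmapOfLE (le_sup_left : a ⊔ Ideal.span (t : Set R) ≤
          (a ⊔ Ideal.span (t : Set R)) ⊔ Ideal.span {b}) n).app M).hom (fun y => ?_) h)
      exact ((loc_exact₂ _ b M n) y).1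
        ((subsingleton_H_locFun _ ((IsLocalRing.mem_maximalIdeal b).1 hsub.1) M n hdim).elim _ _)
  refine key s (hs ▸ Ideal.subset_span) ?_
  rw [show Ideal.span (s : Set R) = IsLocalRing.maximalIdeal R from hs,
    sup_eq_right.2 (IsLocalRing.le_maximalIdeal ha)]
  exact isArtinian_H n M

/-- Multiplication by a parameter is surjective on the top local cohomology. -/
theorem surjective_smul_top (I : Ideal R) (d : ℕ) (hd : ringKrullDim R = d) (f : R)
    (hf : ∀ p ∈ minimalPrimes R, ringKrullDim (R ⧸ p) = d → f ∉ p) (M : ModuleCat.{u} R) :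
    Function.Surjective fun x : (localCohomology I d).obj M => f • x := by
  let φ : M →ₗ[R] M := LinearMap.lsmul R M f
  let K : ShortComplex (ModuleCat.{u} R) := ShortComplex.mk (ModuleCat.ofHom (LinearMap.ker φ).subtype)
    (ModuleCat.ofHom (X := M) φ.rangeRestrict)
    (ModuleCat.hom_ext (LinearMap.ext fun x => Subtype.ext x.2))
  let C : ShortComplex (ModuleCat.{u} R) := ShortComplex.mk (ModuleCat.ofHom (LinearMap.range φ).subtype)
    (ModuleCat.ofHom (X := M) (LinearMap.range φ).mkQ)
    (ModuleCat.hom_ext (LinearMap.ext fun x => (Submodule.Quotient.mk_eq_zero _).2 x.2))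
  have hK : K.ShortExact :=
    { exact := (ShortComplex.ShortExact.moduleCat_exact_iff_function_exact _).2 fun x =>
        ⟨fun h => ⟨⟨x, congrArg Subtype.val h⟩, rfl⟩, by rintro ⟨y, rfl⟩; exact Subtype.ext y.2⟩
      mono_f := (ModuleCat.mono_iff_injective _).2 (LinearMap.ker φ).injective_subtype
      epi_g := (ModuleCat.epi_iff_surjective _).2 φ.surjective_rangeRestrict }
  have hC : C.ShortExact :=
    { exact := (ShortComplex.ShortExact.moduleCat_exact_iff_function_exact _).2 fun x =>
        ⟨fun h => ⟨⟨x, (Submodule.Quotient.mk_eq_zero _).1 h⟩, rfl⟩, by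
          rintro ⟨y, rfl⟩; exact (Submodule.Quotient.mk_eq_zero _).2 y.2⟩
      mono_f := (ModuleCat.mono_iff_injective _).2 (LinearMap.range φ).injective_subtype
      epi_g := (ModuleCat.epi_iff_surjective _).2 (Submodule.mkQ_surjective _) }
  have hQ : DimLt R (M ⧸ LinearMap.range φ) d := by
    intro l
    by_contra hl
    rw [not_lt] at hl
    have hmem : ∀ j, f ∈ (l j).1.asIdeal := fun j => by
      obtain ⟨m, hm⟩ := Module.mem_support_iff'.1 (l j).2
      by_contra hfj
      refine hm f hfj ?_
      induction m using Submodule.Quotient.induction_on with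
      | H m => exact (Submodule.Quotient.mk_eq_zero _).2 ⟨m, rfl⟩
    let L : LTSeries (PrimeSpectrum R) := l.map Subtype.val fun _ _ h => h
    obtain ⟨p, hp, hple⟩ := Ideal.exists_minimalPrimes_le (J := L.head.asIdeal) (I := ⊥) bot_le
    haveI : p.IsPrime := hp.1.1
    have hlen : ∀ L' : LTSeries (PrimeSpectrum R), L'.length ≤ d := fun L' => by
      exact_mod_cast (Order.LTSeries.length_le_krullDim L').trans hd.le
    have hLd : L.length = d := le_antisymm (hlen L) hl
    have hpe : p = L.head.asIdeal := by
      by_contra hne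
      have hlt : (⟨p, inferInstance⟩ : PrimeSpectrum R) < L.head :=
        lt_of_le_of_ne hple fun e => hne (congrArg PrimeSpectrum.asIdeal e)
      exact absurd (hlen (L.cons _ hlt)) (by simp [hLd])
    refine hf p hp ?_ (hpe ▸ (hmem 0 : f ∈ L.head.asIdeal))
    refine le_antisymm ((ringKrullDim_quotient_le p).trans hd.le) ?_
    rw [ringKrullDim_quotient, ← hLd]
    refine le_of_eq_of_le (by rfl) (Order.LTSeries.length_le_krullDim
      ({ length := L.length
         toFun := fun j => (⟨L j, (hpe.le.trans (L.monotone (Fin.zero_le j)) :)⟩ :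
           PrimeSpectrum.zeroLocus (p : Set R))
         step := fun j => L.step j } : LTSeries (PrimeSpectrum.zeroLocus (p : Set R))))
  have h1 : Subsingleton ((localCohomology I (d + 1)).obj K.X₁) :=
    subsingleton_of_dimLt I (d + 1) _ (DimLt.of_supportDim
      ((Module.supportDim_le_ringKrullDim R _).trans_lt (by rw [hd]; exact_mod_cast Nat.lt_succ_self d)))
  have h2 : Subsingleton ((localCohomology I d).obj C.X₃) := subsingleton_of_dimLt I d _ hQ
  intro w
  obtain ⟨v, rfl⟩ := exact₂ hC w (h2.elim _ _)
  obtain ⟨x, rfl⟩ := exact₃ hK v (h1.elim _ _)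
  refine ⟨x, ?_⟩
  have he : f • (𝟙 M) = K.g ≫ C.f := ModuleCat.hom_ext (LinearMap.ext fun m => rfl)
  show f • x = _
  rw [← map_smul_id f x, he, Functor.map_comp]
  rfl

end Local

end Groth.Agent.LocCohLib
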