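import Groth.Agent.LocCohLib.Vanishing
import Mathlib.Algebra.Category.ModuleCat.ChangeOfRings

/-!
# Independence of the base ring
-/

set_option autoImplicit false
set_option linter.style.haveILetI false

universe u

open CategoryTheory CategoryTheory.Limits

namespace Groth.Agent.LocCohLib

variable {R : Type u} [CommRing R] {R' : Type u} [CommRing R'] [Algebra R R']

/-- Restriction of scalars. -/
noncomputable abbrev res (R R' : Type u) [CommRing R] [CommRing R'] [Algebra R R'] :
    ModuleCat.{u} R' ⥤ ModuleCat.{u} R :=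
  ModuleCat.restrictScalars (algebraMap R R')

theorem res_smul (E : ModuleCat.{u} R') (r : R) (x : (res R R').obj E) :
    r • x = (algebraMap R R' r • (x : E) : E) := rfl

theorem annihilated_map_iff (J : Ideal R) (E : ModuleCat.{u} R') (x : E) :
    (∀ a ∈ J.map (algebraMap R R'), a • x = 0) ↔ ∀ a ∈ J, algebraMap R R' a • x = 0 := by
  refine ⟨fun h a ha => h _ (Ideal.mem_map_of_mem _ ha), fun h a ha => ?_⟩
  induction ha using Submodule.span_induction with
  | mem a ha => obtain ⟨c, hc, rfl⟩ := ha; exact h c hc
  | zero => rw [zero_smul]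
  | add a c _ _ h₁ h₂ => rw [add_smul, h₁, h₂, add_zero]
  | smul t a _ ih => rw [smul_eq_mul, mul_smul, ih, smul_zero]

theorem mem_torsionSub_res (I : Ideal R) (E : ModuleCat.{u} R') (x : E) :
    (x : (res R R').obj E) ∈ DRing.torsionSub I ((res R R').obj E) ↔
      x ∈ DRing.torsionSub (I.map (algebraMap R R')) E := by
  show (∃ n : ℕ, ∀ a ∈ I ^ n, algebraMap R R' a • x = 0) ↔
    ∃ n : ℕ, ∀ a ∈ I.map (algebraMap R R') ^ n, a • x = 0
  refine exists_congr fun n => ?_
  rw [← Ideal.map_pow, annihilated_map_iff]

theorem isLocalizedModule_res (b : R) (E : ModuleCat.{u} R') :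
    IsLocalizedModule (Submonoid.powers b)
      (((res R R').map ((toLoc (algebraMap R R' b)).app E)).hom) where
  map_units := by
    rintro ⟨_, n, rfl⟩
    have h := IsLocalizedModule.map_units
      (LocalizedModule.mkLinearMap (Submonoid.powers (algebraMap R R' b)) E)
      (⟨algebraMap R R' b ^ n, n, rfl⟩ : Submonoid.powers (algebraMap R R' b))
    rw [Module.End.isUnit_iff] at h ⊢
    have e : (fun y : LocalizedModule (Submonoid.powers (algebraMap R R' b)) E =>
        algebraMap R R' (b ^ n) • y) = fun y => algebraMap R R' b ^ n • y := by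
      funext y
      rw [map_pow]
    show Function.Bijective fun y : LocalizedModule (Submonoid.powers (algebraMap R R' b)) E =>
        algebraMap R R' (b ^ n) • y
    rw [e]
    exact h
  surj := fun y => by
    obtain ⟨⟨m, ⟨_, n, rfl⟩⟩, h⟩ := IsLocalizedModule.surj
      (Submonoid.powers (algebraMap R R' b))
      (LocalizedModule.mkLinearMap (Submonoid.powers (algebraMap R R' b)) E)
      (y : LocalizedModule (Submonoid.powers (algebraMap R R' b)) E)
    refine ⟨⟨m, ⟨b ^ n, n, rfl⟩⟩, ?_⟩
    refine Eq.trans ?_ h
    show algebraMap R R' (b ^ n) • (y : LocalizedModule (Submonoid.powers (algebraMap R R' b)) E) = _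
    rw [map_pow]
    rfl
  exists_of_eq := fun {x₁ x₂} h => by
    obtain ⟨⟨_, n, rfl⟩, hc⟩ := IsLocalizedModule.exists_of_eq
      (S := Submonoid.powers (algebraMap R R' b))
      (f := LocalizedModule.mkLinearMap (Submonoid.powers (algebraMap R R' b)) E) h
    refine ⟨⟨b ^ n, n, rfl⟩, ?_⟩
    show algebraMap R R' (b ^ n) • (x₁ : E) = algebraMap R R' (b ^ n) • (x₂ : E)
    rw [map_pow]
    exact hc

/-- Localisation commutes with restriction of scalars. -/
noncomputable def resLocIso (b : R) (E : ModuleCat.{u} R') :
    (res R R').obj ((locFun (algebraMap R R' b)).obj E) ≅ (locFun b).obj ((res R R').obj E) :=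
  haveI := isLocalizedModule_res b E
  (IsLocalizedModule.iso (M := (res R R').obj E)
    (M' := (res R R').obj ((locFun (algebraMap R R' b)).obj E)) (Submonoid.powers b)
    ((res R R').map ((toLoc (algebraMap R R' b)).app E)).hom).symm.toModuleIso

theorem resLocIso_toLoc (b : R) (E : ModuleCat.{u} R') (x : E) :
    (resLocIso b E).hom ((toLoc (algebraMap R R' b)).app E x) =
      (toLoc b).app ((res R R').obj E) (x : (res R R').obj E) := by
  haveI := isLocalizedModule_res b E
  refine (LinearEquiv.symm_apply_eq _).2 ?_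
  exact (IsLocalizedModule.iso_mk_one (S := Submonoid.powers b) (M := (res R R').obj E)
    (f := ((res R R').map ((toLoc (algebraMap R R' b)).app E)).hom) (x : (res R R').obj E)).symm

variable [IsNoetherianRing R] [IsNoetherianRing R']

/-- An injective `R'`-module is acyclic over `R`. -/
theorem acyclic_res (I : Ideal R) (E : ModuleCat.{u} R') [Injective E] :
    Acyclic I ((res R R').obj E) := by
  refine acyclic_induction (fun E : {E : ModuleCat.{u} R' // Injective E} => (res R R').obj E.1)
    (fun E b => ?_) (fun E a b y hy => ?_) I ⟨E, inferInstance⟩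
  · haveI := E.2
    exact ⟨⟨(locFun (algebraMap R R' b)).obj E.1,
      Functor.PreservesInjectiveObjects.injective_obj E.2⟩, ⟨resLocIso b E.1⟩⟩
  · haveI : Injective (ModuleCat.of R' E.1) := E.2
    haveI : Module.Injective R' E.1 := Module.injective_module_of_injective_object R' _
    obtain ⟨y, rfl⟩ := (ConcreteCategory.bijective_of_isIso (resLocIso b E.1).hom).2 y
    obtain ⟨k, hk⟩ := hy
    have hk' : ∀ c ∈ (a ^ k).map (algebraMap R R'),
        c • (y : (locFun (algebraMap R R' b)).obj E.1) = 0 := by
      refine (annihilated_map_iff _ ((locFun (algebraMap R R' b)).obj E.1) y).2 fun c hc => ?_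
      refine (ConcreteCategory.bijective_of_isIso (resLocIso b E.1).hom).1 ?_
      exact (LinearMap.map_smul (resLocIso b E.1).hom.hom c y).trans
        ((hk c hc).trans (map_zero (resLocIso b E.1).hom.hom).symm)
    obtain ⟨x, hx, hxy⟩ := exists_lift (A := R') (J := E.1) ((a ^ k).map (algebraMap R R'))
      (Submonoid.powers (algebraMap R R' b))
      (y : LocalizedModule (Submonoid.powers (algebraMap R R' b)) E.1) hk'
    refine ⟨(x : (res R R').obj E.1), ⟨k, fun c hc => hx _ (Ideal.mem_map_of_mem _ hc)⟩, ?_⟩
    rw [← resLocIso_toLoc]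
    exact congrArg _ hxy

omit [IsNoetherianRing R] [IsNoetherianRing R'] in
/-- `H^{i+1}(X₁)` as a cokernel. -/
theorem nonempty_cokerEquiv {A : Type u} [CommRing A] {J : Ideal A} (S : ShortComplex (ModuleCat.{u} A))
    (hS : S.ShortExact) (i : ℕ) (hJ : Subsingleton ((localCohomology J (i + 1)).obj S.X₂)) :
    Nonempty (((localCohomology J i).obj S.X₃ ⧸
      LinearMap.range ((localCohomology J i).map S.g).hom) ≃ₗ[A] (localCohomology J (i + 1)).obj S.X₁) :=
  ⟨Submodule.quotEquivOfEq _ (LinearMap.ker (δ hS J i)) (by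
      ext w
      exact ⟨fun ⟨v, hv⟩ => hv ▸ δ_map_eq_zero hS v, exact₃ hS w⟩) ≪≫ₗ
    LinearMap.quotKerEquivOfSurjective _ fun w => exact₁ hS w (hJ.elim _ _)⟩

/-- `H^i_{IR'}(M') = H^i_I(M')`. -/
theorem nonempty_resEquiv (I : Ideal R) : ∀ (i : ℕ) (E : ModuleCat.{u} R'),
    Nonempty (((res R R').obj ((localCohomology (I.map (algebraMap R R')) i).obj E)) ≃ₗ[R]
      (localCohomology I i).obj ((res R R').obj E)) := by
  let I' := I.map (algebraMap R R')
  let t₀ : ∀ E : ModuleCat.{u} R', ((res R R').obj ((localCohomology I' 0).obj E)) ≃ₗ[R]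
      DRing.torsionSub I ((res R R').obj E) := fun E =>
    LinearEquiv.ofBijective ((((res R R').map (ModuleCat.ofHom (h0 I' E))).hom).codRestrict _
        fun z => (mem_torsionSub_res I E _).2 ((h0_mem_range _).1 ⟨z, rfl⟩))
      ⟨fun z w h => h0_injective (I := I') (M := E) (congrArg Subtype.val h), fun m => by
        obtain ⟨z, hz⟩ := (h0_mem_range (I := I') (M := E) _).2 ((mem_torsionSub_res I E _).1 m.2)
        exact ⟨z, Subtype.ext hz⟩⟩
  let e₀ : ∀ E : ModuleCat.{u} R', ((res R R').obj ((localCohomology I' 0).obj E)) ≃ₗ[R]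
      (localCohomology I 0).obj ((res R R').obj E) := fun E =>
    t₀ E ≪≫ₗ (h0Equiv I ((res R R').obj E)).symm
  intro i
  induction i with
  | zero => exact fun E => ⟨e₀ E⟩
  | succ i ih =>
    intro E
    let S := injSeq E
    have hS : S.ShortExact := injSeq_shortExact E
    have hS' : (S.map (res R R')).ShortExact := hS.map_of_exact _
    haveI : Injective S.X₂ := inferInstanceAs (Injective (injSeq E).X₂)
    obtain ⟨f⟩ := nonempty_cokerEquiv (J := I') S hS i (subsingleton_of_injective (M := S.X₂) i)
    obtain ⟨g⟩ := nonempty_cokerEquiv (J := I) (S.map (res R R')) hS' i (acyclic_res I S.X₂ i)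
    obtain ⟨e, he⟩ : ∃ e : ((res R R').obj ((localCohomology I' i).obj S.X₃)) ≃ₗ[R]
        (localCohomology I i).obj ((res R R').obj S.X₃),
        Submodule.map e.toLinearMap
            (LinearMap.range ((res R R').map ((localCohomology I' i).map S.g)).hom) =
          LinearMap.range ((localCohomology I i).map ((res R R').map S.g)).hom := by
      cases i with
      | zero =>
        refine ⟨e₀ S.X₃, ?_⟩
        have hsq : ∀ z, e₀ S.X₃ ((res R R').map ((localCohomology I' 0).map S.g) z) =
            (localCohomology I 0).map ((res R R').map S.g) (e₀ S.X₂ z) := by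
          intro z
          refine h0_injective ?_
          rw [h0_map]
          have h1 : ∀ (Y : ModuleCat.{u} R') (w : (res R R').obj ((localCohomology I' 0).obj Y)),
              h0 I _ (e₀ Y w) = (h0 I' Y w : Y) := fun Y w =>
            congrArg Subtype.val ((h0Equiv I _).apply_symm_apply (t₀ Y w))
          rw [h1 S.X₃, h1 S.X₂]
          exact h0_map (I := I') S.g z
        rw [← LinearMap.range_comp]
        refine le_antisymm ?_ ?_
        · rintro _ ⟨z, rfl⟩
          exact ⟨e₀ S.X₂ z, (hsq z).symm⟩
        · rintro _ ⟨w, rfl⟩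
          exact ⟨(e₀ S.X₂).symm w, (hsq _).trans
            (congrArg _ ((e₀ S.X₂).apply_symm_apply w))⟩
      | succ k =>
        refine ⟨(ih S.X₃).some, ?_⟩
        have h1 := subsingleton_of_injective (I := I') (M := S.X₂) k
        have h2 := acyclic_res I S.X₂ k
        have e1 : LinearMap.range ((res R R').map ((localCohomology I' (k + 1)).map S.g)).hom = ⊥ := by
          rw [eq_bot_iff]
          rintro _ ⟨z, rfl⟩
          rw [h1.elim (z : (localCohomology I' (k + 1)).obj S.X₂) 0]
          exact (Submodule.mem_bot R).2 (map_zero ((localCohomology I' (k + 1)).map S.g).hom)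
        have e2 : LinearMap.range ((localCohomology I (k + 1)).map ((res R R').map S.g)).hom = ⊥ := by
          rw [eq_bot_iff]
          rintro _ ⟨z, rfl⟩
          rw [h2.elim z 0, map_zero]
          exact Submodule.zero_mem _
        rw [e1, e2, Submodule.map_bot]
    let q : ((res R R').obj ((localCohomology I' i).obj S.X₃) ⧸
        LinearMap.range ((res R R').map ((localCohomology I' i).map S.g)).hom) ≃ₗ[R] _ :=
      Submodule.Quotient.equiv _ _ e he ≪≫ₗ g
    let f' : ((res R R').obj ((localCohomology I' i).obj S.X₃) ⧸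
        LinearMap.range ((res R R').map ((localCohomology I' i).map S.g)).hom) ≃ₗ[R]
        (res R R').obj ((localCohomology I' (i + 1)).obj E) :=
      LinearEquiv.ofBijective
        (Submodule.liftQ _
          (((res R R').map (ModuleCat.ofHom (δ hS I' i))).hom)
          (by rintro _ ⟨z, rfl⟩; exact δ_map_eq_zero hS z))
        ⟨by
          rw [← LinearMap.ker_eq_bot, Submodule.ker_liftQ_eq_bot]
          intro z hz
          obtain ⟨v, hv⟩ := exact₃ hS z hz
          exact ⟨v, hv⟩, fun y => by
          obtain ⟨z, hz⟩ := exact₁ hS y ((subsingleton_of_injective (M := S.X₂) i).elim _ _)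
          exact ⟨Submodule.Quotient.mk z, hz⟩⟩
    exact ⟨f'.symm ≪≫ₗ q⟩

end Groth.Agent.LocCohLib
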