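import Groth.Agent.LocCohLib.FiniteAnn
import Groth.Prelude.Def_W4bk5brsh7111920
import Mathlib.RingTheory.Ideal.KrullsHeightTheorem
import Mathlib.RingTheory.Ideal.MinimalPrime.Colon
import Mathlib.LinearAlgebra.Charpoly.Basic

/-!
# The annihilator theorem, the inequality `f_a^b ≤ λ_a^b`
-/

set_option autoImplicit false
set_option linter.style.haveILetI false
set_option linter.unusedVariables false

universe u

open CategoryTheory CategoryTheory.Limits
open scoped TensorProduct Pointwise

namespace Groth.Agent.LocCohLib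

variable {R : Type u} [CommRing R] [IsNoetherianRing R]

/-- `s` kills `H^j_a(M)` near `q`. -/
def LKill (a q : Ideal R) (j : ℕ) (s : R) (M : ModuleCat.{u} R) : Prop :=
  ∀ z : (localCohomology a j).obj M, ∃ u ∉ q, u • s • z = 0

omit [IsNoetherianRing R] in
theorem LKill.mono {a q : Ideal R} {j : ℕ} {s : R} {M : ModuleCat.{u} R} (h : LKill a q j s M) (t : R) :
    LKill a q j (t * s) M := fun z => by
  obtain ⟨u, hu, h0⟩ := h z
  exact ⟨u, hu, by rw [mul_smul, smul_comm u t, h0, smul_zero]⟩

/-- Killing passes to the cokernel. -/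
theorem LKill.cokernel {a q : Ideal R} [q.IsPrime] {j : ℕ} {s t : R} {S : ShortComplex (ModuleCat.{u} R)}
    (hS : S.ShortExact) (h₂ : LKill a q j s S.X₂) (h₁ : LKill a q (j + 1) t S.X₁) :
    LKill a q j (s * t) S.X₃ := by
  intro z
  obtain ⟨u, hu, hu0⟩ := h₁ (δ hS a j z)
  obtain ⟨v, hv⟩ := exact₃ hS (u • t • z)
    (((map_smul (δ hS a j) u (t • z)).trans (congrArg (u • ·) (map_smul (δ hS a j) t z))).trans hu0)
  obtain ⟨w, hw, hw0⟩ := h₂ v
  refine ⟨w * u, Ideal.IsPrime.mul_notMem ‹_› hw hu, ?_⟩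
  rw [mul_smul, mul_smul s t, smul_comm u s, ← hv]
  exact ((congrArg (w • ·) (map_smul _ s v).symm).trans (map_smul _ w (s • v)).symm).trans
    ((congrArg _ hw0).trans (map_zero _))

/-- No chain of more than `h` steps from `p` to `q`. -/
def Bd : ℕ → Ideal R → Ideal R → Prop
  | 0, p, q => p = q
  | h + 1, p, q => ∀ P : Ideal R, P.IsPrime → p < P → P ≤ q → Bd h P q

theorem bd_of_height {p₀ q : Ideal R} [q.IsPrime] : ∀ (h k : ℕ) (P : Ideal R), P.IsPrime → p₀ ≤ P → P ≤ q →
    (k : ℕ∞) ≤ (P.map (Ideal.Quotient.mk p₀)).height →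
    (q.map (Ideal.Quotient.mk p₀)).height ≤ (k + h : ℕ) → Bd h P q := by
  have hker : ∀ P : Ideal R, p₀ ≤ P → RingHom.ker (Ideal.Quotient.mk p₀) ≤ P := fun P hP => by
    rwa [Ideal.mk_ker]
  have hlt : ∀ P P' : Ideal R, P.IsPrime → P'.IsPrime → p₀ ≤ P → P < P' →
      (P.map (Ideal.Quotient.mk p₀)).height + 1 ≤ (P'.map (Ideal.Quotient.mk p₀)).height := by
    intro P P' hP hP' hp hPP
    haveI := hP
    haveI := hP'
    haveI := Ideal.map_isPrime_of_surjective Ideal.Quotient.mk_surjective (hker P hp)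
    haveI := Ideal.map_isPrime_of_surjective Ideal.Quotient.mk_surjective (hker P' (hp.trans hPP.le))
    refine Ideal.height_add_one_le_of_lt_of_isPrime (lt_of_le_of_ne (Ideal.map_mono hPP.le) fun e => hPP.ne ?_)
    have := congrArg (Ideal.comap (Ideal.Quotient.mk p₀)) e
    rwa [Ideal.comap_map_of_surjective' _ Ideal.Quotient.mk_surjective,
      Ideal.comap_map_of_surjective' _ Ideal.Quotient.mk_surjective, sup_eq_left.2 (hker P hp),
      sup_eq_left.2 (hker P' (hp.trans hPP.le))] at this
  intro h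
  induction h with
  | zero =>
    intro k P hP hp hPq hk hq
    by_contra hne
    have h1 := (hlt P q hP inferInstance hp (lt_of_le_of_ne hPq hne)).trans hq
    have h2 : ((k + 1 : ℕ) : ℕ∞) ≤ (k : ℕ∞) := (by push_cast; exact (add_le_add hk le_rfl).trans h1)
    exact absurd (Nat.cast_le.1 h2) (by omega)
  | succ h ih =>
    intro k P hP hp hPq hk hq P' hP' hPP' hP'q
    refine ih (k + 1) P' hP' (hp.trans hPP'.le) hP'q ?_ (by rwa [show k + 1 + h = k + (h + 1) by omega])
    push_cast
    exact (add_le_add hk le_rfl).trans (hlt P P' hP hP' hp hPP')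

/-- A prime minimal over `p + (x)` is associated to `M/xM`. -/
theorem mem_associatedPrimes_quot {M : ModuleCat.{u} R} [Module.Finite R M] {p P : Ideal R} {x : R}
    (hreg : IsSMulRegular M x) (hp : p ∈ associatedPrimes R M)
    (hP : P ∈ (p ⊔ Ideal.span {x}).minimalPrimes) : P ∈ associatedPrimes R (mulSeq x M).X₃ := by
  classical
  haveI : P.IsPrime := hP.1.1
  obtain ⟨hprime, y, hy⟩ := isAssociatedPrime_iff.1 hp
  let N : Submodule R M := Submodule.torsionBySet R M (p : Set R)
  have hyN : y ∈ N := by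
    rw [Submodule.mem_torsionBySet_iff]
    rintro ⟨c, hc⟩
    rw [SetLike.mem_coe, hy, Submodule.mem_colon_singleton, Submodule.mem_bot] at hc
    exact hc
  let X : Submodule R M := x • (⊤ : Submodule R M)
  suffices hz : ∃ z ∈ N, ∀ u ∉ P, u • z ∉ X by
    obtain ⟨z, hzN, hz⟩ := hz
    rw [Submodule.mem_torsionBySet_iff] at hzN
    let C : Ideal R := (⊥ : Submodule R (M ⧸ X)).colon {Submodule.Quotient.mk z}
    have hmemC : ∀ r, r ∈ C ↔ r • z ∈ X := fun r => by
      rw [Submodule.mem_colon_singleton, Submodule.mem_bot, ← Submodule.Quotient.mk_smul,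
        Submodule.Quotient.mk_eq_zero]
    have hle : p ⊔ Ideal.span {x} ≤ C := sup_le
      (fun r hr => (hmemC r).2 (by rw [hzN ⟨r, hr⟩]; exact X.zero_mem))
      ((Ideal.span_singleton_le_iff_mem _).2 ((hmemC x).2 (Submodule.smul_mem_pointwise_smul z x ⊤ trivial)))
    have hCP : C ≤ P := fun r hr => by_contra fun hrP => hz r hrP ((hmemC r).1 hr)
    obtain ⟨w, hw⟩ := Submodule.exists_eq_colon_of_mem_minimalPrimes (N := (⊥ : Submodule R (M ⧸ X)))
      (x := Submodule.Quotient.mk z)
      (⟨⟨inferInstance, hCP⟩, fun Q hQ hQP => hP.2 ⟨hQ.1, hle.trans hQ.2⟩ hQP⟩ : P ∈ C.minimalPrimes)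
    have h : IsAssociatedPrime P (M ⧸ X) := isAssociatedPrime_iff.2 ⟨inferInstance, w, hw⟩
    exact h
  by_contra hne
  push Not at hne
  haveI : Module.Finite R N := Module.Finite.iff_fg.2 (IsNoetherian.noetherian _)
  obtain ⟨t, ht⟩ := (inferInstance : Module.Finite R N).fg_top
  choose u hu huX using fun z : N => hne z.1 z.2
  let U := ∏ z ∈ t, u z
  have hU : U ∉ P := fun h => by
    obtain ⟨z, -, hz⟩ := (Ideal.IsPrime.prod_mem_iff).1 h
    exact hu z hz
  have hrange : LinearMap.range (LinearMap.lsmul R N U) ≤ Ideal.span {x} • (⊤ : Submodule R N) := by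
    rintro _ ⟨z, rfl⟩
    have hz : z ∈ Submodule.span R (t : Set N) := by rw [ht]; trivial
    induction hz using Submodule.span_induction with
    | mem z hz =>
      obtain ⟨c, hc⟩ := Finset.dvd_prod_of_mem u hz
      obtain ⟨w, -, hw⟩ := (Submodule.mem_smul_pointwise_iff_exists _ _ _).1 (huX z)
      have hwN : w ∈ N := by
        rw [Submodule.mem_torsionBySet_iff]
        intro r
        refine hreg (Eq.trans ?_ (smul_zero x).symm)
        show x • (r : R) • w = 0
        rw [smul_comm, show x • w = u z • z.1 from hw, smul_comm,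
          (Submodule.mem_torsionBySet_iff _ _).1 z.2 r, smul_zero]
      have e : LinearMap.lsmul R N U z = x • c • (⟨w, hwN⟩ : N) := Subtype.ext (by
        show U • z.1 = x • c • w
        rw [show U = u z * c from hc, smul_comm x c, show x • w = u z • z.1 from hw, mul_comm, mul_smul])
      rw [e]
      exact Submodule.smul_mem_smul (Ideal.mem_span_singleton_self x) trivial
    | zero => rw [map_zero]; exact Submodule.zero_mem _
    | add z z' _ _ h h' => rw [map_add]; exact Submodule.add_mem _ h h'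
    | smul r z _ h => rw [map_smul]; exact Submodule.smul_mem _ r h
  obtain ⟨f, hf, -, hcoeff, hf0⟩ :=
    LinearMap.exists_monic_and_coeff_mem_pow_and_aeval_eq_zero_of_range_le_smul R (LinearMap.lsmul R N U)
      (Ideal.span {x}) hrange
  have hev : f.eval U ∈ p := by
    rw [hy, Submodule.mem_colon_singleton, Submodule.mem_bot]
    have h1 : LinearMap.lsmul R N U = algebraMap R (Module.End R N) U := rfl
    rw [h1, Polynomial.aeval_algebraMap_apply_eq_algebraMap_eval] at hf0
    exact congrArg Subtype.val (LinearMap.congr_fun hf0 (⟨y, hyN⟩ : N))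
  have hxP : Ideal.span {x} ≤ P := le_sup_right.trans hP.1.2
  have : U ^ f.natDegree ∈ P := by
    have h1 : f.eval U - U ^ f.natDegree ∈ P := by
      rw [Polynomial.eval_eq_sum_range, Finset.sum_range_succ, hf.coeff_natDegree, one_mul, add_sub_cancel_right]
      refine Ideal.sum_mem _ fun i hi => Ideal.mul_mem_right _ _ (hxP ?_)
      exact Ideal.pow_le_self (Nat.sub_ne_zero_of_lt (Finset.mem_range.1 hi)) (hcoeff i)
    have h2 := sub_mem (le_sup_left.trans hP.1.2 hev : f.eval U ∈ P) h1
    rwa [sub_sub_cancel] at h2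
  exact hU (Ideal.IsPrime.mem_of_pow_mem ‹_› _ this)

/-- Flat base change of local killing. -/
theorem smul_tens_eq_zero' {R' : Type u} [CommRing R'] [IsNoetherianRing R'] [Algebra R R'] [Module.Flat R R']
    {I : Ideal R} (i : ℕ) (M : ModuleCat.{u} R) {r : R}
    (h : ∀ z : (localCohomology I i).obj M, ∃ u : R, IsUnit (algebraMap R R' u) ∧ u • r • z = 0)
    (w : (localCohomology (I.map (algebraMap R R')) i).obj ((tens R').obj M)) :
    algebraMap R R' r • w = 0 := by
  obtain ⟨e⟩ := nonempty_tensEquiv (R' := R') I i M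
  obtain ⟨y, rfl⟩ := e.surjective w
  rw [← map_smul]
  refine (congrArg e ?_).trans (map_zero e)
  suffices h' : ∀ q : R' ⊗[R] (localCohomology I i).obj M, algebraMap R R' r • q = 0 from h' y
  intro q
  induction q using TensorProduct.induction_on with
  | zero => rw [smul_zero]
  | tmul b z =>
    obtain ⟨u, hu, hz⟩ := h z
    refine hu.smul_eq_zero.1 ?_
    rw [TensorProduct.smul_tmul', TensorProduct.smul_tmul', smul_eq_mul, smul_eq_mul, ← mul_assoc, ← map_mul,
      ← Algebra.smul_def, TensorProduct.smul_tmul, mul_smul, hz, TensorProduct.tmul_zero]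
  | add a b ha hb => rw [smul_add, ha, hb, add_zero]

variable (a : Ideal R)

/-- The case `p = q`. -/
theorem not_lkill_zero (p : Ideal R) (ha : a ≤ p) (M : ModuleCat.{u} R)
    (hp : p ∈ associatedPrimes R M) (s : R) (hs : s ∉ p) (h0 : LKill a p 0 s M) : False := by
  obtain ⟨hprime, y, hy⟩ := isAssociatedPrime_iff.1 hp
  have hmem : ∀ r, r ∈ p ↔ r • y = 0 := fun r => by rw [hy, Submodule.mem_colon_singleton, Submodule.mem_bot]
  obtain ⟨z, hz⟩ := (h0_mem_range (I := a) (M := M) y).2
    ⟨1, fun r hr => (hmem r).1 (ha (by rwa [pow_one] at hr))⟩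
  obtain ⟨u, hu, hz0⟩ := h0 z
  have : (u * s) • y = 0 := by
    rw [mul_smul, ← hz, ← map_smul, ← map_smul, hz0, map_zero]
  exact (hprime.mul_notMem hu hs) ((hmem _).2 this)

/-- The case where nothing lies between `p` and `q`. -/
theorem not_lkill_one (p q : Ideal R) [p.IsPrime] [q.IsPrime] (hq : q ∈ (a ⊔ p).minimalPrimes) (hlt : p < q)
    (hint : ∀ P : Ideal R, P.IsPrime → p < P → P ≤ q → P = q) (M : ModuleCat.{u} R) [Module.Finite R M]
    (hp : p ∈ associatedPrimes R M) (s : R) (hs : s ∉ p) (h1 : LKill a q 1 s M) : False := by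
  have ha : ¬ a ≤ p := fun h => hlt.not_ge (hq.2 ⟨inferInstance, sup_le h le_rfl⟩ hlt.le)
  obtain ⟨t, hta, htp⟩ := SetLike.not_le_iff_exists.1 ha
  let D := R ⧸ p
  obtain ⟨f, hf⟩ := ((isAssociatedPrime_iff_exists_injective_linearMap (R := R) (I := p) (M := M)).1 hp).2
  let X : ModuleCat.{u} R := (res R D).obj (ModuleCat.of D D)
  let ι : X ⟶ M := ModuleCat.ofHom (Y := M) f
  haveI : Mono ι := (ModuleCat.mono_iff_injective ι).2 hf
  let S : ShortComplex (ModuleCat.{u} R) := ShortComplex.mk ι (cokernel.π ι) (cokernel.condition ι)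
  have hS : S.ShortExact := { exact := ShortComplex.exact_cokernel ι }
  haveI : Module.Finite R S.X₃ := Module.Finite.of_surjective S.g.hom
    ((ModuleCat.epi_iff_surjective _).1 hS.epi_g)
  obtain ⟨j, hj⟩ := killed_of_finite (finite_H_zero a S.X₃)
  have key : ∀ w : (localCohomology a 1).obj X, ∃ u ∉ q, u • (t ^ j * s) • w = 0 := fun w => by
    obtain ⟨u, hu, hu0⟩ := h1 ((localCohomology a 1).map S.f w)
    obtain ⟨v, hv⟩ := exact₁ hS (u • s • w)
      (((map_smul _ u (s • w)).trans (congrArg (u • ·) (map_smul _ s w))).trans hu0)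
    refine ⟨u, hu, ?_⟩
    rw [mul_smul, smul_comm u, ← hv, ← map_smul, hj _ (Ideal.pow_mem_pow hta j) v, map_zero]
  let J := a.map (algebraMap R D)
  obtain ⟨e⟩ := nonempty_resEquiv (R' := D) a 1 (ModuleCat.of D D)
  let x : D := algebraMap R D (t ^ j * s)
  have hx0 : x ≠ 0 := fun h => by
    rcases (Ideal.IsPrime.mem_or_mem ‹p.IsPrime› (Ideal.Quotient.eq_zero_iff_mem.1 h)) with h | h
    · exact htp (Ideal.IsPrime.mem_of_pow_mem ‹_› _ h)
    · exact hs h
  let q' : Ideal D := q.map (Ideal.Quotient.mk p)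
  have hker : RingHom.ker (Ideal.Quotient.mk p) ≤ q := by rw [Ideal.mk_ker]; exact hlt.le
  haveI : q'.IsPrime := Ideal.map_isPrime_of_surjective Ideal.Quotient.mk_surjective hker
  have hq'c : q'.comap (Ideal.Quotient.mk p) = q := by
    rw [Ideal.comap_map_of_surjective' _ Ideal.Quotient.mk_surjective, sup_eq_left.2 hker]
  have hbetween : ∀ Q : Ideal D, Q.IsPrime → Q ≠ ⊥ → Q ≤ q' → Q = q' := fun Q hQ hQ0 hQq => by
    haveI := hQ
    have h1 : p < Q.comap (Ideal.Quotient.mk p) := by
      refine lt_of_le_of_ne (fun r hr => ?_) fun e' => hQ0 ?_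
      · rw [Ideal.mem_comap, Ideal.Quotient.eq_zero_iff_mem.2 hr]; exact Q.zero_mem
      · rw [← Ideal.map_comap_of_surjective _ Ideal.Quotient.mk_surjective Q, ← e', Ideal.map_quotient_self]
    rw [← Ideal.map_comap_of_surjective _ Ideal.Quotient.mk_surjective Q,
      hint _ inferInstance h1 ((Ideal.comap_mono hQq).trans hq'c.le)]
  have hq'0 : q' ≠ ⊥ := fun h => hlt.ne' (by
    rw [← hq'c, h, ← RingHom.ker_eq_comap_bot, Ideal.mk_ker])
  have hq'1 : q'.height = 1 := by
    refine le_antisymm ?_ (Order.one_le_iff_pos.2 (pos_iff_ne_zero.2 fun h =>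
      hq'0 (Ideal.height_eq_zero_iff_eq_bot.1 h)))
    obtain ⟨y, hy, hy0⟩ := (Submodule.ne_bot_iff _).1 hq'0
    refine Ideal.height_le_one_of_isPrincipal_of_mem_minimalPrimes (Ideal.span {y}) q'
      ⟨⟨inferInstance, (Ideal.span_singleton_le_iff_mem _).2 hy⟩, fun Q hQ hQq => ?_⟩
    refine (hbetween Q hQ.1 (fun h => hy0 ?_) hQq).ge
    have := hQ.2 (Ideal.mem_span_singleton_self y)
    rwa [h, Ideal.mem_bot] at this
  let A := Localization.AtPrime q'
  haveI : IsNoetherianRing A := IsLocalization.isNoetherianRing q'.primeCompl A inferInstance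
  haveI : Module.Flat D A := IsLocalization.flat A q'.primeCompl
  have hdimA : ringKrullDim A = ((1 : ℕ) : WithBot ℕ∞) := by
    rw [IsLocalization.AtPrime.ringKrullDim_eq_height q' A, hq'1]; rfl
  haveI : IsDomain A := IsLocalization.isDomain_localization q'.primeCompl_le_nonZeroDivisors
  have hmax : ∀ K : Ideal A, K ≠ ⊥ → K ≤ IsLocalRing.maximalIdeal A →
      K.radical = IsLocalRing.maximalIdeal A := fun K hK hKm => by
    refine le_antisymm ((IsLocalRing.maximalIdeal.isMaximal A).isPrime.radical_le_iff.2 hKm) ?_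
    rw [Ideal.radical_eq_sInf]
    refine le_sInf ?_
    rintro Q ⟨hKQ, hQ⟩
    haveI := hQ
    haveI := (Ring.krullDimLE_iff (R := A) (n := 1)).2 hdimA.le
    have hQ0 : Q ≠ ⊥ := fun h => hK (le_bot_iff.1 (hKQ.trans h.le))
    exact ((IsLocalRing.eq_maximalIdeal (hQ.isMaximal_of_ne_bot hQ0)) ▸ le_rfl)
  have hinj : Function.Injective (algebraMap D A) :=
    IsLocalization.injective A q'.primeCompl_le_nonZeroDivisors
  have hJq : J ≤ q' := Ideal.map_mono (le_sup_left.trans hq.1.2)
  have hJ0 : J.map (algebraMap D A) ≠ ⊥ := fun h => htp (by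
    have h1 : algebraMap D A (algebraMap R D t) = 0 := by
      rw [← Ideal.mem_bot, ← h]; exact Ideal.mem_map_of_mem _ (Ideal.mem_map_of_mem _ hta)
    exact Ideal.Quotient.eq_zero_iff_mem.1 ((injective_iff_map_eq_zero _).1 hinj _ h1))
  have hJm : J.map (algebraMap D A) ≤ IsLocalRing.maximalIdeal A := by
    rw [Ideal.map_le_iff_le_comap]
    exact hJq.trans (Localization.AtPrime.under_maximalIdeal (I := q')).ge
  have hrad := hmax _ hJ0 hJm
  let e' : (tens A).obj (ModuleCat.of D D) ≅ ModuleCat.of A A :=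
    (TensorProduct.AlgebraTensorModule.rid D A A).toModuleIso
  have keyD : ∀ w : (localCohomology J 1).obj (ModuleCat.of D D),
      ∃ u : D, IsUnit (algebraMap D A u) ∧ u • x • w = 0 := fun w => by
    obtain ⟨u, hu, hu0⟩ := key (e w)
    refine ⟨algebraMap R D u, IsLocalization.map_units A
      (⟨algebraMap R D u, fun h => hu (hq'c ▸ h)⟩ : q'.primeCompl), e.injective ?_⟩
    refine (map_smul e u _).trans ?_
    refine Eq.trans (congrArg (u • ·) (map_smul e (t ^ j * s) _)) ?_
    exact hu0.trans (map_zero e).symm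
  have keyA : ∀ w : (localCohomology (IsLocalRing.maximalIdeal A) 1).obj (ModuleCat.of A A),
      algebraMap D A x • w = 0 := fun w => by
    let i1 := (localCohomology.isoOfSameRadical
      (hrad.trans (IsLocalRing.maximalIdeal.isMaximal A).isPrime.radical.symm) 1).app (ModuleCat.of A A)
    obtain ⟨w, rfl⟩ := (ConcreteCategory.bijective_of_isIso i1.hom).2 w
    obtain ⟨w, rfl⟩ := (ConcreteCategory.bijective_of_isIso
      ((localCohomology (J.map (algebraMap D A)) 1).mapIso e').hom).2 w
    rw [← map_smul, ← map_smul, smul_tens_eq_zero' (I := J) (R' := A) 1 _ keyD w, map_zero, map_zero]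
  have hxA : algebraMap D A x ≠ 0 := fun h => hx0 ((injective_iff_map_eq_zero _).1 hinj x h)
  by_cases hu : IsUnit (algebraMap D A x)
  · exact not_nontrivial_iff_subsingleton.2 (subsingleton_of_forall_eq 0 fun w => hu.smul_eq_zero.1 (keyA w))
      (nontrivial_H_supportDim (ModuleCat.of A A) 1
        ((Module.supportDim_self_eq_ringKrullDim (R := A)).trans hdimA))
  have hm := hmax (Ideal.span {algebraMap D A x}) (mt Ideal.span_singleton_eq_bot.1 hxA)
    (IsLocalRing.le_maximalIdeal (mt Ideal.span_singleton_eq_top.1 hu))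
  obtain ⟨n, hn⟩ := Ideal.exists_pow_le_of_le_radical_of_fg hm.ge (IsNoetherian.noetherian _)
  obtain ⟨c, hc, z, hz⟩ := exists_smul_ne_zero 0 (ModuleCat.of A A)
    ((Module.supportDim_self_eq_ringKrullDim (R := A)).trans hdimA) n
  obtain ⟨r, rfl⟩ := Ideal.mem_span_singleton'.1 (hn hc)
  exact hz (by rw [mul_smul, keyA, smul_zero])

/-- At an associated prime. -/
theorem not_lkill_of_mem_associatedPrimes : ∀ (h : ℕ) (p q : Ideal R) (M : ModuleCat.{u} R)
    [Module.Finite R M] (s : R), q ∈ (a ⊔ p).minimalPrimes → Bd h p q → p ∈ associatedPrimes R M → s ∉ p →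
    (∀ j, j ≤ h → LKill a q j s M) → False := by
  classical
  intro h
  induction h with
  | zero =>
    intro p q M _ s hq hb hp hs hk
    obtain rfl : p = q := hb
    exact not_lkill_zero a p (le_sup_left.trans hq.1.2) M hp s hs (hk 0 le_rfl)
  | succ h ih =>
    intro p q M _ s hq hb hp hs hk
    haveI : p.IsPrime := hp.isPrime
    haveI : q.IsPrime := hq.1.1
    rcases (le_sup_right.trans hq.1.2 : p ≤ q).eq_or_lt with rfl | hlt
    · exact not_lkill_zero a p (le_sup_left.trans hq.1.2) M hp s hs (hk 0 (Nat.zero_le _))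
    by_cases hint : ∀ P : Ideal R, P.IsPrime → p < P → P ≤ q → P = q
    · exact not_lkill_one a p q hq hlt hint M hp s hs (hk 1 (by omega))
    push Not at hint
    obtain ⟨P₀, hP₀, hpP₀, hP₀q, hP₀ne⟩ := hint
    haveI := hP₀
    let M' := (torSeq q M).X₃
    haveI : Module.Finite R (M ⧸ DRing.torsionSub q M) := Module.Finite.quotient R _
    haveI : Module.Finite R M' := Module.Finite.quotient R (DRing.torsionSub q M)
    have hp' : p ∈ associatedPrimes R M' := by
      obtain ⟨hprime, y, hy⟩ := isAssociatedPrime_iff.1 hp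
      have hmem : ∀ r, r ∈ p ↔ r • y = 0 := fun r => by
        rw [hy, Submodule.mem_colon_singleton, Submodule.mem_bot]
      refine isAssociatedPrime_iff.2 ⟨hprime, (torSeq q M).g y, Submodule.ext fun r => ?_⟩
      rw [Submodule.mem_colon_singleton, Submodule.mem_bot]
      refine ⟨fun hr => ((map_smul (torSeq q M).g.hom r y).symm.trans
        ((congrArg _ ((hmem r).1 hr)).trans (map_zero _))), fun hr => ?_⟩
      obtain ⟨n, hn⟩ : r • y ∈ DRing.torsionSub q M :=
        (Submodule.Quotient.mk_eq_zero _).1 ((map_smul (torSeq q M).g.hom r y).trans hr)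
      obtain ⟨c, hcq, hcp⟩ := SetLike.not_le_iff_exists.1 hlt.not_ge
      have h2 : (c ^ n * r) • y = 0 := by rw [mul_smul]; exact hn _ (Ideal.pow_mem_pow hcq n)
      exact (Ideal.IsPrime.mem_or_mem ‹p.IsPrime› ((hmem _).2 h2)).resolve_left
        fun h => hcp (Ideal.IsPrime.mem_of_pow_mem ‹_› _ h)
    have hkM' : ∀ j, j ≤ h + 1 → LKill a q j s M' := fun j hj z => by
      have hT : LocCoh.IsPowerTorsion a (torSeq q M).X₁ := fun m => by
        obtain ⟨n, hn⟩ := isPowerTorsion_torsionSub q M m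
        exact ⟨n, fun r hr => hn r (Ideal.pow_right_mono (le_sup_left.trans hq.1.2) n hr)⟩
      obtain ⟨v, rfl⟩ := exact₃ (torSeq_shortExact q M) z
        ((subsingleton_of_isPowerTorsion j (torSeq q M).X₁ hT).elim _ _)
      obtain ⟨u, hu, hu0⟩ := hk j hj v
      exact ⟨u, hu, ((congrArg (u • ·) (map_smul _ s v).symm).trans (map_smul _ u (s • v)).symm).trans
        ((congrArg _ hu0).trans (map_zero _))⟩
    have hfin := (associatedPrimes.finite R M').toFinset
    let T : Finset (Ideal R) := (associatedPrimes.finite R M').toFinset ∪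
      ((p ⊔ Ideal.span {s}).finite_minimalPrimes_of_isNoetherianRing).toFinset.filter fun P => ¬ q ≤ P
    obtain ⟨x, hxq, hxT⟩ : ∃ x ∈ q, ∀ P ∈ T, x ∉ P := by
      by_contra hc
      push Not at hc
      obtain ⟨P, hP, hqP⟩ := (Ideal.subset_union_prime (s := T) (f := id) (R := R) (I := q) ⊥ ⊥
        fun P hP _ _ => by
          rcases Finset.mem_union.1 hP with hP | hP
          · exact ((associatedPrimes.finite R M').mem_toFinset.1 hP).isPrime
          · exact ((Set.Finite.mem_toFinset _).1 (Finset.mem_filter.1 hP).1).1.1).1 (fun x hx => by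
          obtain ⟨P, hP, hxP⟩ := hc x hx
          exact Set.mem_iUnion₂.2 ⟨P, hP, hxP⟩)
      rcases Finset.mem_union.1 hP with hP | hP
      · obtain ⟨x, hx, hxreg⟩ := exists_regular_of_torsionSub_eq_bot q (torsionSub_quotient_eq_bot q M)
        have : x ∈ ⋃ Q ∈ associatedPrimes R M', (Q : Set R) :=
          Set.mem_iUnion₂.2 ⟨P, (associatedPrimes.finite R M').mem_toFinset.1 hP, hqP hx⟩
        rw [biUnion_associatedPrimes_eq_compl_regular] at this
        exact this hxreg
      · exact (Finset.mem_filter.1 hP).2 hqP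
    have hreg : IsSMulRegular M' x := by
      by_contra hnr
      have : x ∈ ⋃ Q ∈ associatedPrimes R M', (Q : Set R) := by
        rw [biUnion_associatedPrimes_eq_compl_regular]; exact hnr
      obtain ⟨Q, hQ, hxQ⟩ := Set.mem_iUnion₂.1 this
      exact hxT Q (Finset.mem_union_left _ ((associatedPrimes.finite R M').mem_toFinset.2 hQ)) hxQ
    have hxp : x ∉ p := fun hxp' =>
      hxT p (Finset.mem_union_left _ ((associatedPrimes.finite R M').mem_toFinset.2 hp')) hxp'
    obtain ⟨P, hP, hPq⟩ := Ideal.exists_minimalPrimes_le (I := p ⊔ Ideal.span {x}) (J := q)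
      (sup_le hlt.le ((Ideal.span_singleton_le_iff_mem _).2 hxq))
    haveI := hP.1.1
    have hxP : x ∈ P := hP.1.2 (Ideal.mem_sup_right (Ideal.mem_span_singleton_self x))
    have hpP : p < P := lt_of_le_of_ne (le_sup_left.trans hP.1.2) fun e => hxp (e ▸ hxP)
    have hone : ∀ (y : R) (Q : Ideal R), Q ∈ (p ⊔ Ideal.span {y}).minimalPrimes →
        ∀ P' : Ideal R, P'.IsPrime → p < P' → P' ≤ Q → P' = Q := by
      intro y Q hQ P' hP' hpP' hP'Q
      by_contra hne
      haveI := hQ.1.1
      have hkerQ : RingHom.ker (Ideal.Quotient.mk p) ≤ Q := by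
        rw [Ideal.mk_ker]; exact le_sup_left.trans hQ.1.2
      haveI := hP'
      haveI : (Q.map (Ideal.Quotient.mk p)).IsPrime :=
        Ideal.map_isPrime_of_surjective Ideal.Quotient.mk_surjective hkerQ
      have hmin : Q.map (Ideal.Quotient.mk p) ∈ (Ideal.span {Ideal.Quotient.mk p y}).minimalPrimes := by
        refine ⟨⟨inferInstance, (Ideal.span_singleton_le_iff_mem _).2 (Ideal.mem_map_of_mem _
          (hQ.1.2 (Ideal.mem_sup_right (Ideal.mem_span_singleton_self y))))⟩, fun W hW hWQ => ?_⟩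
        rw [← Ideal.map_comap_of_surjective _ Ideal.Quotient.mk_surjective W]
        refine Ideal.map_mono (hQ.2 ⟨haveI := hW.1; Ideal.IsPrime.comap _, sup_le (fun r hr => ?_)
          ((Ideal.span_singleton_le_iff_mem _).2 (hW.2 (Ideal.mem_span_singleton_self _)))⟩ ?_)
        · rw [Ideal.mem_comap, Ideal.Quotient.eq_zero_iff_mem.2 hr]; exact W.zero_mem
        · refine (Ideal.comap_mono hWQ).trans ?_
          rw [Ideal.comap_map_of_surjective' _ Ideal.Quotient.mk_surjective, sup_eq_left.2 hkerQ]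
      have h1 := Ideal.height_le_one_of_isPrincipal_of_mem_minimalPrimes _ _ hmin
      have hb1 : Bd 1 p Q := bd_of_height 1 0 p inferInstance le_rfl (hpP'.le.trans hP'Q) (by simp)
        (h1.trans_eq (by simp))
      exact hne (hb1 P' hP' hpP' hP'Q)
    have hsP : s ∉ P := fun hsP => by
      obtain ⟨P', hP', hP'P⟩ := Ideal.exists_minimalPrimes_le (I := p ⊔ Ideal.span {s}) (J := P)
        (sup_le hpP.le ((Ideal.span_singleton_le_iff_mem _).2 hsP))
      haveI := hP'.1.1
      have hpP' : p < P' := lt_of_le_of_ne (le_sup_left.trans hP'.1.2) fun e =>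
        hs (e ▸ hP'.1.2 (Ideal.mem_sup_right (Ideal.mem_span_singleton_self s)))
      have hPP := hone x P hP P' inferInstance hpP' hP'P
      subst hPP
      by_cases hqP' : q ≤ P'
      · exact hP₀ne (hone x P' hP P₀ inferInstance hpP₀ (hP₀q.trans hqP') |>.trans (le_antisymm hPq hqP'))
      · exact hxT P' (Finset.mem_union_right _
          (Finset.mem_filter.2 ⟨(Set.Finite.mem_toFinset _).2 hP', hqP'⟩)) hxP
    haveI : Module.Finite R (mulSeq x M').X₃ := Module.Finite.quotient R _
    refine ih P q (mulSeq x M').X₃ (s * s) ⟨⟨inferInstance, sup_le (le_sup_left.trans hq.1.2) hPq⟩,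
      fun Q hQ hQq => hq.2 ⟨hQ.1, sup_le (le_sup_left.trans hQ.2) (hpP.le.trans (le_sup_right.trans hQ.2))⟩
        hQq⟩ (hb P inferInstance hpP hPq) (mem_associatedPrimes_quot hreg hp' hP)
      (Ideal.IsPrime.mul_notMem inferInstance hsP hsP) fun j hj => ?_
    exact LKill.cokernel (mulSeq_shortExact hreg) (hkM' j (by omega)) (hkM' (j + 1) (by omega))

/-- The general case, by the depth at `p`. -/
theorem not_lkill : ∀ (d h : ℕ) (p q : Ideal R) [p.IsPrime] (M : ModuleCat.{u} R) [Module.Finite R M] (s : R),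
    q ∈ (a ⊔ p).minimalPrimes → Bd h p q → s ∉ p →
    (∃ i, i ≤ d ∧ ∃ z : (localCohomology p i).obj M, ∀ u ∉ p, u • z ≠ 0) →
    (∀ j, j ≤ d + h → LKill a q j s M) → False := by
  intro d
  induction d with
  | zero =>
    intro h p q _ M _ s hq hb hs ⟨i, hi, z, hz⟩ hk
    obtain rfl : i = 0 := by omega
    obtain ⟨n, hn⟩ := (h0_mem_range (h0 p M z)).1 ⟨z, rfl⟩
    let C : Ideal R := (⊥ : Submodule R M).colon {h0 p M z}
    have hC : ∀ r, r ∈ C ↔ r • h0 p M z = 0 := fun r => by
      rw [Submodule.mem_colon_singleton, Submodule.mem_bot]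
    have hCp : C ≤ p := fun r hr => by_contra fun hrp =>
      hz r hrp (h0_injective ((map_smul (h0 p M) r z).trans (((hC r).1 hr).trans (map_zero _).symm)))
    obtain ⟨w, hw⟩ := Submodule.exists_eq_colon_of_mem_minimalPrimes (N := (⊥ : Submodule R M))
      (x := h0 p M z) (⟨⟨inferInstance, hCp⟩, fun Q hQ hQp r hr =>
        hQ.1.mem_of_pow_mem n (hQ.2 ((hC _).2 (hn _ (Ideal.pow_mem_pow hr n))))⟩ : p ∈ C.minimalPrimes)
    exact not_lkill_of_mem_associatedPrimes a h p q M s hq hb
      (isAssociatedPrime_iff.2 ⟨inferInstance, w, hw⟩) hs (fun j hj => hk j (by omega))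
  | succ d ih =>
    intro h p q _ M _ s hq hb hs ⟨i, hi, z, hz⟩ hk
    by_cases h0' : ∃ z : (localCohomology p 0).obj M, ∀ u ∉ p, u • z ≠ 0
    · exact ih h p q M s hq hb hs ⟨0, Nat.zero_le _, h0'⟩ fun j hj => hk j (by omega)
    push Not at h0'
    obtain ⟨i, rfl⟩ : ∃ i', i = i' + 1 := ⟨i - 1, by
      rcases Nat.eq_zero_or_pos i with rfl | hp0
      · obtain ⟨u, hu, h⟩ := h0' z
        exact absurd h (hz u hu)
      · omega⟩
    haveI : q.IsPrime := hq.1.1
    haveI : Module.Finite R ((localCohomology p 0).obj M) := finite_H_zero p M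
    obtain ⟨t, ht⟩ := (inferInstance : Module.Finite R ((localCohomology p 0).obj M)).fg_top
    choose u hu huz using h0'
    classical
    let c := ∏ w ∈ t, u w
    have hc : c ∉ p := fun h => by
      obtain ⟨w, -, hw⟩ := (Ideal.IsPrime.prod_mem_iff).1 h
      exact hu w hw
    have hcT : ∀ m : (torSeq p M).X₁, c • m = 0 := fun m => by
      obtain ⟨w, rfl⟩ := (h0Equiv p M).surjective m
      refine ((map_smul (h0Equiv p M) c w).symm.trans ((congrArg (h0Equiv p M) ?_).trans (map_zero (h0Equiv p M))))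
      have : w ∈ Submodule.span R (t : Set ((localCohomology p 0).obj M)) := by rw [ht]; trivial
      induction this using Submodule.span_induction with
      | mem w hw =>
        obtain ⟨e, he⟩ := Finset.dvd_prod_of_mem u hw
        rw [show c = u w * e from he, mul_comm, mul_smul, huz, smul_zero]
      | zero => exact smul_zero _
      | add w w' _ _ h h' => rw [smul_add, h, h', add_zero]
      | smul r w _ h => rw [smul_comm, h, smul_zero]
    let M' := (torSeq p M).X₃
    haveI : Module.Finite R (M ⧸ DRing.torsionSub p M) := Module.Finite.quotient R _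
    haveI : Module.Finite R M' := Module.Finite.quotient R (DRing.torsionSub p M)
    have hkM' : ∀ j, j ≤ d + 1 + h → LKill a q j (s * c) M' := fun j hj =>
      LKill.cokernel (torSeq_shortExact p M) (hk j hj) fun w =>
        ⟨1, fun h => Ideal.IsPrime.ne_top (I := q) inferInstance ((Ideal.eq_top_iff_one q).2 h),
          by rw [smul_eq_zero_of_smul_eq_zero hcT, smul_zero]⟩
    obtain ⟨x, hx, hreg⟩ := exists_regular_of_torsionSub_eq_bot p (torsionSub_quotient_eq_bot p M)
    haveI : Module.Finite R (mulSeq x M').X₃ := Module.Finite.quotient R _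
    refine ih h p q (mulSeq x M').X₃ ((s * c) * (s * c)) hq hb
      (Ideal.IsPrime.mul_notMem ‹_› (Ideal.IsPrime.mul_notMem ‹_› hs hc) (Ideal.IsPrime.mul_notMem ‹_› hs hc))
      ?_ fun j hj => LKill.cokernel (mulSeq_shortExact hreg) (hkM' j (by omega)) (hkM' (j + 1) (by omega))
    by_contra hne
    push Not at hne
    have hS := mulSeq_shortExact (M := M') hreg
    let z' := (localCohomology p (i + 1)).map (torSeq p M).g z
    have hann : ∀ (n : ℕ) (y : (localCohomology p (i + 1)).obj M'),
        x ^ n • y = 0 → ∃ u ∉ p, u • y = 0 := by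
      intro n
      induction n with
      | zero => exact fun y hy => ⟨1, fun h => Ideal.IsPrime.ne_top (I := p) inferInstance
          ((Ideal.eq_top_iff_one p).2 h), by rwa [pow_zero] at hy⟩
      | succ n ihn =>
        intro y hy
        rw [pow_succ', mul_smul] at hy
        obtain ⟨v, hv⟩ := exact₁ hS (x ^ n • y) ((ker_lsmul_map x _).trans hy)
        obtain ⟨u, hu, hu0⟩ := hne i (by omega) v
        obtain ⟨u', hu', hu'0⟩ := ihn (u • y) ((smul_comm (x ^ n) u y).trans ((congrArg (u • ·) hv.symm).trans ((map_smul (δ hS p i) u v).symm.trans ((congrArg (δ hS p i) hu0).trans (map_zero (δ hS p i))))))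
        exact ⟨u' * u, Ideal.IsPrime.mul_notMem ‹_› hu' hu, by rw [mul_smul]; exact hu'0⟩
    obtain ⟨n, hn⟩ := isPowerTorsion_H (I := p) (i + 1) M' z'
    obtain ⟨u, hu, hu0⟩ := hann n z' (hn _ (Ideal.pow_mem_pow hx n))
    exact hz u hu ((bijective_map_torSeq_g p i M).1 (((map_smul _ u z).trans hu0).trans (map_zero _).symm))

/-- `f_a^b(M) ≤ λ_a^b(M)`. -/
theorem finDimRel_le_minAdjDepth (a b : Ideal R) (M : ModuleCat.{u} R) [Module.Finite R M] :
    LocCoh.finDimRel a b M ≤ LocCoh.minAdjDepth a b M := by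
  refine le_iInf₂ fun p hb => ?_
  unfold LocCoh.adjDepth
  by_cases hd : LocCoh.depth (Localization.AtPrime p.asIdeal) (LocalizedModule p.asIdeal.primeCompl M) = ⊤
  · rw [hd, top_add]; exact le_top
  by_cases hn : ((a ⊔ p.asIdeal).map (Ideal.Quotient.mk p.asIdeal)).height = ⊤
  · rw [hn, add_top]; exact le_top
  obtain ⟨d, hd⟩ := ENat.ne_top_iff_exists.1 hd
  obtain ⟨n, hn⟩ := ENat.ne_top_iff_exists.1 hn
  rw [← hd, ← hn, ← Nat.cast_add]
  suffices h : ∃ i, i ≤ d + n ∧ ¬ b ≤ (Module.annihilator R ((localCohomology a i).obj M)).radical by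
    obtain ⟨i, hi, hi'⟩ := h
    exact (iInf₂_le i hi').trans (Nat.cast_le.2 hi)
  by_contra hne
  push Not at hne
  obtain ⟨s, hs, hsp⟩ := SetLike.not_le_iff_exists.1 hb
  choose k hk using fun i : Finset.range (d + n + 1) => hne i.1 (Nat.lt_succ_iff.1 (Finset.mem_range.1 i.2)) hs
  let K := ∑ i, k i
  obtain ⟨Q, hQ, hQle, hQh⟩ := Ideal.exists_isPrime_height_eq hn.symm
  haveI := hQ
  let q₁ := Q.comap (Ideal.Quotient.mk p.asIdeal)
  obtain ⟨q, hq, hqq⟩ := Ideal.exists_minimalPrimes_le (I := a ⊔ p.asIdeal) (J := q₁)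
    (Ideal.map_le_iff_le_comap.1 hQle)
  haveI : q.IsPrime := hq.1.1
  have hbd : Bd n p.asIdeal q := by
    refine bd_of_height n 0 p.asIdeal inferInstance le_rfl (le_sup_right.trans hq.1.2) (by simp) ?_
    refine (Ideal.height_mono ((Ideal.map_mono hqq).trans Ideal.map_comap_le)).trans ?_
    rw [hQh]; simp
  let A := Localization.AtPrime p.asIdeal
  haveI : IsNoetherianRing A := IsLocalization.isNoetherianRing p.asIdeal.primeCompl A inferInstance
  haveI : Module.Flat R A := IsLocalization.flat A p.asIdeal.primeCompl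
  refine not_lkill a d n p.asIdeal q M (s ^ K) hq hbd
    (fun h => hsp (Ideal.IsPrime.mem_of_pow_mem inferInstance _ h)) ?_ fun j hj z =>
      ⟨1, fun h => Ideal.IsPrime.ne_top (I := q) inferInstance ((Ideal.eq_top_iff_one q).2 h), ?_⟩
  · by_contra hc
    push Not at hc
    haveI : Module.Finite A (LocalizedModule p.asIdeal.primeCompl M) :=
      Module.Finite.of_isLocalizedModule p.asIdeal.primeCompl
        (LocalizedModule.mkLinearMap p.asIdeal.primeCompl M)
    let e : (tens A).obj M ≅ ModuleCat.of A (LocalizedModule p.asIdeal.primeCompl M) :=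
      (LocalizedModule.equivTensorProduct p.asIdeal.primeCompl M).symm.toModuleIso
    have h2 : ((d + 1 : ℕ) : ℕ∞) ≤
        LocCoh.idealDepth (IsLocalRing.maximalIdeal A) (LocalizedModule p.asIdeal.primeCompl M) := by
      refine (natCast_le_idealDepth_iff_vanishing _ _ (d + 1)).2 fun i hi => ?_
      haveI : Subsingleton ((localCohomology (p.asIdeal.map (algebraMap R A)) i).obj ((tens A).obj M)) := by
        refine subsingleton_of_forall_eq 0 fun w => ?_
        have h1 := smul_tens_eq_zero' (I := p.asIdeal) (R' := A) i M (r := 1) (fun z => ?_) w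
        · rwa [map_one, one_smul] at h1
        · obtain ⟨u, hu, hu0⟩ := hc i (by omega) z
          exact ⟨u, IsLocalization.map_units A (⟨u, hu⟩ : p.asIdeal.primeCompl), by rw [one_smul, hu0]⟩
      have h2 := localCohomology_map_iso_subsingleton (I := p.asIdeal.map (algebraMap R A)) (i := i) e
      rwa [show p.asIdeal.map (algebraMap R A) = IsLocalRing.maximalIdeal A from
        Localization.AtPrime.map_eq_maximalIdeal] at h2
    rw [show LocCoh.idealDepth (IsLocalRing.maximalIdeal A) (LocalizedModule p.asIdeal.primeCompl M) =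
      (d : ℕ∞) from hd.symm] at h2
    exact absurd (Nat.cast_le.1 h2) (by omega)
  · rw [one_smul]
    have hmem : j ∈ Finset.range (d + n + 1) := Finset.mem_range.2 (Nat.lt_succ_of_le hj)
    obtain ⟨e, he⟩ := Nat.exists_eq_add_of_le
      (Finset.single_le_sum (fun j _ => Nat.zero_le (k j)) (Finset.mem_univ ⟨j, hmem⟩))
    rw [show K = k ⟨j, hmem⟩ + e from he, pow_add, mul_comm, mul_smul,
      Module.mem_annihilator.1 (hk ⟨j, hmem⟩) z, smul_zero]

end Groth.Agent.LocCohLib
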