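import Groth.Agent.LocCohLib.Colimits
import Groth.Agent.LocCohLib.LocMap
import Mathlib.LinearAlgebra.DirectSum.Finsupp

/-!
# Local cohomology of free modules; right exact top degree
-/

set_option autoImplicit false
set_option linter.style.haveILetI false

universe u

open CategoryTheory CategoryTheory.Limits TensorProduct

namespace Groth.Agent.LocCohLib

variable {R : Type u} [CommRing R]

theorem map_add' {I : Ideal R} {i : ℕ} {M N : ModuleCat.{u} R} (f g : M ⟶ N)
    (z : (localCohomology I i).obj M) :
    (localCohomology I i).map (f + g) z = (localCohomology I i).map f z + (localCohomology I i).map g z := by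
  obtain ⟨n, x, rfl⟩ := exists_cl z
  rw [map_cl, map_cl, map_cl, CategoryTheory.Abelian.Ext.mk₀_add,
    CategoryTheory.Abelian.Ext.comp_add, map_add]

theorem map_smul' {I : Ideal R} {i : ℕ} {M N : ModuleCat.{u} R} (r : R) (f : M ⟶ N)
    (z : (localCohomology I i).obj M) :
    (localCohomology I i).map (r • f) z = r • (localCohomology I i).map f z := by
  obtain ⟨n, x, rfl⟩ := exists_cl z
  rw [map_cl, map_cl, CategoryTheory.Abelian.Ext.mk₀_smul, CategoryTheory.Abelian.Ext.comp_smul,
    map_smul]

theorem map_zero' {I : Ideal R} {i : ℕ} {M N : ModuleCat.{u} R}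
    (z : (localCohomology I i).obj M) : (localCohomology I i).map (0 : M ⟶ N) z = 0 := by
  obtain ⟨n, x, rfl⟩ := exists_cl z
  rw [map_cl, CategoryTheory.Abelian.Ext.mk₀_zero, CategoryTheory.Abelian.Ext.comp_zero, map_zero]

theorem map_sum' {I : Ideal R} {i : ℕ} {M N : ModuleCat.{u} R} {ι : Type*} (s : Finset ι)
    (f : ι → (M ⟶ N)) (z : (localCohomology I i).obj M) :
    (localCohomology I i).map (∑ j ∈ s, f j) z = ∑ j ∈ s, (localCohomology I i).map (f j) z := by
  classical
  induction s using Finset.induction_on with
  | empty => simpa using map_zero' z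
  | insert a s ha ih => rw [Finset.sum_insert ha, Finset.sum_insert ha, map_add', ih]

variable (I : Ideal R) (i : ℕ)

/-- `x ↦ map (r ↦ r • x) z`. -/
noncomputable def tensorMap (M : ModuleCat.{u} R) :
    ((localCohomology I i).obj (ModuleCat.of R R) : Type u) ⊗[R] M →ₗ[R] (localCohomology I i).obj M :=
  TensorProduct.lift
    { toFun := fun z =>
        { toFun := fun m => (localCohomology I i).map (ModuleCat.ofHom (LinearMap.toSpanSingleton R M m)) z
          map_add' := fun m m' => by
            rw [← map_add']
            refine congrArg (fun f => (localCohomology I i).map f z) (ModuleCat.hom_ext (LinearMap.ext fun r => ?_))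
            exact smul_add r m m'
          map_smul' := fun a m => by
            rw [RingHom.id_apply, ← map_smul']
            refine congrArg (fun f => (localCohomology I i).map f z) (ModuleCat.hom_ext (LinearMap.ext fun r => ?_))
            exact smul_comm r a m }
      map_add' := fun z z' => LinearMap.ext fun m => map_add ((localCohomology I i).map _).hom z z'
      map_smul' := fun a z => LinearMap.ext fun m => map_smul ((localCohomology I i).map _).hom a z }

theorem tensorMap_tmul (M : ModuleCat.{u} R) (z : (localCohomology I i).obj (ModuleCat.of R R)) (m : M) :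
    tensorMap I i M (z ⊗ₜ m) =
      (localCohomology I i).map (ModuleCat.ofHom (LinearMap.toSpanSingleton R M m)) z := rfl

theorem tensorMap_natural {M N : ModuleCat.{u} R} (f : M ⟶ N)
    (x : ((localCohomology I i).obj (ModuleCat.of R R) : Type u) ⊗[R] M) :
    tensorMap I i N (f.hom.lTensor _ x) = (localCohomology I i).map f (tensorMap I i M x) := by
  induction x using TensorProduct.induction_on with
  | zero => simp
  | tmul z m =>
    rw [LinearMap.lTensor_tmul, tensorMap_tmul, tensorMap_tmul, ← ConcreteCategory.comp_apply,
      ← Functor.map_comp]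
    refine congrArg (fun g => (localCohomology I i).map g z) (ModuleCat.hom_ext (LinearMap.ext fun r => ?_))
    exact (map_smul f.hom r m).symm
  | add x y hx hy => simp only [map_add, hx, hy]

variable (ι : Type u)

/-- The diagram of finite partial sums. -/
noncomputable def finDiag : Finset ι ⥤ ModuleCat.{u} R where
  obj s := ModuleCat.of R (Finsupp.supported R R (s : Set ι))
  map {s t} f := ModuleCat.ofHom (Submodule.inclusion (Finsupp.supported_mono (Finset.coe_subset.2 (leOfHom f))))

/-- The free module as its colimit. -/
noncomputable def finCocone : Cocone (finDiag (R := R) ι) where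
  pt := ModuleCat.of R (ι →₀ R)
  ι := { app := fun s => ModuleCat.ofHom (X := Finsupp.supported R R (s : Set ι)) (Finsupp.supported R R (s : Set ι)).subtype }

theorem isEltColimit_fin : IsEltColimit (finCocone (R := R) ι) where
  exists_rep := fun x => ⟨x.support, ⟨x, (Finsupp.mem_supported R x).2 subset_rfl⟩, rfl⟩
  eq_zero := fun l y hy => ⟨l, le_rfl, Subtype.ext hy⟩

variable [IsNoetherianRing R]

theorem exists_eq_sum (z : (localCohomology I i).obj (ModuleCat.of R (ι →₀ R))) :
    ∃ s : Finset ι, z = ∑ j ∈ s, (localCohomology I i).map (ModuleCat.ofHom (Finsupp.lsingle j))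
      ((localCohomology I i).map (ModuleCat.ofHom (Finsupp.lapply j)) z) := by
  classical
  haveI := preservesColimitsOfShape_H (Λ := Finset ι) I i
  obtain ⟨s, w, hw⟩ := (IsEltColimit.of_isColimit (isColimitOfPreserves (localCohomology I i)
    (isEltColimit_fin (R := R) ι).isColimit.some)).exists_rep z
  refine ⟨s, ?_⟩
  let incl : ModuleCat.of R (Finsupp.supported R R (s : Set ι)) ⟶ ModuleCat.of R (ι →₀ R) :=
    ModuleCat.ofHom (X := Finsupp.supported R R (s : Set ι)) (Finsupp.supported R R (s : Set ι)).subtype
  let P : ι → (ModuleCat.of R (ι →₀ R) ⟶ ModuleCat.of R (ι →₀ R)) := fun j =>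
    ModuleCat.ofHom (Finsupp.lapply (R := R) (M := R) j) ≫ ModuleCat.ofHom (Finsupp.lsingle j)
  have he : incl = incl ≫ ∑ j ∈ s, P j := by
    rw [Preadditive.comp_sum]
    ext1
    rw [ModuleCat.hom_sum]
    refine LinearMap.ext fun x => Finsupp.ext fun k => ?_
    simp only [LinearMap.coe_sum, Finset.sum_apply, ModuleCat.hom_comp,
      LinearMap.comp_apply, Finsupp.finsetSum_apply]
    show (x : ι →₀ R) k = ∑ j ∈ s, Finsupp.single j ((x : ι →₀ R) j) k
    rw [Finset.sum_eq_single k (fun j _ hjk => Finsupp.single_eq_of_ne hjk.symm) fun hk => by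
      rw [Finsupp.single_eq_same]; exact (Finsupp.mem_supported' R _).1 x.2 k hk, Finsupp.single_eq_same]
  obtain ⟨w, hw'⟩ : ∃ w : (localCohomology I i).obj (ModuleCat.of R (Finsupp.supported R R (s : Set ι))),
      (localCohomology I i).map incl w = z := ⟨w, hw⟩
  have h1 : (localCohomology I i).map incl w = (localCohomology I i).map (incl ≫ ∑ j ∈ s, P j) w :=
    congrArg (fun g => (localCohomology I i).map g w) he
  rw [Functor.map_comp, ConcreteCategory.comp_apply, hw'] at h1
  refine (h1.trans (map_sum' s P z)).trans (Finset.sum_congr rfl fun j _ => ?_)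
  exact ConcreteCategory.congr_hom ((localCohomology I i).map_comp _ _) z

theorem bijective_tensorMap_free : Function.Bijective (tensorMap I i (ModuleCat.of R (ι →₀ R))) := by
  classical
  constructor
  · rw [injective_iff_map_eq_zero]
    intro y hy
    let H : Type u := ((localCohomology I i).obj (ModuleCat.of R R) : Type u)
    have key : ∀ (k : ι) (y : H ⊗[R] (ι →₀ R)), TensorProduct.finsuppScalarRight R R H ι y k =
        (localCohomology I i).map (ModuleCat.ofHom (Finsupp.lapply k))
          (tensorMap I i (ModuleCat.of R (ι →₀ R)) y) := by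
      intro k y
      induction y using TensorProduct.induction_on with
      | zero => simp
      | tmul h v =>
        rw [TensorProduct.finsuppScalarRight_apply_tmul_apply, tensorMap_tmul,
          ← ConcreteCategory.comp_apply, ← Functor.map_comp]
        have e : ModuleCat.ofHom (LinearMap.toSpanSingleton R (ι →₀ R) v) ≫
            ModuleCat.ofHom (Finsupp.lapply k) = v k • 𝟙 (ModuleCat.of R R) :=
          ModuleCat.hom_ext (LinearMap.ext fun r => mul_comm r (v k))
        refine Eq.trans ?_ (congrArg (fun g => (localCohomology I i).map g h) e).symm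
        exact (map_smul_id _ _).symm
      | add x y hx hy => simp only [map_add, Finsupp.add_apply, hx, hy]
    refine (TensorProduct.finsuppScalarRight R R H ι).map_eq_zero_iff.1 (Finsupp.ext fun k => ?_)
    exact (key k y).trans ((congrArg _ hy).trans (map_zero _))
  · intro z
    obtain ⟨s, hs⟩ := exists_eq_sum I i ι z
    refine ⟨∑ j ∈ s, ((localCohomology I i).map (ModuleCat.ofHom (Finsupp.lapply j)) z) ⊗ₜ Finsupp.single j 1, ?_⟩
    rw [map_sum]
    refine Eq.trans ?_ hs.symm
    refine Finset.sum_congr rfl fun j _ => ?_
    rw [tensorMap_tmul]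
    refine congrArg (fun g => (localCohomology I i).map g _) (ModuleCat.hom_ext (LinearMap.ext fun r => ?_))
    show r • Finsupp.single j (1 : R) = Finsupp.single j r
    rw [Finsupp.smul_single, smul_eq_mul, mul_one]

variable {I i}

/-- A free presentation step. -/
noncomputable def freeSeq (M : ModuleCat.{u} R) : ShortComplex (ModuleCat.{u} R) :=
  ShortComplex.mk (ModuleCat.ofHom (X := LinearMap.ker (Finsupp.linearCombination R (id : M → M)))
      (LinearMap.ker (Finsupp.linearCombination R (id : M → M))).subtype)
    (ModuleCat.ofHom (Finsupp.linearCombination R (id : M → M)))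
    (ModuleCat.hom_ext (LinearMap.ext fun x => x.2))

omit [IsNoetherianRing R] in
theorem freeSeq_shortExact (M : ModuleCat.{u} R) : (freeSeq M).ShortExact where
  exact := (ShortComplex.ShortExact.moduleCat_exact_iff_function_exact _).2 fun x =>
    ⟨fun hx => ⟨⟨x, hx⟩, rfl⟩, by rintro ⟨y, rfl⟩; exact y.2⟩
  mono_f := (ModuleCat.mono_iff_injective _).2 Subtype.val_injective
  epi_g := (ModuleCat.epi_iff_surjective _).2 fun (m : M) => ⟨Finsupp.single m 1,
    (Finsupp.linearCombination_single R (v := (id : M → M)) 1 m).trans (one_smul R m)⟩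

/-- Vanishing on `R` above `d` implies vanishing on every module. -/
theorem subsingleton_of_self {d : ℕ}
    (h : ∀ i, d < i → Subsingleton ((localCohomology I i).obj (ModuleCat.of R R))) :
    ∀ (i : ℕ), d < i → ∀ M : ModuleCat.{u} R, Subsingleton ((localCohomology I i).obj M) := by
  obtain ⟨s, hs⟩ := IsNoetherian.noetherian I
  suffices ∀ k i, d < i → s.card < i + k → ∀ M : ModuleCat.{u} R,
      Subsingleton ((localCohomology I i).obj M) from
    fun i hi M => this (s.card + 1) i hi (by omega) M
  intro k
  induction k with
  | zero =>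
    intro i _ hi M
    rw [← hs]
    exact subsingleton_of_card_lt s i (by omega) M
  | succ k ih =>
    intro i hi hk M
    have hF : Subsingleton ((localCohomology I i).obj (freeSeq M).X₂) :=
      subsingleton_of_forall_eq 0 fun z => by
        obtain ⟨t, ht⟩ := exists_eq_sum I i M z
        refine ht.trans (Finset.sum_eq_zero fun j _ => ?_)
        exact (congrArg _ ((h i hi).elim _ 0)).trans (map_zero _)
    refine subsingleton_of_forall_eq 0 fun w => ?_
    obtain ⟨v, rfl⟩ := exact₃ (freeSeq_shortExact M) w ((ih (i + 1) (by omega) (by omega) _).elim _ _)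
    exact (congrArg _ (hF.elim v 0)).trans (map_zero _)

variable (I i)

/-- `H^i_I(M) = H^i_I(R) ⊗ M` if `H^{i+1}_I` vanishes. -/
theorem bijective_tensorMap (h : ∀ N : ModuleCat.{u} R, Subsingleton ((localCohomology I (i + 1)).obj N))
    (M : ModuleCat.{u} R) : Function.Bijective (tensorMap I i M) := by
  have hg : ∀ {N : ModuleCat.{u} R}, Function.Surjective
      ((localCohomology I i).map (freeSeq N).g).hom := fun {N} w =>
    exact₃ (freeSeq_shortExact N) w ((h _).elim _ _)
  have hsurj : ∀ N : ModuleCat.{u} R, Function.Surjective (tensorMap I i N) := fun N z => by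
    obtain ⟨w, rfl⟩ := hg z
    obtain ⟨y, rfl⟩ := (bijective_tensorMap_free I i (N : Type u)).2 w
    exact ⟨_, tensorMap_natural I i (freeSeq N).g y⟩
  refine ⟨?_, hsurj M⟩
  rw [injective_iff_map_eq_zero]
  intro x hx
  obtain ⟨y, rfl⟩ := LinearMap.lTensor_surjective _
    ((ModuleCat.epi_iff_surjective (freeSeq M).g).1 (freeSeq_shortExact M).epi_g) x
  obtain ⟨v, hv⟩ := exact₂ (freeSeq_shortExact M) (tensorMap I i (freeSeq M).X₂ y)
    ((tensorMap_natural I i (freeSeq M).g y).symm.trans hx)
  obtain ⟨y', rfl⟩ := hsurj (freeSeq M).X₁ v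
  have : y = (freeSeq M).f.hom.lTensor _ y' := (bijective_tensorMap_free I i (M : Type u)).1
    (hv.symm.trans (tensorMap_natural I i (freeSeq M).f y').symm)
  rw [this, ← LinearMap.lTensor_comp_apply, ← ModuleCat.hom_comp, (freeSeq M).zero,
    ModuleCat.hom_zero, LinearMap.lTensor_zero, LinearMap.zero_apply]
  rfl

end Groth.Agent.LocCohLib
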