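import Groth.Agent.LocCohLib.ExtVanishing
import Groth.Agent.LocCohLib.DirectSum
import Groth.Agent.LocCohLib.Shift
import Mathlib.CategoryTheory.Abelian.Projective.Dimension
import Mathlib.Algebra.Module.FinitePresentation
import Mathlib.RingTheory.LocalProperties.Projective

/-!
# Annihilation of local cohomology where the projective dimension is small
-/

set_option autoImplicit false
set_option linter.style.haveILetI false

universe u

open CategoryTheory CategoryTheory.Limits

namespace Groth.Agent.LocCohLib

variable {R : Type u} [CommRing R] [IsNoetherianRing R]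

/-- Local cohomology of `R^k` vanishes below the depth. -/
theorem subsingleton_pi_of_lt_depth (b : Ideal R) (i k : ℕ)
    (hi : (i : ℕ∞) < LocCoh.idealDepth b R) :
    Subsingleton ((localCohomology b i).obj (ModuleCat.of R (Fin k → R))) := by
  classical
  have hR : Subsingleton ((localCohomology b i).obj (ModuleCat.of R R)) :=
    (natCast_le_idealDepth_iff_vanishing b R (i + 1)).1
      (by push_cast; exact Order.add_one_le_of_lt hi) i (Nat.lt_succ_self i)
  refine subsingleton_of_forall_eq 0 fun z => ?_
  have e : 𝟙 (ModuleCat.of R (Fin k → R)) = ∑ j : Fin k, ModuleCat.ofHom (LinearMap.proj j) ≫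
      ModuleCat.ofHom (LinearMap.single R (fun _ : Fin k => R) j) := by
    ext1
    rw [ModuleCat.hom_sum]
    refine LinearMap.ext fun x => funext fun j => ?_
    simp [Finset.sum_apply]
  have h : (localCohomology b i).map (𝟙 (ModuleCat.of R (Fin k → R))) z = 0 := by
    rw [e, map_sum']
    refine Finset.sum_eq_zero fun j _ => ?_
    rw [Functor.map_comp, ConcreteCategory.comp_apply]
    exact (congrArg _ (hR.elim _ 0)).trans (map_zero _)
  rwa [CategoryTheory.Functor.map_id] at h

/-- Where `M_p` has projective dimension at most `h`, some `s ∉ p` kills `H^i_b(M)` for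
`i + h` below the depth. -/
theorem exists_smul_eq_zero_of_pd (p : Ideal R) [p.IsPrime] : ∀ (h : ℕ) (M : ModuleCat.{u} R)
    [Module.Finite R M], HasProjectiveDimensionLE
      (ModuleCat.of (Localization p.primeCompl) (LocalizedModule p.primeCompl M)) h →
    ∃ s : R, s ∉ p ∧ ∀ (b : Ideal R) (i : ℕ), ((i + h : ℕ) : ℕ∞) < LocCoh.idealDepth b R →
      ∀ z : (localCohomology b i).obj M, s • z = 0 := by
  intro h
  induction h with
  | zero =>
    intro M _ hpd
    obtain ⟨k, π, hπ⟩ := Module.Finite.exists_fin' R M
    haveI : Projective (ModuleCat.of (Localization p.primeCompl) (LocalizedModule p.primeCompl M)) :=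
      (projective_iff_hasProjectiveDimensionLE_zero _).2 hpd
    haveI : Module.Projective (Localization p.primeCompl) (LocalizedModule p.primeCompl M) :=
      (IsProjective.iff_projective (LocalizedModule p.primeCompl M)).2 inferInstance
    obtain ⟨σ, hσ⟩ := Module.projective_lifting_property (LocalizedModule.map p.primeCompl π)
      LinearMap.id (LocalizedModule.map_surjective p.primeCompl π hπ)
    haveI : Module.FinitePresentation R M := Module.finitePresentation_of_finite R M
    obtain ⟨h, s, hs⟩ := Module.FinitePresentation.exists_lift_of_isLocalizedModule p.primeCompl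
      (LocalizedModule.mkLinearMap p.primeCompl (Fin k → R))
      (σ.restrictScalars R ∘ₗ LocalizedModule.mkLinearMap p.primeCompl M)
    have hcomp : (LocalizedModule.mkLinearMap p.primeCompl M) ∘ₗ (π ∘ₗ h) =
        (LocalizedModule.mkLinearMap p.primeCompl M) ∘ₗ ((s : R) • LinearMap.id) := by
      refine LinearMap.ext fun m => ?_
      have h1 := LinearMap.congr_fun hs m
      have h2 := congrArg (fun y => (LocalizedModule.map p.primeCompl π).restrictScalars R y) h1
      refine Eq.trans ?_ (h2.trans ?_)
      · exact (LocalizedModule.map_mk p.primeCompl π (h m) 1).symm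
      · show (LocalizedModule.map p.primeCompl π).restrictScalars R ((s : R) • σ (LocalizedModule.mk m 1)) = _
        rw [map_smul]
        show (s : R) • ((LocalizedModule.map p.primeCompl π) ∘ₗ σ) (LocalizedModule.mk m 1) = _
        rw [hσ]
        exact ((LocalizedModule.mkLinearMap p.primeCompl M).map_smul (s : R) m).symm
    obtain ⟨t, ht⟩ := Module.Finite.exists_smul_of_comp_eq_of_isLocalizedModule p.primeCompl
      (LocalizedModule.mkLinearMap p.primeCompl M) (π ∘ₗ h) ((s : R) • LinearMap.id) hcomp
    refine ⟨(t : R) * s, (t * s).2, fun b i hi z => ?_⟩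
    haveI := subsingleton_pi_of_lt_depth b i k (by simpa using hi)
    have e : ((t : R) * (s : R)) • 𝟙 M =
        ((t : R) • ModuleCat.ofHom (X := M) h) ≫ ModuleCat.ofHom (Y := M) π := by
      ext1
      refine LinearMap.ext fun m => ?_
      show ((t : R) * (s : R)) • m = π ((t : R) • h m)
      rw [map_smul, mul_smul]
      exact (LinearMap.congr_fun ht m).symm
    rw [← map_smul_id, e, Functor.map_comp, ConcreteCategory.comp_apply,
      Subsingleton.elim ((localCohomology b i).map ((t : R) • ModuleCat.ofHom (X := M) h) z) 0]
    exact map_zero _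
  | succ h ih =>
    intro M _ hpd
    obtain ⟨k, π, hπ⟩ := Module.Finite.exists_fin' R M
    let S : ShortComplex (ModuleCat.{u} R) :=
      ShortComplex.mk (X₁ := ModuleCat.of R (LinearMap.ker π)) (X₂ := ModuleCat.of R (Fin k → R)) (X₃ := M)
        (ModuleCat.ofHom (LinearMap.ker π).subtype) (ModuleCat.ofHom (Y := M) π)
        (ModuleCat.hom_ext (LinearMap.ext fun x => x.2))
    have hS : S.ShortExact :=
      { exact := (ShortComplex.ShortExact.moduleCat_exact_iff_function_exact _).2
          (LinearMap.exact_subtype_ker_map π)
        mono_f := (ModuleCat.mono_iff_injective _).2 Subtype.val_injective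
        epi_g := (ModuleCat.epi_iff_surjective _).2 hπ }
    haveI : Projective (locSeq p.primeCompl S).X₂ := ModuleCat.projective_of_categoryTheory_projective
      (P := ModuleCat.of (Localization p.primeCompl) (LocalizedModule p.primeCompl (Fin k → R)))
    haveI : Module.Finite R (LinearMap.ker π) := Module.Finite.iff_fg.2 (IsNoetherian.noetherian _)
    obtain ⟨s, hs, hkill⟩ := ih (ModuleCat.of R (LinearMap.ker π))
      ((locSeq_shortExact (hS := hS) p.primeCompl).hasProjectiveDimensionLT_X₁ (h + 1) inferInstance hpd)
    refine ⟨s, hs, fun b i hi z => ?_⟩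
    haveI := subsingleton_pi_of_lt_depth b i k (lt_of_le_of_lt (Nat.cast_le.2 (Nat.le_add_right i (h + 1))) hi)
    have h1 : δ hS b i (s • z) = 0 := by
      rw [map_smul]
      exact hkill b (i + 1) (by rwa [show i + 1 + h = i + (h + 1) by omega]) (δ hS b i z)
    obtain ⟨v, hv⟩ := exact₃ hS (s • z) h1
    rw [← hv, Subsingleton.elim v 0]
    exact map_zero _

end Groth.Agent.LocCohLib
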