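import Groth.Agent.LocCohLib.Torsion
import Groth.Agent.LocCohLib.Shift
import Mathlib.Algebra.Category.ModuleCat.AB

/-!
# Local cohomology commutes with directed colimits
-/

set_option autoImplicit false
set_option linter.style.haveILetI false

universe u

open CategoryTheory CategoryTheory.Limits
open CategoryTheory.Abelian (Ext)

namespace Groth.Agent.LocCohLib

variable {R : Type u} [CommRing R]

/-- Naturality of the connecting homomorphism. -/
theorem δ_naturality {I : Ideal R} {S T : ShortComplex (ModuleCat.{u} R)} (hS : S.ShortExact)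
    (hT : T.ShortExact) (φ : S ⟶ T) (i : ℕ) (w : (localCohomology I i).obj S.X₃) :
    δ hT I i ((localCohomology I i).map φ.τ₃ w) =
      (localCohomology I (i + 1)).map φ.τ₁ (δ hS I i w) := by
  obtain ⟨n, x, rfl⟩ := exists_cl w
  rw [map_cl, δ_cl, δ_cl, map_cl, Ext.comp_assoc_of_second_deg_zero,
    ← ShortComplex.ShortExact.extClass_naturality hS hT φ,
    ← Ext.comp_assoc_of_third_deg_zero]

variable {Λ : Type u} [Preorder Λ] [IsDirected Λ (· ≤ ·)] [Nonempty Λ]

/-- `c` is a colimit cocone, elementwise. -/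
structure IsEltColimit {K : Λ ⥤ ModuleCat.{u} R} (c : Cocone K) : Prop where
  exists_rep : ∀ x : c.pt, ∃ (l : Λ) (y : K.obj l), c.ι.app l y = x
  eq_zero : ∀ (l : Λ) (y : K.obj l), c.ι.app l y = 0 → ∃ (m : Λ) (h : l ≤ m), K.map (homOfLE h) y = 0

variable {K : Λ ⥤ ModuleCat.{u} R} {c : Cocone K}

theorem IsEltColimit.of_isColimit (hc : IsColimit c) : IsEltColimit c := by
  refine ⟨Concrete.isColimit_exists_rep K hc, fun l y hy => ?_⟩
  obtain ⟨m, f, g, hfg⟩ := (Concrete.isColimit_rep_eq_iff_exists K (i := l) (j := l) hc y 0).1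
    (hy.trans (map_zero (c.ι.app l).hom).symm)
  exact ⟨m, leOfHom f, hfg.trans (map_zero (K.map g).hom)⟩

theorem map_trans_apply (K : Λ ⥤ ModuleCat.{u} R) {a b d : Λ} (hab : a ≤ b) (hbd : b ≤ d) (y : K.obj a) :
    K.map (homOfLE hbd) (K.map (homOfLE hab) y) = K.map (homOfLE (hab.trans hbd)) y := by
  rw [← ConcreteCategory.comp_apply, ← K.map_comp]
  rfl

theorem cocone_apply (c : Cocone K) {a b : Λ} (hab : a ≤ b) (y : K.obj a) :
    c.ι.app b (K.map (homOfLE hab) y) = c.ι.app a y :=
  ConcreteCategory.congr_hom (c.w (homOfLE hab)) y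

/-- Finitely many elements killed in the colimit are killed at one stage. -/
theorem IsEltColimit.exists_zero (hc : IsEltColimit c) {ι : Type*} (s : Finset ι) {l : Λ}
    (y : ι → K.obj l) (hy : ∀ j ∈ s, c.ι.app l (y j) = 0) :
    ∃ (m : Λ) (h : l ≤ m), ∀ j ∈ s, K.map (homOfLE h) (y j) = 0 := by
  classical
  induction s using Finset.induction_on with
  | empty => exact ⟨l, le_rfl, fun j hj => absurd hj (Finset.notMem_empty j)⟩
  | insert j₀ s _ ih =>
    obtain ⟨m, h, hm⟩ := ih fun j hj => hy j (Finset.mem_insert_of_mem hj)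
    obtain ⟨p, h', hp⟩ := hc.eq_zero l (y j₀) (hy j₀ (Finset.mem_insert_self _ _))
    obtain ⟨q, hmq, hpq⟩ := exists_ge_ge m p
    refine ⟨q, h.trans hmq, fun j hj => ?_⟩
    rcases Finset.mem_insert.1 hj with rfl | hj
    · rw [← map_trans_apply K h' hpq, hp, map_zero]
    · rw [← map_trans_apply K h hmq, hm j hj, map_zero]

theorem IsEltColimit.isColimit (hc : IsEltColimit c) : Nonempty (IsColimit c) := by
  refine ⟨isColimitOfReflects (forget (ModuleCat.{u} R))
    (Types.FilteredColimit.isColimitOf _ _ (fun x => ?_) fun i j xi xj h => ?_)⟩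
  · obtain ⟨l, y, hy⟩ := hc.exists_rep x
    exact ⟨l, y, hy.symm⟩
  · obtain ⟨k, hik, hjk⟩ := exists_ge_ge i j
    have h' : c.ι.app i xi = c.ι.app j xj := h
    obtain ⟨m, hm, e⟩ := hc.eq_zero k (K.map (homOfLE hik) xi - K.map (homOfLE hjk) xj)
      (by rw [map_sub, cocone_apply, cocone_apply, h', sub_self])
    refine ⟨m, homOfLE (hik.trans hm), homOfLE (hjk.trans hm), ?_⟩
    rw [map_sub, sub_eq_zero, map_trans_apply, map_trans_apply] at e
    exact e

variable [IsNoetherianRing R]

/-- Bass: a directed colimit of injectives is injective. -/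
theorem IsEltColimit.injective (hc : IsEltColimit c) (hK : ∀ l, Injective (K.obj l)) :
    Injective c.pt := by
  classical
  suffices Module.Injective R c.pt from Module.injective_object_of_injective_module R c.pt
  rw [← Module.Baer.iff_injective]
  intro a φ
  obtain ⟨s, hs⟩ := IsNoetherian.noetherian a
  let g : s → a := fun j => ⟨j.1, hs ▸ Submodule.subset_span j.2⟩
  let ψ : (s → R) →ₗ[R] a := Fintype.linearCombination R g
  have hψ : Function.Surjective ψ := by
    have hle : a ≤ (LinearMap.range ψ).map a.subtype := hs.symm.trans_le (Submodule.span_le.2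
      fun x hx => ⟨g ⟨x, hx⟩, ⟨Pi.single ⟨x, hx⟩ 1, by
        rw [Fintype.linearCombination_apply_single, one_smul]⟩, rfl⟩)
    rintro ⟨x, hx⟩
    obtain ⟨y, ⟨r, hr⟩, hy⟩ := hle hx
    exact ⟨r, hr.trans (Subtype.ext hy)⟩
  choose L e he using fun j : s => hc.exists_rep (φ (g j))
  obtain ⟨l, hl⟩ := (Finset.univ.image L).exists_le
  have hLl : ∀ j, L j ≤ l := fun j => hl _ (Finset.mem_image_of_mem L (Finset.mem_univ j))
  let E : (s → R) →ₗ[R] K.obj l :=
    Fintype.linearCombination R fun j => K.map (homOfLE (hLl j)) (e j)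
  have hE : ∀ r, c.ι.app l (E r) = φ (ψ r) := fun r => by
    simp only [E, ψ, Fintype.linearCombination_apply, map_sum, map_smul, cocone_apply, he]
  obtain ⟨t, ht⟩ := IsNoetherian.noetherian (LinearMap.ker ψ)
  obtain ⟨m, hlm, hm⟩ := hc.exists_zero t (fun r => E r) fun r hr => by
    rw [hE, LinearMap.mem_ker.1 (ht.le (Submodule.subset_span hr)), map_zero]
  have hker : LinearMap.ker ψ ≤ LinearMap.ker ((K.map (homOfLE hlm)).hom ∘ₗ E) := by
    rw [← ht, Submodule.span_le]
    exact fun r hr => hm r hr
  let φ' : a →ₗ[R] K.obj m := (LinearMap.ker ψ).liftQ _ hker ∘ₗ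
    (LinearMap.quotKerEquivOfSurjective ψ hψ).symm.toLinearMap
  have hφ' : ∀ r, φ' (ψ r) = K.map (homOfLE hlm) (E r) := fun r => by
    have : (LinearMap.quotKerEquivOfSurjective ψ hψ).symm (ψ r) = Submodule.Quotient.mk r :=
      (LinearEquiv.symm_apply_eq _).2 rfl
    show (LinearMap.ker ψ).liftQ _ hker _ = _
    rw [show (LinearMap.quotKerEquivOfSurjective ψ hψ).symm.toLinearMap (ψ r) =
      Submodule.Quotient.mk r from this, Submodule.liftQ_apply]
    rfl
  haveI := hK m
  haveI : Injective (ModuleCat.of R (K.obj m)) := (inferInstance : Injective (K.obj m))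
  haveI : Module.Injective R (K.obj m) := Module.injective_module_of_injective_object R _
  obtain ⟨Φ, hΦ⟩ := Module.Injective.out (R := R) (Q := K.obj m) a.subtype a.injective_subtype φ'
  refine ⟨(c.ι.app m).hom ∘ₗ Φ, fun x hx => ?_⟩
  obtain ⟨r, hr⟩ := hψ ⟨x, hx⟩
  show c.ι.app m (Φ x) = _
  rw [show Φ x = φ' ⟨x, hx⟩ from hΦ ⟨x, hx⟩, ← hr, hφ', cocone_apply, hE]

section Seq

variable (K)

/-- A pointwise injective diagram under `K`. -/
noncomputable def injDiag : Λ ⥤ ModuleCat.{u} R where
  obj l := ModuleCat.of R ((m : { m : Λ // l ≤ m }) → (Injective.under (K.obj m.1) : ModuleCat.{u} R))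
  map {l l'} f := ModuleCat.ofHom
    { toFun := fun x m => x ⟨m.1, (leOfHom f).trans m.2⟩
      map_add' := fun _ _ => rfl
      map_smul' := fun _ _ => rfl }

/-- The embedding. -/
noncomputable def injDiagι : K ⟶ injDiag K where
  app l := ModuleCat.ofHom
    { toFun := fun x m => Injective.ι (K.obj m.1) (K.map (homOfLE m.2) x)
      map_add' := fun _ _ => funext fun m => by simp
      map_smul' := fun _ _ => funext fun m => by simp }
  naturality l l' f := ModuleCat.hom_ext (LinearMap.ext fun x => funext fun m => by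
    show Injective.ι (K.obj m.1) (K.map (homOfLE m.2) (K.map f x)) = _
    rw [show f = homOfLE (leOfHom f) from rfl, map_trans_apply]
    rfl)

theorem injective_injDiag (l : Λ) : Injective ((injDiag K).obj l) := by
  haveI hU : ∀ m : { m : Λ // l ≤ m }, Module.Injective R
      (Injective.under (K.obj m.1) : ModuleCat.{u} R) := fun m => by
    haveI : Injective (Injective.under (K.obj m.1)) := inferInstance
    haveI : Injective (ModuleCat.of R (Injective.under (K.obj m.1) : ModuleCat.{u} R)) :=
      (inferInstance : Injective (Injective.under (K.obj m.1)))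
    exact Module.injective_module_of_injective_object R _
  suffices Module.Injective R ((m : { m : Λ // l ≤ m }) → (Injective.under (K.obj m.1) : ModuleCat.{u} R))
    from Module.injective_object_of_injective_module R _
  rw [← Module.Baer.iff_injective]
  intro a φ
  choose Φ hΦ using fun m => (Module.Baer.iff_injective.2 (hU m)) a ((LinearMap.proj m) ∘ₗ φ)
  exact ⟨LinearMap.pi Φ, fun x hx => funext fun m => hΦ m x hx⟩

instance mono_injDiagι : Mono (injDiagι K) := by
  haveI : ∀ l, Mono ((injDiagι K).app l) := fun l => (ModuleCat.mono_iff_injective _).2 fun x y h =>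
    (ModuleCat.mono_iff_injective (Injective.ι (K.obj l))).1 inferInstance (by
      have h' := congrFun h ⟨l, le_rfl⟩
      change Injective.ι (K.obj l) (K.map (homOfLE le_rfl) x) =
        Injective.ι (K.obj l) (K.map (homOfLE le_rfl) y) at h'
      rwa [show homOfLE (le_refl l) = 𝟙 l from Subsingleton.elim _ _, K.map_id] at h')
  exact NatTrans.mono_of_mono_app _

/-- `0 ⟶ K ⟶ E ⟶ Q ⟶ 0`. -/
noncomputable def diagSeq : ShortComplex (Λ ⥤ ModuleCat.{u} R) :=
  ShortComplex.mk (injDiagι K) (cokernel.π (injDiagι K)) (cokernel.condition _)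

theorem diagSeq_shortExact : (diagSeq K).ShortExact where
  exact := ShortComplex.exact_cokernel _
  mono_f := mono_injDiagι K
  epi_g := coequalizer.π_epi

theorem diagSeq_app_shortExact (l : Λ) :
    ((diagSeq K).map ((evaluation Λ (ModuleCat.{u} R)).obj l)).ShortExact :=
  (diagSeq_shortExact K).map_of_exact _

theorem diagSeq_colim_shortExact : ((diagSeq K).map (colim : (Λ ⥤ ModuleCat.{u} R) ⥤ _)).ShortExact :=
  (diagSeq_shortExact K).map_of_exact _

/-- From stage `l` to the colimit. -/
noncomputable def diagSeqι (l : Λ) :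
    (diagSeq K).map ((evaluation Λ (ModuleCat.{u} R)).obj l) ⟶
      (diagSeq K).map (colim : (Λ ⥤ ModuleCat.{u} R) ⥤ _) where
  τ₁ := colimit.ι (diagSeq K).X₁ l
  τ₂ := colimit.ι (diagSeq K).X₂ l
  τ₃ := colimit.ι (diagSeq K).X₃ l
  comm₁₂ := ι_colimMap _ _
  comm₂₃ := ι_colimMap _ _

/-- Transition maps. -/
noncomputable def diagSeqTr {l m : Λ} (h : l ≤ m) :
    (diagSeq K).map ((evaluation Λ (ModuleCat.{u} R)).obj l) ⟶
      (diagSeq K).map ((evaluation Λ (ModuleCat.{u} R)).obj m) :=
  (diagSeq K).mapNatTrans ((evaluation Λ (ModuleCat.{u} R)).map (homOfLE h))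

end Seq

/-- `H^i_I` commutes with directed colimits, elementwise. -/
theorem isEltColimit_H (I : Ideal R) : ∀ (i : ℕ) (K : Λ ⥤ ModuleCat.{u} R),
    IsEltColimit ((localCohomology I i).mapCocone (colimit.cocone K)) := by
  intro i
  induction i with
  | zero =>
    intro K
    have hK := IsEltColimit.of_isColimit (colimit.isColimit K)
    refine ⟨fun z => ?_, fun l w hw => ?_⟩
    · obtain ⟨l, y, hy⟩ := hK.exists_rep (h0 I _ z)
      obtain ⟨n, hn⟩ := (h0_mem_range _).1 ⟨z, rfl⟩
      obtain ⟨s, hs⟩ := IsNoetherian.noetherian (I ^ n)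
      obtain ⟨m, hlm, hm⟩ := hK.exists_zero s (fun a => a • y) fun a ha => by
        rw [map_smul, hy]
        exact hn a (hs ▸ Submodule.subset_span ha)
      obtain ⟨w, hw⟩ := (h0_mem_range (I := I) (K.map (homOfLE hlm) y)).2 ⟨n, fun a ha => by
        rw [← hs] at ha
        induction ha using Submodule.span_induction with
        | mem a ha => rw [← map_smul]; exact hm a ha
        | zero => rw [zero_smul]
        | add a b _ _ h₁ h₂ => rw [add_smul, h₁, h₂, add_zero]
        | smul t a _ h₁ => rw [smul_eq_mul, mul_smul, h₁, smul_zero]⟩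
      refine ⟨m, w, h0_injective ?_⟩
      refine (h0_map _ w).trans ?_
      rw [hw, cocone_apply]
      exact hy
    · obtain ⟨m, h, hm⟩ := hK.eq_zero l (h0 I _ w)
        ((h0_map _ w).symm.trans ((congrArg (h0 I _) hw).trans (map_zero _)))
      refine ⟨m, h, h0_injective ?_⟩
      refine (h0_map _ w).trans (hm.trans (map_zero _).symm)
  | succ i ih =>
    intro K
    let S := diagSeq K
    have hT := diagSeq_colim_shortExact K
    have hSl := diagSeq_app_shortExact K
    have hE : Injective (S.map (colim : (Λ ⥤ ModuleCat.{u} R) ⥤ _)).X₂ :=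
      (IsEltColimit.of_isColimit (colimit.isColimit (injDiag K))).injective (injective_injDiag K)
    refine ⟨fun z => ?_, fun l w hw => ?_⟩
    · obtain ⟨v, hv⟩ := exact₁ hT z
        ((subsingleton_of_injective (M := (S.map (colim : (Λ ⥤ ModuleCat.{u} R) ⥤ _)).X₂) i).elim _ _)
      obtain ⟨l, v', hv'⟩ := (ih S.X₃).exists_rep v
      refine ⟨l, δ (hSl l) I i v', ?_⟩
      refine (δ_naturality (hSl l) hT (diagSeqι K l) i v').symm.trans ?_
      exact (congrArg (δ hT I i) hv').trans hv
    · haveI : Injective ((S.map ((evaluation Λ (ModuleCat.{u} R)).obj l))).X₂ := injective_injDiag K l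
      obtain ⟨v, rfl⟩ := δ_surjective (I := I) (hSl l) i w
      have h1 : δ hT I i ((localCohomology I i).map (diagSeqι K l).τ₃ v) = 0 :=
        (δ_naturality (hSl l) hT (diagSeqι K l) i v).trans hw
      obtain ⟨e, he⟩ := exact₃ hT _ h1
      obtain ⟨p, e', he'⟩ := (ih S.X₂).exists_rep e
      obtain ⟨m, hlm, hpm⟩ := exists_ge_ge l p
      let v₁ := (localCohomology I i).map (S.X₃.map (homOfLE hlm)) v
      let e₁ := (localCohomology I i).map (S.X₂.map (homOfLE hpm)) e'
      let g₁ := (localCohomology I i).map (S.g.app m) e₁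
      have hdiff : ((localCohomology I i).mapCocone (colimit.cocone S.X₃)).ι.app m (v₁ - g₁) = 0 := by
        rw [map_sub, sub_eq_zero]
        refine (cocone_apply ((localCohomology I i).mapCocone (colimit.cocone S.X₃)) hlm v).trans ?_
        refine he.symm.trans ?_
        have h2 : (localCohomology I i).map (S.g.app m ≫ colimit.ι S.X₃ m) e₁ =
            (localCohomology I i).map (colimit.ι S.X₂ m ≫ colimMap S.g) e₁ := by rw [ι_colimMap]
        rw [Functor.map_comp, Functor.map_comp, ConcreteCategory.comp_apply,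
          ConcreteCategory.comp_apply] at h2
        refine Eq.trans ?_ h2.symm
        refine congrArg ((localCohomology I i).map (colimMap S.g)) (he'.symm.trans ?_)
        exact (cocone_apply ((localCohomology I i).mapCocone (colimit.cocone S.X₂)) hpm e').symm
      obtain ⟨q, hmq, hq⟩ := (ih S.X₃).eq_zero m _ hdiff
      refine ⟨q, hlm.trans hmq, ?_⟩
      refine (δ_naturality (hSl l) (hSl q) (diagSeqTr K (hlm.trans hmq)) i v).symm.trans ?_
      have h3 : (localCohomology I i).map (diagSeqTr K (hlm.trans hmq)).τ₃ v =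
          (localCohomology I i).map (S.g.app q)
            ((localCohomology I i).map (S.X₂.map (homOfLE hmq)) e₁) := by
        rw [map_sub, sub_eq_zero] at hq
        refine ((map_trans_apply (S.X₃ ⋙ localCohomology I i) hlm hmq v).symm.trans hq).trans ?_
        have h4 : (localCohomology I i).map (S.g.app m ≫ S.X₃.map (homOfLE hmq)) e₁ =
            (localCohomology I i).map (S.X₂.map (homOfLE hmq) ≫ S.g.app q) e₁ := by
          rw [NatTrans.naturality]
        rw [Functor.map_comp, Functor.map_comp, ConcreteCategory.comp_apply,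
          ConcreteCategory.comp_apply] at h4
        exact h4
      rw [h3]
      exact δ_map_eq_zero (hSl q) _

/-- `H^i_I` preserves directed colimits. -/
theorem preservesColimitsOfShape_H (I : Ideal R) (i : ℕ) :
    PreservesColimitsOfShape Λ (localCohomology I i) :=
  ⟨fun {K} => preservesColimit_of_preserves_colimit_cocone (colimit.isColimit K)
    (isEltColimit_H I i K).isColimit.some⟩

end Groth.Agent.LocCohLib
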