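import Mathlib.RingTheory.LocalProperties.Injective
import Mathlib.RingTheory.Ideal.MinimalPrime.Basic
import Mathlib.RingTheory.Noetherian.Basic
import Mathlib.RingTheory.Spectrum.Prime.Basic
import Mathlib.RingTheory.Finiteness.Ideal
import Mathlib.RingTheory.Localization.AtPrime.Basic

/-!
# Torsion sections of complexes: from local to global

If at every prime `p ⊇ I`, `p ⊉ I'`, the `p`-power torsion of `K_p` in the kernel of `g` comes from
the `p`-power torsion of `J_p` (`J` injective), then an `I`-torsion element of `K` whose image under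
`g` is `I'`-torsion is, up to an `I'`-torsion element, the image of an `I`-torsion element of `J`.
-/

set_option autoImplicit false

universe u v

namespace Groth.Agent.LocCohLib

variable {A : Type u} [CommRing A]

/-- The annihilator of an element. -/
noncomputable def annI {M : Type v} [AddCommGroup M] [Module A M] (z : M) : Ideal A :=
  LinearMap.ker (LinearMap.toSpanSingleton A M z)

theorem mem_annI {M : Type v} [AddCommGroup M] [Module A M] {z : M} {a : A} :
    a ∈ annI z ↔ a • z = 0 := Iff.rfl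

variable [IsNoetherianRing A]

theorem exists_pow_iff_le_radical {M : Type v} [AddCommGroup M] [Module A M] (I : Ideal A) (z : M) :
    (∃ k : ℕ, ∀ a ∈ I ^ k, a • z = 0) ↔ I ≤ (annI z).radical := by
  constructor
  · rintro ⟨k, hk⟩ a ha
    exact ⟨k, hk _ (Ideal.pow_mem_pow ha k)⟩
  · intro h
    obtain ⟨k, hk⟩ := Ideal.exists_pow_le_of_le_radical_of_fg h (IsNoetherian.noetherian I)
    exact ⟨k, fun a ha => hk ha⟩

/-- Lifting the torsion of a localisation of an injective module. -/
theorem exists_lift {J : Type u} [AddCommGroup J] [Module A J] [Module.Injective A J]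
    (B : Ideal A) (S : Submonoid A) (ξ : LocalizedModule S J) (hξ : ∀ a ∈ B, a • ξ = 0) :
    ∃ j : J, (∀ a ∈ B, a • j = 0) ∧ LocalizedModule.mkLinearMap S J j = ξ := by
  classical
  induction ξ using LocalizedModule.induction_on with
  | h x s =>
    let F : Set (Ideal A) := Set.range fun t : S => annI ((t : A) • x)
    obtain ⟨_, ⟨t₀, rfl⟩, hmax⟩ := set_has_maximal_iff_noetherian.mpr inferInstance F
      ⟨_, ⟨1, rfl⟩⟩
    have hBx : ∀ a : A, a ∈ B → a • ((t₀ : A) • x) = 0 := by
      intro a ha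
      have h := hξ a ha
      rw [LocalizedModule.smul'_mk, ← LocalizedModule.zero_mk s, LocalizedModule.mk_eq] at h
      obtain ⟨u, hu⟩ := h
      simp only [smul_zero, Submonoid.smul_def] at hu
      have hle : annI (A := A) ((t₀ : A) • x) ≤ annI (A := A) (((u * s * t₀ : S) : A) • x) := by
        intro b hb
        rw [mem_annI] at hb ⊢
        rw [Submonoid.coe_mul, mul_smul, smul_comm b, hb, smul_zero]
      have : ((u * s * t₀ : S) : A) • (a • x) = 0 := by
        rw [Submonoid.coe_mul, Submonoid.coe_mul, mul_comm _ (t₀ : A), mul_smul, mul_smul, hu,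
          smul_zero]
      have ha' : a ∈ annI (A := A) (((u * s * t₀ : S) : A) • x) := by
        rw [mem_annI, smul_comm, this]
      rcases hle.lt_or_eq with hlt | heq
      · exact absurd hlt (hmax _ ⟨u * s * t₀, rfl⟩)
      · rw [← heq] at ha'; exact ha'
    let σ : A := ((s * t₀ : S) : A)
    have hmono : Monotone fun n : ℕ => B.colon ({σ ^ n} : Set A) := by
      refine monotone_nat_of_le_succ fun n a ha => ?_
      rw [Submodule.mem_colon_singleton, smul_eq_mul] at ha ⊢
      rw [pow_succ, ← mul_assoc]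
      exact B.mul_mem_right _ ha
    obtain ⟨n, hn⟩ := monotone_stabilizes_iff_noetherian.mpr inferInstance ⟨_, hmono⟩
    let ψ : A →ₗ[A] A ⧸ B := LinearMap.toSpanSingleton A _ (Submodule.Quotient.mk (σ ^ (n + 1)))
    let θ : A →ₗ[A] J := LinearMap.toSpanSingleton A J (σ ^ n • ((t₀ : A) • x))
    have hker : LinearMap.ker ψ ≤ LinearMap.ker θ := by
      intro r hr
      rw [LinearMap.mem_ker, LinearMap.toSpanSingleton_apply, ← Submodule.Quotient.mk_smul,
        Submodule.Quotient.mk_eq_zero, smul_eq_mul] at hr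
      rw [LinearMap.mem_ker, LinearMap.toSpanSingleton_apply, ← mul_smul]
      refine hBx _ ?_
      have h2 : r ∈ B.colon ({σ ^ n} : Set A) := by
        have h3 := hn (n + 1) n.le_succ
        rw [show B.colon ({σ ^ n} : Set A) = B.colon ({σ ^ (n + 1)} : Set A) from h3,
          Submodule.mem_colon_singleton, smul_eq_mul]
        exact hr
      rwa [Submodule.mem_colon_singleton, smul_eq_mul] at h2
    obtain ⟨φ, hφ⟩ := Module.Injective.out (R := A) (Q := J)
      ((LinearMap.ker ψ).liftQ ψ le_rfl) (by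
        rw [← LinearMap.ker_eq_bot, Submodule.ker_liftQ_eq_bot _ _ _ le_rfl])
      ((LinearMap.ker ψ).liftQ θ hker)
    let j : J := φ (Submodule.Quotient.mk 1)
    have hj : σ ^ (n + 1) • j = σ ^ n • ((t₀ : A) • x) := by
      have h := hφ (Submodule.Quotient.mk 1)
      simp only [Submodule.liftQ_apply, ψ, θ, LinearMap.toSpanSingleton_apply, one_smul] at h
      rw [← h, ← map_smul, ← Submodule.Quotient.mk_smul, smul_eq_mul, mul_one]
    refine ⟨j, fun a ha => ?_, ?_⟩
    · rw [← map_smul, ← Submodule.Quotient.mk_smul, smul_eq_mul, mul_one,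
        (Submodule.Quotient.mk_eq_zero B).2 ha, map_zero]
    · rw [LocalizedModule.mkLinearMap_apply, LocalizedModule.mk_eq]
      refine ⟨(s * t₀) ^ n * t₀, ?_⟩
      simp only [Submonoid.smul_def, Submonoid.coe_mul, SubmonoidClass.coe_pow, one_smul]
      rw [mul_smul, mul_smul, show ((s : A) * t₀) ^ n • (t₀ : A) • (s : A) • j =
        σ ^ (n + 1) • j by
          rw [← mul_smul, ← mul_smul, pow_succ]
          congr 1
          simp only [σ, Submonoid.coe_mul]
          ring, hj]
      simp only [σ, Submonoid.coe_mul]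

theorem annI_inf_le {M : Type v} [AddCommGroup M] [Module A M] (x y : M) :
    annI (A := A) x ⊓ annI y ≤ annI (x - y) := fun a ⟨hx, hy⟩ => by
  rw [mem_annI, smul_sub, mem_annI.1 hx, mem_annI.1 hy, sub_zero]

theorem annI_le_annI_map {M N : Type v} [AddCommGroup M] [Module A M] [AddCommGroup N] [Module A N]
    (f : M →ₗ[A] N) (x : M) : annI (A := A) x ≤ annI (f x) := fun a ha => by
  rw [mem_annI, ← map_smul, mem_annI.1 ha, map_zero]

/-- Local-to-global decomposition of torsion. -/
theorem torsion_decomp {J K L : Type u} [AddCommGroup J] [Module A J] [Module.Injective A J]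
    [AddCommGroup K] [Module A K] [AddCommGroup L] [Module A L] (f : J →ₗ[A] K) (g : K →ₗ[A] L)
    (hgf : ∀ j, g (f j) = 0) (I I' : Ideal A)
    (hloc : ∀ p : PrimeSpectrum A, I ≤ p.asIdeal → ¬ I' ≤ p.asIdeal →
      ∀ x : LocalizedModule p.asIdeal.primeCompl K, (∃ k : ℕ, ∀ a ∈ p.asIdeal ^ k, a • x = 0) →
        LocalizedModule.map p.asIdeal.primeCompl g x = 0 →
        ∃ ξ, (∃ k : ℕ, ∀ a ∈ p.asIdeal ^ k, a • ξ = 0) ∧
          LocalizedModule.map p.asIdeal.primeCompl f ξ = x)
    (z : K) (hz : ∃ k : ℕ, ∀ a ∈ I ^ k, a • z = 0) (hgz : ∃ k : ℕ, ∀ a ∈ I' ^ k, a • g z = 0) :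
    ∃ j, (∃ k : ℕ, ∀ a ∈ I ^ k, a • j = 0) ∧ ∃ k : ℕ, ∀ a ∈ I' ^ k, a • (z - f j) = 0 := by
  classical
  rw [exists_pow_iff_le_radical] at hz
  simp only [exists_pow_iff_le_radical] at hgz ⊢
  let F : Set (Ideal A) :=
    (fun j => (annI (z - f j)).radical) '' {j : J | I ≤ (annI j).radical}
  obtain ⟨_, ⟨j₀, hj₀, rfl⟩, hmax⟩ := set_has_maximal_iff_noetherian.mpr inferInstance F
    ⟨_, 0, (show I ≤ (annI (0 : J)).radical from fun a _ =>
      ⟨1, show a ^ 1 • (0 : J) = 0 from smul_zero _⟩), rfl⟩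
  refine ⟨j₀, hj₀, ?_⟩
  by_contra hI'
  let w := z - f j₀
  have hIw : I ≤ (annI w).radical := by
    refine le_trans ?_ (Ideal.radical_mono (annI_inf_le (A := A) z (f j₀)))
    rw [Ideal.radical_inf]
    exact le_inf hz (hj₀.trans (Ideal.radical_mono (annI_le_annI_map f j₀)))
  obtain ⟨q, hq, hBq, hI'q⟩ : ∃ q : Ideal A, q.IsPrime ∧ annI w ≤ q ∧ ¬ I' ≤ q := by
    by_contra hne
    push_neg at hne
    refine hI' ?_
    rw [Ideal.radical_eq_sInf]
    exact le_sInf fun q hq => hne q hq.2 hq.1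
  obtain ⟨p, hpmin, hpq⟩ := Ideal.exists_minimalPrimes_le hBq
  haveI hp : p.IsPrime := hpmin.1.1
  let P : PrimeSpectrum A := ⟨p, hp⟩
  have hBp : annI w ≤ p := hpmin.1.2
  have hIp : I ≤ p := hIw.trans (hp.radical_le_iff.2 hBp)
  let ι := LocalizedModule.mkLinearMap p.primeCompl K
  have htor : ∃ k : ℕ, ∀ a ∈ p ^ k, a • ι w = 0 := by
    rw [exists_pow_iff_le_radical]
    intro a ha
    by_contra hrad
    let T : Submonoid A := p.primeCompl ⊔ Submonoid.powers a
    have hdisj : Disjoint ((annI (A := A) w : Ideal A) : Set A) (T : Set A) := by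
      rw [Set.disjoint_right]
      rintro t ht htw
      obtain ⟨s, hs, _, ⟨k, rfl⟩, rfl⟩ := Submonoid.mem_sup.1 ht
      refine hrad ⟨k, ?_⟩
      rw [mem_annI, ← map_smul, LocalizedModule.mkLinearMap_apply, ← LocalizedModule.zero_mk 1,
        LocalizedModule.mk_eq]
      refine ⟨⟨s, hs⟩, ?_⟩
      simp only [Submonoid.smul_def, one_smul, smul_zero]
      rw [← mul_smul]
      exact htw
    obtain ⟨r, hr, hBr, hrT⟩ := Ideal.exists_le_prime_disjoint _ _ hdisj
    have hrp : r ≤ p := fun b hb => by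
      by_contra hbp
      exact Set.disjoint_left.1 hrT hb (Submonoid.mem_sup_left (show b ∈ p.primeCompl from hbp))
    exact Set.disjoint_left.1 hrT (hpmin.2 ⟨hr, hBr⟩ hrp ha)
      (Submonoid.mem_sup_right (Submonoid.mem_powers a))
  have hgw : LocalizedModule.map p.primeCompl g (ι w) = 0 := by
    have e : g w = g z := by simp only [w, map_sub, hgf, sub_zero]
    obtain ⟨a, haI', hap⟩ := Set.not_subset.1 fun h : I' ≤ p => hI'q (h.trans hpq)
    obtain ⟨k, hk⟩ := hgz haI'
    rw [LocalizedModule.mkLinearMap_apply, LocalizedModule.map_mk, ← LocalizedModule.zero_mk 1,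
      LocalizedModule.mk_eq]
    refine ⟨⟨a ^ k, fun h => hap (hp.mem_of_pow_mem k h)⟩, ?_⟩
    simp only [Submonoid.smul_def, one_smul, smul_zero, e]
    exact hk
  obtain ⟨ξ, ⟨k, hk⟩, hξ⟩ := hloc P hIp (fun h => hI'q (h.trans hpq)) (ι w) htor hgw
  obtain ⟨j, hj, hjξ⟩ := exists_lift (p ^ k) p.primeCompl ξ hk
  have hw' : z - f (j₀ + j) = w - f j := by rw [map_add]; exact sub_add_eq_sub_sub _ _ _
  have hjI : I ≤ (annI (j₀ + j)).radical := by
    have hjrad : I ≤ (annI (-j)).radical := hIp.trans fun a ha =>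
      ⟨k, by rw [mem_annI, smul_neg, hj _ (Ideal.pow_mem_pow ha k), neg_zero]⟩
    refine le_trans ?_ (Ideal.radical_mono (le_of_le_of_eq (annI_inf_le (A := A) j₀ (-j))
      (by rw [sub_neg_eq_add])))
    rw [Ideal.radical_inf]
    exact le_inf hj₀ hjrad
  refine hmax _ ⟨j₀ + j, hjI, rfl⟩ ?_
  dsimp only
  rw [hw']
  refine lt_of_le_of_ne ?_ fun heq => ?_
  · refine le_trans ?_ (Ideal.radical_mono (annI_inf_le (A := A) w (f j)))
    rw [Ideal.radical_inf]
    refine le_inf le_rfl (le_trans (hp.radical_le_iff.2 hBp) fun a ha => ⟨k, ?_⟩)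
    rw [mem_annI, ← map_smul, hj _ (Ideal.pow_mem_pow ha k), map_zero]
  · have h0 : ι (w - f j) = 0 := by
      rw [map_sub, sub_eq_zero, ← hξ, ← hjξ]
      exact (LocalizedModule.map_mk _ f j 1).trans rfl
    rw [LocalizedModule.mkLinearMap_apply, ← LocalizedModule.zero_mk 1, LocalizedModule.mk_eq] at h0
    obtain ⟨⟨s, hs⟩, hsw⟩ := h0
    simp only [Submonoid.smul_def, one_smul, smul_zero] at hsw
    have h1 : s ∈ (annI (w - f j)).radical := Ideal.le_radical hsw
    rw [← heq] at h1
    exact hs (hp.radical_le_iff.2 hBp h1)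

end Groth.Agent.LocCohLib
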