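import Groth.Agent.LocCohLib.Shift
import Groth.Agent.LocCohLib.Lift
import Mathlib.RingTheory.Localization.AtPrime.Basic

/-!
# Bijectivity of `H^i_{I'}(M) → H^i_I(M)` from vanishing at the primes in `V(I) ∖ V(I')`
-/

set_option autoImplicit false

universe u

open CategoryTheory CategoryTheory.Limits

namespace Groth.Agent.LocCohLib

variable {A : Type u} [CommRing A]

/-- The localisation of a module at a prime, as an object. -/
noncomputable abbrev atPrime (p : PrimeSpectrum A) (M : ModuleCat.{u} A) :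
    ModuleCat.{u} (Localization p.asIdeal.primeCompl) :=
  ModuleCat.of (Localization p.asIdeal.primeCompl) (LocalizedModule p.asIdeal.primeCompl M)

/-- The local cohomology of a localisation at its maximal ideal. -/
noncomputable abbrev locH (p : PrimeSpectrum A) (i : ℕ) (M : ModuleCat.{u} A) :
    ModuleCat.{u} (Localization p.asIdeal.primeCompl) :=
  (localCohomology (IsLocalRing.maximalIdeal (Localization.AtPrime p.asIdeal)) i).obj (atPrime p M)

variable {I I' : Ideal A}

/-- Vanishing of the local groups in degree `i` along `V(I) ∖ V(I')`. -/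
def LocVanish (I I' : Ideal A) (i : ℕ) (M : ModuleCat.{u} A) : Prop :=
  ∀ p : PrimeSpectrum A, I ≤ p.asIdeal → ¬ I' ≤ p.asIdeal → Subsingleton (locH p i M)

theorem pow_torsion_iff (p : PrimeSpectrum A) {M : ModuleCat.{u} A} (x : atPrime p M) (k : ℕ) :
    (∀ a ∈ p.asIdeal ^ k, a • (x : LocalizedModule p.asIdeal.primeCompl M) = 0) ↔
      ∀ a ∈ IsLocalRing.maximalIdeal (Localization.AtPrime p.asIdeal) ^ k, a • x = 0 := by
  rw [← Localization.AtPrime.map_eq_maximalIdeal, ← Ideal.map_pow]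
  constructor
  · intro h a ha
    refine (Ideal.map_le_iff_le_comap.2 ?_ : Ideal.map _ (p.asIdeal ^ k) ≤
      annI (A := Localization p.asIdeal.primeCompl) x) ha
    intro b hb
    rw [Ideal.mem_comap, mem_annI, algebraMap_smul]
    exact h b hb
  · intro h a ha
    rw [← algebraMap_smul (Localization p.asIdeal.primeCompl) a
      (x : LocalizedModule p.asIdeal.primeCompl M)]
    exact h _ (Ideal.mem_map_of_mem _ ha)

theorem exists_h0_eq (p : PrimeSpectrum A) {M : ModuleCat.{u} A} (x : atPrime p M)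
    (hx : ∃ k : ℕ, ∀ a ∈ p.asIdeal ^ k, a • (x : LocalizedModule p.asIdeal.primeCompl M) = 0) :
    ∃ u : locH p 0 M, h0 _ _ u = x := by
  obtain ⟨k, hk⟩ := hx
  exact (h0_mem_range x).2 ⟨k, (pow_torsion_iff p x k).1 hk⟩

theorem h0_torsion (p : PrimeSpectrum A) {M : ModuleCat.{u} A} (u : locH p 0 M) :
    ∃ k : ℕ, ∀ a ∈ p.asIdeal ^ k,
      a • (h0 _ (atPrime p M) u : LocalizedModule p.asIdeal.primeCompl M) = 0 := by
  obtain ⟨k, hk⟩ := (h0_mem_range _).1 ⟨u, rfl⟩
  exact ⟨k, (pow_torsion_iff p _ k).2 hk⟩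

theorem map_comp_apply' {S : Submonoid A} {M N P : Type u} [AddCommGroup M] [Module A M]
    [AddCommGroup N] [Module A N] [AddCommGroup P] [Module A P] (f : M →ₗ[A] N) (g : N →ₗ[A] P)
    (x : LocalizedModule S M) :
    LocalizedModule.map S (g ∘ₗ f) x = LocalizedModule.map S g (LocalizedModule.map S f x) := by
  induction x using LocalizedModule.induction_on with
  | h m s => simp only [LocalizedModule.map_mk, LinearMap.comp_apply]

variable [IsNoetherianRing A]

instance (M : ModuleCat.{u} A) : Module.Injective A (injSeq M).X₂ := by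
  haveI : Injective (ModuleCat.of A (injSeq M).X₂) := (inferInstance : Injective (injSeq M).X₂)
  exact Module.injective_module_of_injective_object A _

theorem locVanish_shift {M : ModuleCat.{u} A} (k : ℕ) (h : LocVanish I I' (k + 2) M) :
    LocVanish I I' (k + 1) (injSeq M).X₃ := by
  intro p hI hI'
  haveI : Injective (locSeq p.asIdeal.primeCompl (injSeq M)).X₂ :=
    injective_localized p.asIdeal.primeCompl (injSeq M).X₂
  haveI : Subsingleton ((localCohomology (IsLocalRing.maximalIdeal (Localization.AtPrime p.asIdeal))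
      (k + 2)).obj (locSeq p.asIdeal.primeCompl (injSeq M)).X₁) := h p hI hI'
  exact (δ_injective (I := IsLocalRing.maximalIdeal (Localization.AtPrime p.asIdeal))
    (locSeq_shortExact (injSeq_shortExact M) p.asIdeal.primeCompl) k).subsingleton

theorem hmap_surjective_zero (hle : I ≤ I') {M : ModuleCat.{u} A} (hC : LocVanish I I' 0 M) :
    Function.Surjective ((Dual2.HmapOfLE hle 0).app M).hom := by
  intro u
  obtain ⟨j, -, hj⟩ := torsion_decomp (0 : (injSeq M).X₂ →ₗ[A] M) (0 : M →ₗ[A] M) (fun _ => rfl)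
    I I' (fun p hI hI' x hx _ => by
      obtain ⟨v, rfl⟩ := exists_h0_eq p x hx
      rw [(hC p hI hI').elim v 0, map_zero]
      exact ⟨0, ⟨0, fun a _ => smul_zero a⟩, by simp⟩)
    (h0 I M u) ((h0_mem_range _).1 ⟨u, rfl⟩) ⟨0, fun a _ => smul_zero a⟩
  rw [show (0 : (injSeq M).X₂ →ₗ[A] M) j = 0 from rfl, sub_zero] at hj
  obtain ⟨u', hu'⟩ := (h0_mem_range (I := I') (h0 I M u)).2 hj
  exact ⟨u', h0_injective (((h0_hmapOfLE hle u')).trans hu')⟩

theorem hmap_injective_zero (hle : I ≤ I') (M : ModuleCat.{u} A) :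
    Function.Injective ((Dual2.HmapOfLE hle 0).app M).hom := fun u v h =>
  h0_injective ((h0_hmapOfLE hle u).symm.trans ((congrArg (h0 I M) h).trans (h0_hmapOfLE hle v)))

theorem hmap_surjective_one (hle : I ≤ I') {M : ModuleCat.{u} A} (hC : LocVanish I I' 1 M) :
    Function.Surjective ((Dual2.HmapOfLE hle 1).app M).hom := by
  intro w
  have hS := injSeq_shortExact M
  obtain ⟨v, rfl⟩ := δ_surjective hS 0 w
  obtain ⟨j, hj, hj'⟩ := torsion_decomp (injSeq M).g.hom (0 : (injSeq M).X₃ →ₗ[A] M) (fun _ => rfl)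
    I I' (fun p hI hI' x hx _ => by
      obtain ⟨u, rfl⟩ := exists_h0_eq p x hx
      have hSp := locSeq_shortExact hS p.asIdeal.primeCompl
      obtain ⟨t, ht⟩ := exact₃ (i := 0) hSp u
        ((hC p hI hI').elim (δ hSp _ 0 u : locH p 1 M) 0)
      exact ⟨h0 _ (atPrime p (injSeq M).X₂) t, h0_torsion p t, by
        rw [← ht]; exact (h0_map (locSeq p.asIdeal.primeCompl (injSeq M)).g t).symm⟩)
    (h0 I _ v) ((h0_mem_range _).1 ⟨v, rfl⟩) ⟨0, fun a _ => smul_zero a⟩
  obtain ⟨t, rfl⟩ := (h0_mem_range (I := I) j).2 hj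
  obtain ⟨u', hu'⟩ := (h0_mem_range (I := I') _).2 hj'
  refine ⟨δ hS I' 0 u', ((δ_hmapOfLE hS hle u').symm).trans ?_⟩
  have hv : v = (localCohomology I 0).map (injSeq M).g t +
      (Dual2.HmapOfLE hle 0).app (injSeq M).X₃ u' := by
    refine h0_injective ?_
    rw [map_add, h0_map, h0_hmapOfLE, hu']
    exact (add_sub_cancel _ _).symm
  rw [hv, map_add, δ_map_eq_zero]
  exact (zero_add _).symm

theorem hmap_injective_one (hle : I ≤ I') {M : ModuleCat.{u} A} (hC : LocVanish I I' 0 M) :
    Function.Injective ((Dual2.HmapOfLE hle 1).app M).hom := by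
  rw [injective_iff_map_eq_zero]
  intro w hw
  have hS := injSeq_shortExact M
  obtain ⟨v, rfl⟩ := δ_surjective hS 0 w
  obtain ⟨t, ht⟩ := exact₃ (i := 0) hS _ ((δ_hmapOfLE hS hle v).trans hw)
  have hgz : (injSeq M).g (h0 I _ t) = h0 I' _ v := by rw [← h0_map, ht, h0_hmapOfLE]
  obtain ⟨j, -, hj⟩ := torsion_decomp (0 : (injSeq M).X₂ →ₗ[A] (injSeq M).X₂) (injSeq M).g.hom
    (fun _ => map_zero _) I I' (fun p hI hI' x hx hgx => by
      obtain ⟨u, rfl⟩ := exists_h0_eq p x hx
      have hSp := locSeq_shortExact hS p.asIdeal.primeCompl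
      have hu : (localCohomology (IsLocalRing.maximalIdeal (Localization.AtPrime p.asIdeal)) 0).map
          (locSeq p.asIdeal.primeCompl (injSeq M)).g u = 0 :=
        h0_injective ((h0_map _ u).trans (hgx.trans (map_zero _).symm))
      obtain ⟨u₀, rfl⟩ := exact₂ hSp u hu
      refine ⟨0, ⟨0, fun a _ => smul_zero a⟩, ?_⟩
      rw [show u₀ = 0 from (hC p hI hI').elim (u₀ : locH p 0 M) 0]
      simp
      exact (map_zero _).symm)
    (h0 I _ t) ((h0_mem_range _).1 ⟨t, rfl⟩) (by
      obtain ⟨k, hk⟩ := (h0_mem_range (I := I') (h0 I' _ v)).1 ⟨v, rfl⟩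
      exact ⟨k, fun a ha => by rw [show (injSeq M).g.hom (h0 I _ t) = _ from hgz]; exact hk a ha⟩)
  rw [show (0 : (injSeq M).X₂ →ₗ[A] (injSeq M).X₂) j = 0 from rfl, sub_zero] at hj
  obtain ⟨t', ht'⟩ := (h0_mem_range (I := I') (h0 I _ t)).2 hj
  have : (localCohomology I' 0).map (injSeq M).g t' = v := by
    refine h0_injective ?_
    rw [h0_map, ht', hgz]
  rw [← this, δ_map_eq_zero]
  rfl

theorem hmap_injective_two (hle : I ≤ I') {M : ModuleCat.{u} A} (hC : LocVanish I I' 1 M) :
    Function.Injective ((Dual2.HmapOfLE hle 2).app M).hom := by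
  rw [injective_iff_map_eq_zero]
  intro w hw
  let S := injSeq M
  let T := injSeq S.X₃
  have hS : S.ShortExact := injSeq_shortExact M
  have hT : T.ShortExact := injSeq_shortExact S.X₃
  haveI : Module.Injective A S.X₂ := inferInstanceAs (Module.Injective A (injSeq M).X₂)
  obtain ⟨v, rfl⟩ := δ_surjective (S := injSeq M) hS 1 w
  have hv : (Dual2.HmapOfLE hle 1).app S.X₃ v = 0 :=
    δ_injective (S := injSeq M) hS 0 (((δ_hmapOfLE hS hle v).trans hw).trans (map_zero _).symm)
  obtain ⟨u, rfl⟩ := δ_surjective (S := injSeq S.X₃) hT 0 v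
  obtain ⟨t, ht⟩ := exact₃ (i := 0) hT _ ((δ_hmapOfLE hT hle u).trans hv)
  have hgz : T.g (h0 I _ t) = h0 I' _ u := by rw [← h0_map, ht, h0_hmapOfLE]
  obtain ⟨j, -, hj⟩ := torsion_decomp (T.f.hom ∘ₗ S.g.hom) T.g.hom
    (fun j => T.moduleCat_zero_apply _) I I' (fun p hI hI' x hx hgx => by
      obtain ⟨a, rfl⟩ := exists_h0_eq p x hx
      have hSp := locSeq_shortExact hS p.asIdeal.primeCompl
      have hTp := locSeq_shortExact hT p.asIdeal.primeCompl
      have ha : (localCohomology (IsLocalRing.maximalIdeal (Localization.AtPrime p.asIdeal)) 0).map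
          (locSeq p.asIdeal.primeCompl T).g a = 0 :=
        h0_injective ((h0_map _ a).trans (hgx.trans (map_zero _).symm))
      obtain ⟨b, rfl⟩ := exact₂ hTp a ha
      obtain ⟨c, rfl⟩ := exact₃ (i := 0) hSp b ((hC p hI hI').elim (δ hSp _ 0 b : locH p 1 M) 0)
      refine ⟨h0 _ (atPrime p S.X₂) c, h0_torsion p c, ?_⟩
      refine (map_comp_apply' S.g.hom T.f.hom _).trans ?_
      exact ((h0_map (locSeq p.asIdeal.primeCompl T).f _).trans
        (congrArg (locSeq p.asIdeal.primeCompl T).f (h0_map (locSeq p.asIdeal.primeCompl S).g c))).symm)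
    (h0 I _ t) ((h0_mem_range _).1 ⟨t, rfl⟩) (by
      obtain ⟨k, hk⟩ := (h0_mem_range (I := I') (h0 I' _ u)).1 ⟨u, rfl⟩
      exact ⟨k, fun a ha => by rw [show T.g.hom (h0 I _ t) = _ from hgz]; exact hk a ha⟩)
  obtain ⟨t', ht'⟩ := (h0_mem_range (I := I') _).2 hj
  have hu : (localCohomology I' 0).map T.g t' = u := by
    refine h0_injective ?_
    rw [h0_map, ht', map_sub]
    refine (congrArg (_ - ·) (T.moduleCat_zero_apply (S.g j))).trans ?_
    rw [sub_zero]
    exact hgz
  rw [← hu, δ_map_eq_zero hT]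
  exact map_zero _

theorem hmap_surjective (hle : I ≤ I') :
    ∀ (i : ℕ) (M : ModuleCat.{u} A), LocVanish I I' i M →
      Function.Surjective ((Dual2.HmapOfLE hle i).app M).hom
  | 0, _, hC => hmap_surjective_zero hle hC
  | 1, _, hC => hmap_surjective_one hle hC
  | k + 2, M, hC => fun w => by
    have hS := injSeq_shortExact M
    obtain ⟨v, rfl⟩ := δ_surjective hS (k + 1) w
    obtain ⟨v', rfl⟩ := hmap_surjective hle (k + 1) _ (locVanish_shift k hC) v
    exact ⟨δ hS I' (k + 1) v', (δ_hmapOfLE hS hle v').symm⟩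

theorem hmap_injective (hle : I ≤ I') :
    ∀ (i : ℕ) (M : ModuleCat.{u} A), (∀ j, j + 1 = i → LocVanish I I' j M) →
      Function.Injective ((Dual2.HmapOfLE hle i).app M).hom
  | 0, M, _ => hmap_injective_zero hle M
  | 1, _, hC => hmap_injective_one hle (hC 0 rfl)
  | 2, _, hC => hmap_injective_two hle (hC 1 rfl)
  | k + 3, M, hC => by
    rw [injective_iff_map_eq_zero]
    intro w hw
    have hS := injSeq_shortExact M
    obtain ⟨v, rfl⟩ := δ_surjective hS (k + 2) w
    have hv : (Dual2.HmapOfLE hle (k + 2)).app (injSeq M).X₃ v = 0 :=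
      δ_injective hS (k + 1) (((δ_hmapOfLE hS hle v).trans hw).trans (map_zero _).symm)
    have hN := hmap_injective hle (k + 2) (injSeq M).X₃ fun j hj => by
      obtain rfl : j = k + 1 := by omega
      exact locVanish_shift k (hC (k + 2) rfl)
    have := hN (hv.trans (map_zero _).symm)
    rw [this]
    exact map_zero _

end Groth.Agent.LocCohLib
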