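import Groth.Agent.LocCohLib.DualRes
import Mathlib.Algebra.Homology.Embedding.TruncLEHomology
import Mathlib.Algebra.Homology.SingleHomology
import Mathlib.Algebra.Homology.Linear
import Mathlib.Algebra.Homology.ShortComplex.Linear

/-!
# Dévissage of `Hom(X, L)` along the cohomology of `X`
-/

set_option autoImplicit false
set_option linter.style.haveILetI false
set_option linter.unusedVariables false

universe u

open CategoryTheory CategoryTheory.Limits CochainComplex CochainComplex.HomComplex

namespace Groth.Agent.LocCohLib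

variable {S : Type u} [CommRing S]

/-- A property of modules containing zero and closed under exact middle terms. -/
structure MidClosed (Q : ModuleCat.{u} S → Prop) : Prop where
  zero : ∀ A : ModuleCat.{u} S, Subsingleton A → Q A
  mid : ∀ C : ShortComplex (ModuleCat.{u} S), C.Exact → Q C.X₁ → Q C.X₃ → Q C.X₂

theorem MidClosed.iso {Q : ModuleCat.{u} S → Prop} (h : MidClosed Q) {A B : ModuleCat.{u} S} (e : A ≅ B)
    (hA : Q A) : Q B := by
  haveI : Subsingleton (ModuleCat.of S PUnit.{u+1}) := inferInstanceAs (Subsingleton PUnit)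
  exact h.mid (ShortComplex.mk e.hom (0 : B ⟶ ModuleCat.of S PUnit.{u+1}) comp_zero)
    ((ShortComplex.exact_iff_epi _ rfl).2 inferInstance) hA (h.zero _ inferInstance)

theorem exists_X₃_exactAt {C : ShortComplex (MCx S)} (hC : C.ShortExact) (i : ℤ)
    (h₁ : Epi (HomologicalComplex.homologyMap C.f i)) (h₂ : Mono (HomologicalComplex.homologyMap C.f (i + 1))) :
    C.X₃.ExactAt i := by
  rw [HomologicalComplex.exactAt_iff_isZero_homology]
  refine (hC.homology_exact₃ i (i + 1) rfl).isZero_X₂ ?_ ?_
  · exact (cancel_epi (HomologicalComplex.homologyMap C.f i)).1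
      ((HomologicalComplex.homologyMap_comp C.f C.g i).symm.trans
        (by rw [C.zero, HomologicalComplex.homologyMap_zero, comp_zero]))
  · exact (cancel_mono (HomologicalComplex.homologyMap C.f (i + 1))).1
      ((hC.δ_comp i (i + 1) rfl).trans zero_comp.symm)

theorem homCxPre_comp {X Y Z : MCx S} (f : X ⟶ Y) (g : Y ⟶ Z) (L : MCx S) :
    homCxPre g L ≫ homCxPre f L = homCxPre (f ≫ g) L :=
  HomologicalComplex.hom_ext _ _ fun n => ModuleCat.hom_ext (LinearMap.ext fun (z : Cochain Z L n) =>
    Cochain.ext _ _ fun p q h => by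
      refine (homCxPre_apply f L n _ p q h).trans ?_
      refine (congrArg (fun t => f.f p ≫ t) (homCxPre_apply g L n z p q h)).trans ?_
      exact ((Category.assoc _ _ _).symm).trans (homCxPre_apply (f ≫ g) L n z p q h).symm)

theorem homCxPre_id (X L : MCx S) : homCxPre (𝟙 X) L = 𝟙 _ :=
  HomologicalComplex.hom_ext _ _ fun n => ModuleCat.hom_ext (LinearMap.ext fun (z : Cochain X L n) =>
    Cochain.ext _ _ fun p q h => (homCxPre_apply (𝟙 X) L n z p q h).trans (Category.id_comp _))

theorem homCxPre_smul (X L : MCx S) (r : S) : homCxPre (r • 𝟙 X) L = r • 𝟙 _ :=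
  HomologicalComplex.hom_ext _ _ fun n => ModuleCat.hom_ext (LinearMap.ext fun (z : Cochain X L n) =>
    Cochain.ext _ _ fun p q h => (homCxPre_apply (r • 𝟙 X) L n z p q h).trans (by
      show (r • 𝟙 (X.X p)) ≫ z.v p q h = (r • z).v p q h
      rw [Linear.smul_comp, Category.id_comp, Cochain.smul_v]))

/-- Precomposition by an isomorphism. -/
noncomputable def homCxPreIso {X Y : MCx S} (e : X ≅ Y) (L : MCx S) : homCx Y L ≅ homCx X L where
  hom := homCxPre e.hom L
  inv := homCxPre e.inv L
  hom_inv_id := by rw [homCxPre_comp, Iso.inv_hom_id, homCxPre_id]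
  inv_hom_id := by rw [homCxPre_comp, Iso.hom_inv_id, homCxPre_id]

variable {L : MCx S} [∀ q, Injective (L.X q)] [L.IsKInjective] {Q : ModuleCat.{u} S → Prop} (hQ : MidClosed Q)
include hQ

theorem pre_mid {C : ShortComplex (MCx S)} (hC : C.ShortExact) (n : ℤ)
    (h₁ : Q ((homCx C.X₁ L).homology n)) (h₃ : Q ((homCx C.X₃ L).homology n)) :
    Q ((homCx C.X₂ L).homology n) :=
  hQ.mid _ ((homShortPre_shortExact hC L).homology_exact₂ n) h₃ h₁

theorem pre_left {C : ShortComplex (MCx S)} (hC : C.ShortExact) (n : ℤ)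
    (h₂ : Q ((homCx C.X₂ L).homology n)) (h₃ : Q ((homCx C.X₃ L).homology (n + 1))) :
    Q ((homCx C.X₁ L).homology n) :=
  hQ.mid _ ((homShortPre_shortExact hC L).homology_exact₃ n (n + 1) rfl) h₂ h₃

theorem pre_right {C : ShortComplex (MCx S)} (hC : C.ShortExact) (n : ℤ)
    (h₁ : Q ((homCx C.X₁ L).homology (n - 1))) (h₂ : Q ((homCx C.X₂ L).homology n)) :
    Q ((homCx C.X₃ L).homology n) :=
  hQ.mid _ ((homShortPre_shortExact hC L).homology_exact₁ (n - 1) n (by simp)) h₁ h₂

theorem q_of_acyclic {X : MCx S} (hX : X.Acyclic) (n : ℤ) : Q ((homCx X L).homology n) :=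
  hQ.zero _ (subsingleton_homology_of_isKInjective hX n)

theorem iff_of_X₃_acyclic {C : ShortComplex (MCx S)} (hC : C.ShortExact) (h : C.X₃.Acyclic) (n : ℤ) :
    Q ((homCx C.X₁ L).homology n) ↔ Q ((homCx C.X₂ L).homology n) :=
  ⟨fun h₁ => pre_mid hQ hC n h₁ (q_of_acyclic hQ h n), fun h₂ => pre_left hQ hC n h₂ (q_of_acyclic hQ h _)⟩

theorem iff_of_X₁_acyclic {C : ShortComplex (MCx S)} (hC : C.ShortExact) (h : C.X₁.Acyclic) (n : ℤ) :
    Q ((homCx C.X₂ L).homology n) ↔ Q ((homCx C.X₃ L).homology n) :=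
  ⟨fun h₂ => pre_right hQ hC n (q_of_acyclic hQ h _) h₂, fun h₃ => pre_mid hQ hC n (q_of_acyclic hQ h n) h₃⟩

omit [∀ q, Injective (L.X q)] [L.IsKInjective] in
theorem piece_iso {E E' : ModuleCat.{u} S} (e : E ≅ E') (j n : ℤ)
    (h : Q ((homCx (sgl j E) L).homology n)) : Q ((homCx (sgl j E') L).homology n) :=
  hQ.iso ((HomologicalComplex.homologyFunctor _ _ n).mapIso
    (homCxPreIso ((CochainComplex.singleFunctor (ModuleCat.{u} S) j).mapIso e.symm) L)) h

theorem piece_of_isZero {E : ModuleCat.{u} S} (hE : IsZero E) (j n : ℤ) :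
    Q ((homCx (sgl j E) L).homology n) :=
  q_of_acyclic hQ (fun i => HomologicalComplex.ExactAt.of_isZero (by
    by_cases h : i = j
    · subst h
      exact hE.of_iso (HomologicalComplex.singleObjXSelf (ComplexShape.up ℤ) i E)
    · exact subsingleton_sgl E h)) n

/-- A complex with one cohomology module. -/
theorem single_iff (X : MCx S) (j n : ℤ) [X.IsGE j] [X.IsLE j] :
    Q ((homCx X L).homology n) ↔ Q ((homCx (sgl j (X.homology j)) L).homology n) := by
  let A := X.truncLE j
  haveI hι : QuasiIso (X.ιTruncLE j) := inferInstance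
  haveI : QuasiIso (X.shortComplexTruncLE j).f := hι
  have hB : (X.shortComplexTruncLE j).X₃.Acyclic := fun i =>
    exists_X₃_exactAt (X.shortComplexTruncLE_shortExact j) i inferInstance inferInstance
  refine (iff_of_X₃_acyclic hQ (X.shortComplexTruncLE_shortExact j) hB n).symm.trans ?_
  show Q ((homCx A L).homology n) ↔ _
  haveI : A.IsGE j := by
    rw [CochainComplex.isGE_iff]
    intro i hi
    rw [HomologicalComplex.exactAt_iff_isZero_homology]
    exact (X.isZero_of_isGE j i hi).of_iso (asIso (HomologicalComplex.homologyMap (X.ιTruncLE j) i))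
  haveI : A.IsStrictlyLE j := inferInstance
  let Z := A.truncGE j
  haveI : Z.IsStrictlyLE j := (CochainComplex.isStrictlyLE_iff _ _).2 fun i hi =>
    (A.isZero_of_isStrictlyLE j i hi).of_iso (A.truncGEXIso j i hi)
  obtain ⟨Y, ⟨e⟩⟩ := CochainComplex.exists_iso_single Z j
  let C : ShortComplex (MCx S) :=
    ShortComplex.mk (kernel.ι (A.πTruncGE j)) (A.πTruncGE j) (kernel.condition _)
  haveI : Epi (A.πTruncGE j) := inferInstanceAs (Epi (HomologicalComplex.πTruncGE A _))
  have hC : C.ShortExact := { exact := ShortComplex.exact_kernel _ }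
  haveI : QuasiIso C.g := inferInstanceAs (QuasiIso (A.πTruncGE j))
  have hK : C.X₁.Acyclic := fun i => by
    rw [HomologicalComplex.exactAt_iff_isZero_homology]
    have hij : (ComplexShape.up ℤ).Rel (i - 1) i := by simp
    haveI : Mono (HomologicalComplex.homologyMap C.g i) := inferInstance
    haveI : Epi (HomologicalComplex.homologyMap C.g (i - 1)) := inferInstance
    refine (hC.homology_exact₁ (i - 1) i hij).isZero_X₂ ?_ ?_
    · exact (cancel_epi (HomologicalComplex.homologyMap C.g (i - 1))).1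
        ((hC.comp_δ (i - 1) i hij).trans comp_zero.symm)
    · exact (cancel_mono (HomologicalComplex.homologyMap C.g i)).1
        ((HomologicalComplex.homologyMap_comp C.f C.g i).symm.trans
          (by rw [C.zero, HomologicalComplex.homologyMap_zero, zero_comp]))
  refine (iff_of_X₁_acyclic hQ hC hK n).trans ?_
  show Q ((homCx Z L).homology n) ↔ _
  let eY : X.homology j ≅ Y :=
    (asIso (HomologicalComplex.homologyMap (X.ιTruncLE j) j)).symm ≪≫
      asIso (HomologicalComplex.homologyMap (A.πTruncGE j) j) ≪≫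
      (HomologicalComplex.homologyFunctor _ _ j).mapIso e ≪≫
      HomologicalComplex.singleObjHomologySelfIso (ComplexShape.up ℤ) j Y
  have hiff : Q ((homCx Z L).homology n) ↔ Q ((homCx (sgl j Y) L).homology n) :=
    ⟨hQ.iso ((HomologicalComplex.homologyFunctor _ _ n).mapIso (homCxPreIso e L)).symm,
      hQ.iso ((HomologicalComplex.homologyFunctor _ _ n).mapIso (homCxPreIso e L))⟩
  exact hiff.trans ⟨piece_iso hQ eY.symm j n, piece_iso hQ eY j n⟩

omit [∀ q, Injective (L.X q)] [L.IsKInjective] hQ in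
theorem truncLE_split (X : MCx S) (lo : ℤ) :
    (∀ i, lo < i → IsZero ((X.truncLE lo).homology i)) ∧
      (∀ i, i ≤ lo → Nonempty ((X.truncLE lo).homology i ≅ X.homology i)) ∧
      (∀ i, i ≤ lo → IsZero ((X.shortComplexTruncLE lo).X₃.homology i)) ∧
      ∀ i, lo < i → Nonempty ((X.shortComplexTruncLE lo).X₃.homology i ≅ X.homology i) := by
  have h1 : ∀ i, lo < i → IsZero ((X.truncLE lo).homology i) := fun i hi =>
    (X.truncLE lo).isZero_of_isLE lo i hi
  have h2 : ∀ i, i ≤ lo → IsIso (HomologicalComplex.homologyMap (X.shortComplexTruncLE lo).f i) := fun i hi => by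
    haveI := X.quasiIsoAt_ιTruncLE lo i hi
    exact inferInstanceAs (IsIso (HomologicalComplex.homologyMap (X.ιTruncLE lo) i))
  refine ⟨h1, fun i hi => ⟨@asIso _ _ _ _ (HomologicalComplex.homologyMap (X.shortComplexTruncLE lo).f i)
    (h2 i hi)⟩, fun i hi => ?_, fun i hi => ?_⟩
  · rw [← HomologicalComplex.exactAt_iff_isZero_homology]
    haveI := h2 i hi
    refine exists_X₃_exactAt (X.shortComplexTruncLE_shortExact lo) i inferInstance ?_
    by_cases h : i + 1 ≤ lo
    · haveI := h2 (i + 1) h
      infer_instance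
    · exact ⟨fun a b _ => (h1 (i + 1) (by omega)).eq_of_tgt a b⟩
  · haveI := HomologicalComplex.isIso_homologyMap_shortComplexTruncLE_g X (ComplexShape.embeddingUpIntLE lo) i
      fun k hk => by simp at hk; omega
    exact ⟨(asIso (HomologicalComplex.homologyMap (X.shortComplexTruncLE lo).g i)).symm⟩

/-- Dévissage along the cohomology. -/
theorem devissage : ∀ (k : ℕ) (lo : ℤ) (X : MCx S), (∀ i, i < lo ∨ lo + k ≤ i → IsZero (X.homology i)) →
    ∀ n, (∀ j, Q ((homCx (sgl j (X.homology j)) L).homology n)) → Q ((homCx X L).homology n) := by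
  intro k
  induction k with
  | zero =>
    intro lo X hX n _
    exact q_of_acyclic hQ (fun i => (HomologicalComplex.exactAt_iff_isZero_homology _ _).2
      (hX i (by omega))) n
  | succ k ih =>
    intro lo X hX n h
    obtain ⟨hA0, hA, hB0, hB⟩ := truncLE_split X lo
    haveI : (X.truncLE lo).IsGE lo := (CochainComplex.isGE_iff _ _).2 fun i hi => by
      obtain ⟨e⟩ := hA i hi.le
      exact (HomologicalComplex.exactAt_iff_isZero_homology _ _).2 ((hX i (Or.inl hi)).of_iso e)
    refine pre_mid hQ (X.shortComplexTruncLE_shortExact lo) n ?_ (ih (lo + 1) _ (fun i hi => ?_) n fun j => ?_)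
    · refine (single_iff hQ (X.truncLE lo) lo n).2 ?_
      obtain ⟨e⟩ := hA lo le_rfl
      exact piece_iso hQ e.symm lo n (h lo)
    · by_cases hle : i ≤ lo
      · exact hB0 i hle
      · obtain ⟨e⟩ := hB i (by omega)
        exact (hX i (Or.inr (by push_cast; omega))).of_iso e
    · by_cases hle : j ≤ lo
      · exact piece_of_isZero hQ (hB0 j hle) j n
      · obtain ⟨e⟩ := hB j (by omega)
        exact piece_iso hQ e.symm j n (h j)

/-- The piece in total degree `h`, when all others vanish modulo `Q`. -/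
theorem devissage_inv (h : ℤ) : ∀ (k : ℕ) (lo : ℤ) (X : MCx S),
    (∀ i, i < lo ∨ lo + k ≤ i → IsZero (X.homology i)) →
    (∀ j m : ℤ, j + m ≠ h → Q ((homCx (sgl j (X.homology j)) L).homology m)) →
    ∀ n, Q ((homCx X L).homology n) → Q ((homCx (sgl (h - n) (X.homology (h - n))) L).homology n) := by
  intro k
  induction k with
  | zero => exact fun lo X hX _ n _ => piece_of_isZero hQ (hX (h - n) (by omega)) _ _
  | succ k ih =>
    intro lo X hX hoff n hn
    obtain ⟨hA0, hA, hB0, hB⟩ := truncLE_split X lo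
    haveI : (X.truncLE lo).IsGE lo := (CochainComplex.isGE_iff _ _).2 fun i hi => by
      obtain ⟨e⟩ := hA i hi.le
      exact (HomologicalComplex.exactAt_iff_isZero_homology _ _).2 ((hX i (Or.inl hi)).of_iso e)
    have hBz : ∀ i, i < lo + 1 ∨ lo + 1 + (k : ℤ) ≤ i → IsZero ((X.shortComplexTruncLE lo).X₃.homology i) := by
      intro i hi
      by_cases hle : i ≤ lo
      · exact hB0 i hle
      · obtain ⟨e⟩ := hB i (by omega)
        exact (hX i (Or.inr (by push_cast; omega))).of_iso e
    have hoffB : ∀ j m : ℤ, j + m ≠ h →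
        Q ((homCx (sgl j ((X.shortComplexTruncLE lo).X₃.homology j)) L).homology m) := fun j m hjm => by
      by_cases hle : j ≤ lo
      · exact piece_of_isZero hQ (hB0 j hle) j m
      · obtain ⟨e⟩ := hB j (by omega)
        exact piece_iso hQ e.symm j m (hoff j m hjm)
    rcases lt_trichotomy (h - n) lo with hlt | heq | hgt
    · exact piece_of_isZero hQ (hX _ (Or.inl hlt)) _ _
    · rw [heq]
      obtain ⟨e⟩ := hA lo le_rfl
      refine piece_iso hQ e lo n ((single_iff hQ (X.truncLE lo) lo n).1
        (pre_left hQ (X.shortComplexTruncLE_shortExact lo) n hn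
          (devissage hQ k (lo + 1) _ hBz (n + 1) fun j => ?_)))
      by_cases hle : j ≤ lo
      · exact piece_of_isZero hQ (hB0 j hle) _ _
      · exact hoffB j (n + 1) (by omega)
    · obtain ⟨e⟩ := hB (h - n) hgt
      refine piece_iso hQ e (h - n) n (ih (lo + 1) _ hBz hoffB n
        (pre_right hQ (X.shortComplexTruncLE_shortExact lo) n
          ((single_iff hQ (X.truncLE lo) lo (n - 1)).2 ?_) hn))
      obtain ⟨e'⟩ := hA lo le_rfl
      exact piece_iso hQ e'.symm lo (n - 1) (hoff lo (n - 1) (by omega))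

end Groth.Agent.LocCohLib
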