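import Groth.Agent.LocCohLib.DualCriteria
import Groth.Agent.LocCohLib.AnnEasy
import Groth.Agent.LocCohLib.BaseRing
import Groth.Agent.LocCohLib.ExtVanishing
import Groth.Prelude.Def_SGA2
import Mathlib.RingTheory.Length
import Mathlib.RingTheory.Spectrum.Prime.RingHom

/-!
# Finiteness theorems over a quotient of a regular ring
-/

set_option autoImplicit false
set_option linter.style.haveILetI false
set_option linter.unusedVariables false

universe u

open CategoryTheory CategoryTheory.Limits
open scoped TensorProduct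

namespace Groth.Agent.LocCohLib

section Basic

variable {A : Type u} [CommRing A] [IsNoetherianRing A]

/-- `H^l(M_p) = 0` iff `H^l_p(M)` dies at `p`. -/
theorem subsingleton_H_localized_iff (p : PrimeSpectrum A) (M : Type u) [AddCommGroup M] [Module A M] (l : ℕ) :
    Subsingleton (LocCoh.H (IsLocalRing.maximalIdeal (Localization.AtPrime p.asIdeal)) l
      (LocalizedModule p.asIdeal.primeCompl M)) ↔
      Sm p.asIdeal ((localCohomology p.asIdeal l).obj (ModuleCat.of A M)) := by
  let A' := Localization.AtPrime p.asIdeal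
  haveI : IsNoetherianRing A' := IsLocalization.isNoetherianRing p.asIdeal.primeCompl A' inferInstance
  haveI : Module.Flat A A' := IsLocalization.flat A' p.asIdeal.primeCompl
  let H := (localCohomology p.asIdeal l).obj (ModuleCat.of A M)
  obtain ⟨e⟩ := nonempty_tensEquiv (R' := A') p.asIdeal l (ModuleCat.of A M)
  let i : (tens A').obj (ModuleCat.of A M) ≅ ModuleCat.of A' (LocalizedModule p.asIdeal.primeCompl M) :=
    (LocalizedModule.equivTensorProduct p.asIdeal.primeCompl M).symm.toModuleIso
  have hm : p.asIdeal.map (algebraMap A A') = IsLocalRing.maximalIdeal A' :=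
    Localization.AtPrime.map_eq_maximalIdeal
  show Subsingleton ((localCohomology (IsLocalRing.maximalIdeal A') l).obj (ModuleCat.of A' (LocalizedModule p.asIdeal.primeCompl M))) ↔ _
  rw [← hm, ← (((localCohomology (p.asIdeal.map (algebraMap A A')) l).mapIso i).toLinearEquiv).toEquiv.subsingleton_congr,
    ← e.toEquiv.subsingleton_congr]
  show Subsingleton (A' ⊗[A] H) ↔ _
  rw [← (LocalizedModule.equivTensorProduct p.asIdeal.primeCompl H).toEquiv.subsingleton_congr,
    LocalizedModule.subsingleton_iff]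
  rfl

end Basic

section Transfer

variable {S A : Type u} [CommRing S] [IsRegularRing S] [CommRing A] [IsNoetherianRing A] [Algebra S A]
  (hs : Function.Surjective (algebraMap S A))
include hs

theorem ker_le_comap (p : Ideal A) : RingHom.ker (algebraMap S A) ≤ p.comap (algebraMap S A) := fun r hr => by
  rw [Ideal.mem_comap, (RingHom.mem_ker).1 hr]; exact p.zero_mem

theorem exists_comap_eq {T : Ideal S} [T.IsPrime] (hT : RingHom.ker (algebraMap S A) ≤ T) :
    ∃ p : PrimeSpectrum A, p.asIdeal.comap (algebraMap S A) = T := by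
  refine ⟨⟨T.map (algebraMap S A), Ideal.map_isPrime_of_surjective hs hT⟩, ?_⟩
  rw [Ideal.comap_map_of_surjective _ hs, sup_eq_left]
  exact hT

theorem comap_lt {p q : Ideal A} (h : p < q) : p.comap (algebraMap S A) < q.comap (algebraMap S A) :=
  lt_of_le_of_ne (Ideal.comap_mono h.le) fun e => h.ne (Ideal.comap_injective_of_surjective _ hs e)

/-- `ht (q/p)` against the heights in `S`. -/
theorem height_add_le (p : PrimeSpectrum A) : ∀ (n : ℕ) (Q : Ideal (A ⧸ p.asIdeal)) [Q.IsPrime],
    (n : ℕ∞) ≤ Q.height → (p.asIdeal.comap (algebraMap S A)).height + n ≤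
      ((Q.comap (Ideal.Quotient.mk p.asIdeal)).comap (algebraMap S A)).height := by
  intro n
  induction n with
  | zero =>
    intro Q _ _
    rw [Nat.cast_zero, add_zero]
    refine Ideal.height_mono (Ideal.comap_mono fun x hx => ?_)
    rw [Ideal.mem_comap, Ideal.Quotient.eq_zero_iff_mem.2 hx]
    exact Q.zero_mem
  | succ n ih =>
    intro Q _ hn
    have h : ¬ Q.height ≤ n := fun h => by
      have := hn.trans h
      rw [Nat.cast_le] at this
      omega
    rw [Ideal.height_le_iff] at h
    push Not at h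
    obtain ⟨Q', hQ', hlt, hQn⟩ := h
    haveI := hQ'
    rw [Nat.cast_succ, ← add_assoc]
    refine (add_le_add (ih Q' hQn) le_rfl).trans (Ideal.height_add_one_le_of_lt_of_isPrime (comap_lt hs ?_))
    exact lt_of_le_of_ne (Ideal.comap_mono hlt.le)
      fun e => hlt.ne (Ideal.comap_injective_of_surjective _ Ideal.Quotient.mk_surjective e)

theorem le_height_quot (p : PrimeSpectrum A) : ∀ (n : ℕ) (q : PrimeSpectrum A), p.asIdeal ≤ q.asIdeal →
    (q.asIdeal.comap (algebraMap S A)).height = (p.asIdeal.comap (algebraMap S A)).height + n →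
    (n : ℕ∞) ≤ (q.asIdeal.map (Ideal.Quotient.mk p.asIdeal)).height := by
  intro n
  induction n with
  | zero => simp
  | succ n ih =>
    intro q hpq hn
    obtain ⟨d, hd⟩ := ENat.ne_top_iff_exists.1
      (Ideal.height_ne_top (I := p.asIdeal.comap (algebraMap S A)) (Ideal.IsPrime.ne_top inferInstance))
    obtain ⟨R, hR, hpR, hRq, hRh⟩ := exists_isPrime_height_eq_between
      (P := p.asIdeal.comap (algebraMap S A)) (Q := q.asIdeal.comap (algebraMap S A)) (Ideal.comap_mono hpq)
      (n := d + n) (by rw [← hd]; push_cast; exact le_self_add)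
      (by rw [hn, ← hd]; push_cast; exact add_le_add le_rfl le_self_add)
    haveI := hR
    obtain ⟨r, hr⟩ := exists_comap_eq hs ((ker_le_comap hs p.asIdeal).trans hpR)
    have hle : p.asIdeal ≤ r.asIdeal :=
      (Ideal.comap_le_comap_iff_of_surjective _ hs _ _).1 (hpR.trans hr.ge)
    have hle' : r.asIdeal ≤ q.asIdeal :=
      (Ideal.comap_le_comap_iff_of_surjective _ hs _ _).1 (hr.le.trans hRq)
    have hne : r.asIdeal ≠ q.asIdeal := fun e => by
      rw [← hr, e, hn, ← hd, ← Nat.cast_add, Nat.cast_inj] at hRh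
      omega
    have h1 := ih r hle (by rw [hr, hRh, ← hd]; push_cast; rfl)
    haveI := Ideal.map_isPrime_of_surjective (I := r.asIdeal) Ideal.Quotient.mk_surjective
      (by rwa [Ideal.mk_ker] : RingHom.ker (Ideal.Quotient.mk p.asIdeal) ≤ r.asIdeal)
    haveI := Ideal.map_isPrime_of_surjective (I := q.asIdeal) Ideal.Quotient.mk_surjective
      (by rwa [Ideal.mk_ker] : RingHom.ker (Ideal.Quotient.mk p.asIdeal) ≤ q.asIdeal)
    push_cast
    refine (add_le_add h1 le_rfl).trans (Ideal.height_add_one_le_of_lt_of_isPrime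
      (lt_of_le_of_ne (Ideal.map_mono hle') fun e => hne ?_))
    have := congrArg (Ideal.comap (Ideal.Quotient.mk p.asIdeal)) e
    rwa [Ideal.comap_map_of_surjective' _ Ideal.Quotient.mk_surjective,
      Ideal.comap_map_of_surjective' _ Ideal.Quotient.mk_surjective, Ideal.mk_ker,
      sup_eq_left.2 hle, sup_eq_left.2 hpq] at this

/-- Heights in `A/p` are differences of heights in `S`. -/
theorem height_quot_eq (p q : PrimeSpectrum A) (hpq : p.asIdeal ≤ q.asIdeal) {t u : ℕ}
    (ht : (p.asIdeal.comap (algebraMap S A)).height = t) (hu : (q.asIdeal.comap (algebraMap S A)).height = u) :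
    t ≤ u ∧ (q.asIdeal.map (Ideal.Quotient.mk p.asIdeal)).height = ((u - t : ℕ) : ℕ∞) := by
  have htu : t ≤ u := by
    have h := Ideal.height_mono (Ideal.comap_mono (f := algebraMap S A) hpq)
    rw [ht, hu, Nat.cast_le] at h
    exact h
  refine ⟨htu, le_antisymm ?_ (le_height_quot hs p (u - t) q hpq (by
    rw [hu, ht, ← Nat.cast_add, Nat.add_sub_cancel' htu]))⟩
  haveI := Ideal.map_isPrime_of_surjective (I := q.asIdeal) Ideal.Quotient.mk_surjective
    (by rwa [Ideal.mk_ker] : RingHom.ker (Ideal.Quotient.mk p.asIdeal) ≤ q.asIdeal)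
  by_contra hlt
  rw [not_le] at hlt
  have h1 := height_add_le hs p (u - t + 1) (q.asIdeal.map (Ideal.Quotient.mk p.asIdeal))
    (by push_cast; exact Order.add_one_le_of_lt hlt)
  rw [Ideal.comap_map_of_surjective' _ Ideal.Quotient.mk_surjective, Ideal.mk_ker, sup_eq_left.2 hpq, ht, hu,
    ← Nat.cast_add, Nat.cast_le] at h1
  omega

omit [IsRegularRing S] in
theorem nonempty_resEquiv' [IsNoetherianRing S] (a' : Ideal S) (a : Ideal A) (h : a'.map (algebraMap S A) = a)
    (M : ModuleCat.{u} A) (l : ℕ) : Nonempty (((res S A).obj ((localCohomology a l).obj M)) ≃ₗ[S]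
      (localCohomology a' l).obj ((res S A).obj M)) := by
  subst h
  exact nonempty_resEquiv (R' := A) a' l M

omit [IsRegularRing S] [IsNoetherianRing A] hs in
theorem sm_congr {P : Ideal S} {X Y : ModuleCat.{u} S} (e : X ≃ₗ[S] Y) : Sm P X ↔ Sm P Y := by
  constructor
  · intro h y
    obtain ⟨u, hu, hu0⟩ := h (e.symm y)
    exact ⟨u, hu, e.symm.injective (((map_smul e.symm u y).trans hu0).trans (map_zero e.symm).symm)⟩
  · intro h x
    obtain ⟨u, hu, hu0⟩ := h (e x)
    exact ⟨u, hu, e.injective (((map_smul e u x).trans hu0).trans (map_zero e).symm)⟩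

omit [IsRegularRing S] [IsNoetherianRing A] in
theorem sm_res (p : Ideal A) (X : ModuleCat.{u} A) :
    Sm (p.comap (algebraMap S A)) ((res S A).obj X) ↔ Sm p X := by
  constructor
  · intro h x
    obtain ⟨u, hu, hu0⟩ := h x
    exact ⟨algebraMap S A u, hu, hu0⟩
  · intro h x
    obtain ⟨u, hu, hu0⟩ := h x
    obtain ⟨u, rfl⟩ := hs u
    exact ⟨u, hu, hu0⟩

theorem sm_res_iff (p : PrimeSpectrum A) (M : ModuleCat.{u} A) (l : ℕ) :
    Sm (p.asIdeal.comap (algebraMap S A))
      ((localCohomology (p.asIdeal.comap (algebraMap S A)) l).obj ((res S A).obj M)) ↔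
      Sm p.asIdeal ((localCohomology p.asIdeal l).obj M) := by
  obtain ⟨e⟩ := nonempty_resEquiv' hs (p.asIdeal.comap (algebraMap S A)) p.asIdeal
    (Ideal.map_comap_of_surjective _ hs _) M l
  exact (sm_congr e).symm.trans (sm_res hs p.asIdeal _)

/-- The condition under which `H^i_a(M)` is killed by powers of `b`. -/
def GoodPair (E : ℤ → ModuleCat.{u} S) (a b : Ideal S) (i : ℕ) : Prop :=
  ∀ (j : ℤ) (T : PrimeSpectrum S), T ∈ Module.support S (E j) → ¬ b ≤ T.asIdeal → ∀ q : PrimeSpectrum S,
    T.asIdeal ≤ q.asIdeal → a ≤ q.asIdeal → ∀ k : ℕ, j + i = k → q.asIdeal.height ≠ k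

/-- The duals of a finite `A`-module. -/
theorem exists_crit (M : Type u) [AddCommGroup M] [Module A M] [Module.Finite A M] :
    ∃ E : ℤ → ModuleCat.{u} S,
      (∀ (j : ℤ) (T : PrimeSpectrum S), T ∈ Module.support S (E j) →
        ∃ (p : PrimeSpectrum A) (t l : ℕ), p.asIdeal.comap (algebraMap S A) = T.asIdeal ∧
          T.asIdeal.height = t ∧ j + l = t ∧
          ¬ Subsingleton (LocCoh.H (IsLocalRing.maximalIdeal (Localization.AtPrime p.asIdeal)) l
            (LocalizedModule p.asIdeal.primeCompl M))) ∧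
      (∀ (p : PrimeSpectrum A) (t l : ℕ) (j : ℤ), (p.asIdeal.comap (algebraMap S A)).height = t → j + l = t →
        (Subsingleton (LocCoh.H (IsLocalRing.maximalIdeal (Localization.AtPrime p.asIdeal)) l
          (LocalizedModule p.asIdeal.primeCompl M)) ↔
          (⟨p.asIdeal.comap (algebraMap S A), inferInstance⟩ : PrimeSpectrum S) ∉ Module.support S (E j))) ∧
      (∀ (a b : Ideal A) (i : ℕ), GoodPair E (a.comap (algebraMap S A)) (b.comap (algebraMap S A)) i →
        b ≤ (Module.annihilator A (LocCoh.H a i M)).radical) ∧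
      (∀ (a : Ideal A) (i : ℕ), GoodPair E (a.comap (algebraMap S A)) (a.comap (algebraMap S A)) i →
        Module.Finite A (LocCoh.H a i M)) ∧
      ∀ (m : Ideal A) [m.IsMaximal], (∀ Q : Ideal S, Q.IsPrime → Q ≤ m.comap (algebraMap S A)) →
        ∀ (d i : ℕ) (s : S), (m.comap (algebraMap S A)).height = d →
          (∃ k : ℕ, ∀ x : LocCoh.H m i M, algebraMap S A s ^ k • x = 0) →
            ∃ k : ℕ, ∀ e : E ((d : ℤ) - i), s ^ k • e = 0 := by
  let N := (res S A).obj (ModuleCat.of A M)
  haveI : Module.Finite S A := Module.Finite.of_surjective (Algebra.linearMap S A) hs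
  haveI : Module.Finite S N := by
    letI : Module S M := Module.compHom M (algebraMap S A)
    haveI : IsScalarTower S A M := IsScalarTower.of_algebraMap_smul fun _ _ => rfl
    exact (Module.Finite.trans A M : Module.Finite S M)
  obtain ⟨E, hfin, hkl, hsm, hfinite, hnn, hloc⟩ := exists_dual N
  have hM : ∀ (a : Ideal A) (i : ℕ), Nonempty (((res S A).obj ((localCohomology a i).obj (ModuleCat.of A M))) ≃ₗ[S]
      (localCohomology (a.comap (algebraMap S A)) i).obj N) := fun a i =>
    nonempty_resEquiv' hs _ a (Ideal.map_comap_of_surjective _ hs _) (ModuleCat.of A M) i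
  refine ⟨E, fun j T hT => ?_, fun p t l j ht hl => ?_, fun a b i h => ?_, fun a i h => ?_,
    fun m hm hlocal d i s hd hk => ?_⟩
  · haveI := T.2
    haveI := hfin j
    obtain ⟨t, ht⟩ := ENat.ne_top_iff_exists.1
      (Ideal.height_ne_top (I := T.asIdeal) (Ideal.IsPrime.ne_top inferInstance))
    have hjt := hnn T t j ht.symm hT
    obtain ⟨l, hl⟩ := Int.eq_ofNat_of_zero_le (sub_nonneg.2 hjt)
    have hns : ¬ Sm T.asIdeal ((localCohomology T.asIdeal l).obj N) := fun h =>
      ((hsm T t l ht.symm).1 h) (by rwa [show (t : ℤ) - l = j by omega])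
    have hkT : RingHom.ker (algebraMap S A) ≤ T.asIdeal := by
      intro r hr
      by_contra hrT
      refine hns fun x => ⟨r, hrT, ?_⟩
      have h0 : r • 𝟙 N = 0 := ModuleCat.hom_ext (LinearMap.ext fun (x : M) => by
        show (algebraMap S A r) • x = 0
        rw [(RingHom.mem_ker).1 hr, zero_smul])
      obtain ⟨n, y, rfl⟩ := exists_cl x
      rw [← map_smul]
      refine (congrArg _ ?_).trans (map_zero (cl T.asIdeal l N n))
      have h1 : r • y = y.comp (CategoryTheory.Abelian.Ext.mk₀ (r • 𝟙 N)) (add_zero l) := by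
        simp [CategoryTheory.Abelian.Ext.mk₀_smul]
      rw [h1, h0]
      simp
    obtain ⟨p, hp⟩ := exists_comap_eq hs hkT
    refine ⟨p, t, l, hp, ht.symm, by omega, fun hsub => hns ?_⟩
    rw [subsingleton_H_localized_iff] at hsub
    rw [← hp]
    exact (sm_res_iff hs p (ModuleCat.of A M) l).2 hsub
  · rw [subsingleton_H_localized_iff, ← sm_res_iff hs p (ModuleCat.of A M) l,
      show j = (t : ℤ) - l by omega]
    exact hsm ⟨p.asIdeal.comap (algebraMap S A), inferInstance⟩ t l ht
  · intro c hc
    obtain ⟨c, rfl⟩ := hs c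
    obtain ⟨k, hk⟩ := hkl (a.comap (algebraMap S A)) c i fun j T hT hcT q hTq haq =>
      h j T hT (fun hb => hcT (hb hc)) q hTq haq
    refine ⟨k, Module.mem_annihilator.2 fun x => ?_⟩
    obtain ⟨e⟩ := hM a i
    rw [← map_pow]
    let x' : (res S A).obj ((localCohomology a i).obj (ModuleCat.of A M)) := x
    have h0 : c ^ k • x' = 0 := e.injective (((map_smul e (c ^ k) x').trans (hk (e x'))).trans (map_zero e).symm)
    exact h0
  · haveI := hfinite (a.comap (algebraMap S A)) i h
    obtain ⟨e⟩ := hM a i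
    haveI : Module.Finite S ((res S A).obj ((localCohomology a i).obj (ModuleCat.of A M))) :=
      Module.Finite.equiv e.symm
    letI : Module S (LocCoh.H a i M) := Module.compHom _ (algebraMap S A)
    haveI : IsScalarTower S A (LocCoh.H a i M) := IsScalarTower.of_algebraMap_smul fun _ _ => rfl
    haveI : Module.Finite S (LocCoh.H a i M) :=
      (inferInstance : Module.Finite S ((res S A).obj ((localCohomology a i).obj (ModuleCat.of A M))))
    exact Module.Finite.of_restrictScalars_finite S A (LocCoh.H a i M)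
  · obtain ⟨k, hk⟩ := hk
    haveI := Ideal.comap_isMaximal_of_surjective (algebraMap S A) hs (K := m)
    obtain ⟨e⟩ := hM m i
    refine hloc (m.comap (algebraMap S A)) hlocal d i s hd ⟨k, fun x => ?_⟩
    obtain ⟨x, rfl⟩ := e.surjective x
    refine ((map_smul e (s ^ k) x).symm.trans (congrArg e ?_)).trans (map_zero e)
    show algebraMap S A (s ^ k) • (x : LocCoh.H m i M) = 0
    rw [map_pow]
    exact hk x

end Transfer

end Groth.Agent.LocCohLib
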