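import Groth.Agent.LocCohLib.Artinian
import Groth.Agent.DepthLib.CohenMacaulay
import Mathlib.RingTheory.KrullDimension.Regular

/-!
# Grothendieck's non-vanishing theorem
-/

set_option autoImplicit false
set_option linter.style.haveILetI false

universe u

open CategoryTheory CategoryTheory.Limits Pointwise

namespace Groth.Agent.LocCohLib

variable {R : Type u} [CommRing R] [IsNoetherianRing R] [IsLocalRing R]

local notation "𝔪" => IsLocalRing.maximalIdeal R

theorem support_torsionSub_subset (M : Type u) [AddCommGroup M] [Module R M] :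
    Module.support R (DRing.torsionSub 𝔪 M) ⊆ {IsLocalRing.closedPoint R} := fun p hp => by
  obtain ⟨x, hx⟩ := Module.mem_support_iff'.1 hp
  obtain ⟨k, hk⟩ := x.2
  refine PrimeSpectrum.ext ((IsLocalRing.maximalIdeal.isMaximal R).eq_of_le p.2.ne_top fun a ha => ?_).symm
  refine p.2.mem_of_pow_mem k (by_contra fun h => hx _ h (Subtype.ext (hk _ (Ideal.pow_mem_pow ha k))))

theorem support_torSeq_X₃ (M : ModuleCat.{u} R) {d : ℕ} (hd : Module.supportDim R M = (d + 1 : ℕ)) :
    Module.support R (torSeq 𝔪 M).X₃ = Module.support R M := by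
  let q : M →ₗ[R] (M ⧸ DRing.torsionSub 𝔪 M) := (DRing.torsionSub 𝔪 M).mkQ
  have hex : Function.Exact (DRing.torsionSub 𝔪 M).subtype q := LinearMap.exact_subtype_mkQ _
  have hu : Module.support R M = Module.support R (DRing.torsionSub 𝔪 M) ∪
      Module.support R (M ⧸ DRing.torsionSub 𝔪 M) :=
    Module.support_of_exact hex Subtype.val_injective (Submodule.mkQ_surjective _)
  show Module.support R (M ⧸ DRing.torsionSub 𝔪 M) = _
  refine subset_antisymm (hu ▸ Set.subset_union_right) fun p hp => ?_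
  rw [hu] at hp
  rcases hp with hp | hp
  · obtain rfl := support_torsionSub_subset M hp
    by_contra hc
    have he : Module.support R (M ⧸ DRing.torsionSub 𝔪 M) = ∅ :=
      Set.eq_empty_iff_forall_notMem.2 fun q hq =>
        hc (Module.mem_support_mono (p := q) (IsLocalRing.le_maximalIdeal q.2.ne_top) hq)
    rw [he, Set.union_empty] at hu
    haveI : Subsingleton (Module.support R M) := ⟨fun a b => Subtype.ext
      ((support_torsionSub_subset M (hu ▸ a.2)).trans (support_torsionSub_subset M (hu ▸ b.2)).symm)⟩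
    have h0 : Module.supportDim R M ≤ 0 := Order.krullDim_nonpos_of_subsingleton
    rw [hd] at h0
    exact absurd h0 (not_le.2 (by exact_mod_cast Nat.succ_pos d))
  · exact hp

/-- `m^k H` is constant for large `k`, and some regular element acts surjectively on it. -/
theorem exists_regular_surjective {N : Type u} [AddCommGroup N] [Module R N] [Module.Finite R N]
    (hN : DRing.torsionSub 𝔪 N = ⊥) (T : Type u) [AddCommGroup T] [Module R T] [IsArtinian R T] :
    ∃ (k : ℕ) (y : R), y ∈ 𝔪 ∧ IsSMulRegular N y ∧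
      ∀ a ∈ 𝔪 ^ k, ∀ t : T, ∃ t', a • t = y • t' := by
  obtain ⟨k₀, hk₀⟩ := IsArtinian.monotone_stabilizes (R := R) (M := T)
    ⟨fun k => OrderDual.toDual ((𝔪 ^ k) • (⊤ : Submodule R T)), fun a b h => by
      show (𝔪 ^ b) • (⊤ : Submodule R T) ≤ (𝔪 ^ a) • ⊤
      exact Submodule.smul_mono_left (Ideal.pow_le_pow_right h)⟩
  let H₀ : Submodule R T := (𝔪 ^ k₀) • ⊤
  have hH₀ : ∀ K : ℕ, H₀ = (𝔪 ^ K) • H₀ := fun K => by
    rw [← Submodule.smul_assoc, smul_eq_mul, ← pow_add]
    exact hk₀ (K + k₀) (Nat.le_add_left _ _)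
  obtain ⟨s, hsf, hs, hsup⟩ := exists_sumIrred_decomp H₀
  let good : Set (Submodule R T) := {A ∈ s | A.annihilator.radical ≠ 𝔪}
  have hbad : ∃ K : ℕ, ∀ A ∈ s, A ∉ good → 𝔪 ^ K ≤ A.annihilator := by
    choose e he using fun A : {A // A ∈ s ∧ A ∉ good} =>
      Ideal.exists_pow_le_of_le_radical_of_fg
        (show 𝔪 ≤ A.1.annihilator.radical from (not_not.1 fun h => A.2.2 ⟨A.2.1, h⟩).ge)
        (IsNoetherian.noetherian 𝔪)
    haveI : Finite {A // A ∈ s ∧ A ∉ good} := (hsf.subset fun A hA => hA.1).to_subtype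
    obtain ⟨K, hK⟩ := (Set.finite_range e).bddAbove
    exact ⟨K, fun A hA hA' => (Ideal.pow_le_pow_right (hK ⟨⟨A, hA, hA'⟩, rfl⟩)).trans (he ⟨A, hA, hA'⟩)⟩
  obtain ⟨K, hK⟩ := hbad
  have hgood : H₀ ≤ sSup good := by
    rw [hH₀ K, ← hsup, sSup_eq_iSup, Submodule.smul_iSup]
    refine iSup_le fun A => ?_
    rw [Submodule.smul_iSup]
    refine iSup_le fun hA => ?_
    by_cases hg : A ∈ good
    · exact Submodule.smul_le_right.trans (le_sSup hg)
    · refine Submodule.smul_le.2 fun r hr n hn => ?_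
      rw [Submodule.mem_annihilator.1 (hK A hA hg hr) n hn]
      exact zero_mem _
  let primes : Set (Ideal R) := associatedPrimes R N ∪ (fun A => A.annihilator.radical) '' good
  have hfin : primes.Finite := (associatedPrimes.finite R N).union ((hsf.subset fun A hA => hA.1).image _)
  have hprime : ∀ P ∈ primes, P.IsPrime ∧ ¬ 𝔪 ≤ P := by
    rintro P (hP | ⟨A, hA, rfl⟩)
    · refine ⟨IsAssociatedPrime.isPrime hP, ?_⟩
      obtain ⟨x, hx, hreg⟩ := exists_regular_of_torsionSub_eq_bot 𝔪 hN
      intro hle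
      have : x ∈ ⋃ q ∈ associatedPrimes R N, (q : Set R) := Set.mem_biUnion hP (hle hx)
      rw [biUnion_associatedPrimes_eq_compl_regular] at this
      exact this hreg
    · refine ⟨(hs A hA.1).isPrime, fun hle => hA.2 ?_⟩
      exact ((IsLocalRing.maximalIdeal.isMaximal R).eq_of_le (hs A hA.1).isPrime.ne_top hle).symm
  obtain ⟨x, hx, hx'⟩ : ∃ x ∈ 𝔪, ∀ P ∈ primes, x ∉ P := by
    by_contra hne
    push Not at hne
    have hsub : ((𝔪 : Ideal R) : Set R) ⊆ ⋃ P ∈ primes, (P : Set R) := fun x hx => by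
      obtain ⟨P, hP, hxP⟩ := hne x hx
      exact Set.mem_biUnion hP hxP
    obtain ⟨P, hP, hle⟩ :=
      (Ideal.subset_union_prime_finite hfin ⊥ ⊥ fun P hP _ _ => (hprime P hP).1).mp hsub
    exact (hprime P hP).2 hle
  have hreg : IsSMulRegular N x := by
    by_contra h
    have : x ∈ ⋃ q ∈ associatedPrimes R N, (q : Set R) := by
      rw [biUnion_associatedPrimes_eq_compl_regular]; exact h
    obtain ⟨P, hP, hxP⟩ := Set.mem_iUnion₂.1 this
    exact hx' P (Or.inl hP) hxP
  have hsurj : H₀ ≤ H₀.map (LinearMap.lsmul R T x) := hgood.trans (sSup_le fun A hA =>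
    (((hs A hA.1).dichotomy x).resolve_right fun h => hx' _ (Or.inr ⟨A, hA, rfl⟩) h).trans
      (Submodule.map_mono (hsup ▸ le_sSup hA.1)))
  have hiter : ∀ j : ℕ, ∀ h ∈ H₀, ∃ h' ∈ H₀, x ^ j • h' = h := by
    intro j
    induction j with
    | zero => exact fun h hh => ⟨h, hh, by rw [pow_zero, one_smul]⟩
    | succ j ih =>
      intro h hh
      obtain ⟨h₁, hh₁, rfl⟩ := ih h hh
      obtain ⟨h₂, hh₂, rfl⟩ := hsurj hh₁
      exact ⟨h₂, hh₂, by rw [LinearMap.lsmul_apply, smul_smul, pow_succ]⟩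
  refine ⟨k₀, x ^ (k₀ + 1), Ideal.pow_mem_of_mem 𝔪 hx _ (Nat.succ_pos k₀), hreg.pow _, fun a ha t => ?_⟩
  obtain ⟨t', -, ht'⟩ := hiter (k₀ + 1) (a • t) (Submodule.smul_mem_smul ha trivial)
  exact ⟨t', ht'.symm⟩

/-- `H^{d}_m(M)` is not killed by any power of `m`, `d = dim M ≥ 1`. -/
theorem exists_smul_ne_zero : ∀ (d : ℕ) (M : ModuleCat.{u} R) [Module.Finite R M],
    Module.supportDim R M = (d + 1 : ℕ) → ∀ j : ℕ,
    ∃ a ∈ 𝔪 ^ j, ∃ z : (localCohomology 𝔪 (d + 1)).obj M, a • z ≠ 0 := by
  intro d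
  induction d using Nat.strong_induction_on with
  | _ d ih =>
    intro M _ hd j
    by_contra hne
    push Not at hne
    let N : ModuleCat.{u} R := (torSeq 𝔪 M).X₃
    haveI : Module.Finite R N := Module.Finite.quotient R (DRing.torsionSub 𝔪 M)
    have hN : DRing.torsionSub 𝔪 N = ⊥ := torsionSub_quotient_eq_bot 𝔪 M
    have hNd : Module.supportDim R N = (d + 1 : ℕ) := by
      rw [← hd, Module.supportDim, Module.supportDim, support_torSeq_X₃ M hd]
    have hbd : ∀ a ∈ 𝔪 ^ j, ∀ z : (localCohomology 𝔪 (d + 1)).obj N, a • z = 0 := fun a ha z => by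
      obtain ⟨v, rfl⟩ := exact₃ (torSeq_shortExact 𝔪 M) z
        ((subsingleton_of_isPowerTorsion (d + 1) (torSeq 𝔪 M).X₁ (isPowerTorsion_torsionSub 𝔪 M)).elim _ _)
      exact ((map_smul _ a v).symm.trans (congrArg _ (hne a ha v))).trans (map_zero _)
    haveI : IsArtinian R ((localCohomology 𝔪 d).obj N) := isArtinian_H d N
    obtain ⟨k, y, hy, hreg, hmul⟩ := exists_regular_surjective (N := N) hN ((localCohomology 𝔪 d).obj N)
    cases d with
    | zero =>
      haveI hN0 : Subsingleton ((localCohomology 𝔪 0).obj N) := (subsingleton_h0_iff N).2 hN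
      have hy1 : y ^ (j + 1) ∈ 𝔪 := Ideal.pow_mem_of_mem 𝔪 hy _ (Nat.succ_pos j)
      have hS := mulSeq_shortExact (M := N) (x := y ^ (j + 1)) (hreg.pow _)
      haveI : Module.Finite R (mulSeq (y ^ (j + 1)) N).X₃ := Module.Finite.quotient R _
      have hQ : Module.supportDim R (mulSeq (y ^ (j + 1)) N).X₃ = 0 := by
        have h1 := Module.supportDim_quotSMulTop_succ_eq_supportDim_mem_jacobson (R := R) (M := N)
          (hreg.pow (j + 1)) (IsLocalRing.maximalIdeal_le_jacobson _ hy1)
        rw [hNd] at h1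
        exact DepthLib.withBot_add_one_cancel h1
      have hsupp := support_of_supportDim_eq_zero (R := R) (N := (mulSeq (y ^ (j + 1)) N).X₃) hQ
      rw [Module.support_eq_zeroLocus] at hsupp
      obtain ⟨e, he⟩ := Ideal.exists_pow_le_of_le_radical_of_fg
        ((PrimeSpectrum.zeroLocus_subset_zeroLocus_iff _ _).1 hsupp.subset) (IsNoetherian.noetherian 𝔪)
      have hdiv : ∀ n : N, n ∈ 𝔪 • (⊤ : Submodule R N) := fun n => by
        obtain ⟨z, hz⟩ := (h0_mem_range (I := 𝔪) ((mulSeq (y ^ (j + 1)) N).g n)).2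
          ⟨e, fun a ha => Module.mem_annihilator.1 (he ha) _⟩
        obtain ⟨v, hv⟩ := exact₃ hS (y ^ j • z)
          ((map_smul _ _ _).trans (hbd _ (Ideal.pow_mem_pow hy j) (δ hS 𝔪 0 z)))
        replace hv := (((congrArg _ (hN0.elim v 0)).trans (map_zero _)).symm.trans hv)
        have h2 : (mulSeq (y ^ (j + 1)) N).g (y ^ j • n) = 0 := by
          refine (map_smul (mulSeq (y ^ (j + 1)) N).g.hom _ n).trans ?_
          refine (congrArg (y ^ j • ·) hz.symm).trans ?_
          refine (map_smul (h0 𝔪 _) _ _).symm.trans ?_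
          rw [← hv, map_zero]
        obtain ⟨n', -, hn'⟩ := (Submodule.Quotient.mk_eq_zero _).1 h2
        have h3 : y • n' = n := hreg.pow j (by
          show y ^ j • y • n' = y ^ j • n
          rw [smul_smul, ← pow_succ]; exact hn')
        exact h3 ▸ Submodule.smul_mem_smul hy trivial
      haveI : Nontrivial N := (Module.supportDim_ne_bot_iff_nontrivial R N).1 (by rw [hNd]; simp)
      exact DepthLib.maximalIdeal_smul_top_ne_top (top_le_iff.1 fun n _ => hdiv n)
    | succ d =>
      have hS := mulSeq_shortExact (M := N) hreg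
      haveI : Module.Finite R (mulSeq y N).X₃ := Module.Finite.quotient R _
      have hQ : Module.supportDim R (mulSeq y N).X₃ = (d + 1 : ℕ) := by
        have h1 := Module.supportDim_quotSMulTop_succ_eq_supportDim_mem_jacobson (R := R) (M := N)
          hreg (IsLocalRing.maximalIdeal_le_jacobson _ hy)
        rw [hNd, Nat.cast_succ] at h1
        exact DepthLib.withBot_add_one_cancel h1
      obtain ⟨c, hc, z, hz⟩ := ih d (Nat.lt_succ_self d) (mulSeq y N).X₃ hQ (k + j)
      apply hz
      rw [pow_add] at hc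
      refine Submodule.mul_induction_on hc (fun a ha b hb => ?_) fun p q hp hq => by
        rw [add_smul, hp, hq, add_zero]
      obtain ⟨v, hv⟩ := exact₃ hS (b • z) ((map_smul _ _ _).trans (hbd b hb _))
      obtain ⟨t, ht⟩ := hmul a ha v
      rw [mul_smul, ← hv]
      refine ((map_smul ((localCohomology 𝔪 (d + 1)).map (mulSeq y N).g).hom a v).symm.trans
        (congrArg _ ht)).trans ?_
      exact (congrArg ((localCohomology 𝔪 (d + 1)).map (mulSeq y N).g) (ker_lsmul_map y t).symm).trans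
        (map_map_eq_zero (S := mulSeq y N) t)

/-- Grothendieck's non-vanishing theorem. -/
theorem nontrivial_H_supportDim (M : ModuleCat.{u} R) [Module.Finite R M] (d : ℕ)
    (hd : Module.supportDim R M = d) : Nontrivial ((localCohomology 𝔪 d).obj M) := by
  cases d with
  | succ d =>
    obtain ⟨a, -, z, hz⟩ := exists_smul_ne_zero d M hd 0
    exact nontrivial_of_ne z 0 fun h => hz (by rw [h, smul_zero])
  | zero =>
    haveI : Nontrivial M := (Module.supportDim_ne_bot_iff_nontrivial R M).1 (by rw [hd]; simp)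
    have hsupp := support_of_supportDim_eq_zero (R := R) (N := M) hd
    rw [Module.support_eq_zeroLocus] at hsupp
    obtain ⟨e, he⟩ := Ideal.exists_pow_le_of_le_radical_of_fg
      ((PrimeSpectrum.zeroLocus_subset_zeroLocus_iff _ _).1 hsupp.subset) (IsNoetherian.noetherian 𝔪)
    obtain ⟨x, hx⟩ := exists_ne (0 : M)
    obtain ⟨z, hz⟩ := (h0_mem_range (I := 𝔪) x).2 ⟨e, fun a ha => Module.mem_annihilator.1 (he ha) _⟩
    exact nontrivial_of_ne z 0 fun h => hx (by rw [← hz, h, map_zero])

end Groth.Agent.LocCohLib
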