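import Groth.Agent.LocCohLib.CdLE
import Groth.Agent.LocCohLib.NonVanishing
import Groth.Agent.LocCohLib.Bridge

/-!
# Annihilation and finiteness of local cohomology
-/

set_option autoImplicit false
set_option linter.style.haveILetI false
set_option linter.unusedVariables false

universe u

open CategoryTheory CategoryTheory.Limits
open scoped TensorProduct Pointwise

namespace Groth.Agent.LocCohLib

variable {R : Type u} [CommRing R] [IsNoetherianRing R]

/-- Some power of `I` kills `H^i_I(M)`. -/
def Killed (I : Ideal R) (i : ℕ) (M : ModuleCat.{u} R) : Prop :=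
  ∃ k : ℕ, ∀ a ∈ I ^ k, ∀ z : (localCohomology I i).obj M, a • z = 0

variable {I : Ideal R}

theorem killed_of_finite {i : ℕ} {M : ModuleCat.{u} R}
    (h : Module.Finite R ((localCohomology I i).obj M)) : Killed I i M := by
  obtain ⟨k, hk⟩ := exists_pow_le_annihilator_of_fg (isPowerTorsion_H (I := I) i M)
    (W := (⊤ : Submodule R ((localCohomology I i).obj M))) h.fg_top
  exact ⟨k, fun a ha z => Submodule.mem_annihilator.1 (hk ha) z trivial⟩

theorem finite_H_zero (I : Ideal R) (M : ModuleCat.{u} R) [Module.Finite R M] :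
    Module.Finite R ((localCohomology I 0).obj M) :=
  haveI : Module.Finite R (DRing.torsionSub I M) := Module.Finite.iff_fg.2 (IsNoetherian.noetherian _)
  Module.Finite.equiv (h0Equiv I M).symm

/-- Higher local cohomology ignores torsion. -/
theorem bijective_map_torSeq_g (I : Ideal R) (i : ℕ) (M : ModuleCat.{u} R) :
    Function.Bijective ((localCohomology I (i + 1)).map (torSeq I M).g).hom := by
  have hS := torSeq_shortExact I M
  refine ⟨(injective_iff_map_eq_zero _).2 fun w hw => ?_, fun w => exact₃ hS w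
    ((subsingleton_of_isPowerTorsion (i + 1) (torSeq I M).X₁ (isPowerTorsion_torsionSub I M)).elim _ _)⟩
  obtain ⟨v, rfl⟩ := exact₂ hS w hw
  rw [(subsingleton_of_isPowerTorsion i (torSeq I M).X₁ (isPowerTorsion_torsionSub I M)).elim v 0]
  exact map_zero _

/-- If all `H^i`, `i ≤ n`, are killed by powers of `I`, they are finite. -/
theorem finite_of_killed : ∀ (n : ℕ) (M : ModuleCat.{u} R) [Module.Finite R M],
    (∀ i, i ≤ n → Killed I i M) → Module.Finite R ((localCohomology I n).obj M) := by
  intro n
  induction n with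
  | zero => exact fun M _ _ => finite_H_zero I M
  | succ n ih =>
    intro M _ hM
    let Q := (torSeq I M).X₃
    haveI : Module.Finite R (M ⧸ DRing.torsionSub I M) := Module.Finite.quotient R _
    haveI : Module.Finite R Q := Module.Finite.quotient R (DRing.torsionSub I M)
    obtain ⟨x, hx, hreg⟩ := exists_regular_of_torsionSub_eq_bot I (torsionSub_quotient_eq_bot I M)
    have hQ : ∀ i, i ≤ n + 1 → Killed I i Q := fun i hi => by
      cases i with
      | zero => exact killed_of_finite (finite_H_zero I Q)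
      | succ i =>
        obtain ⟨k, hk⟩ := hM (i + 1) hi
        refine ⟨k, fun a ha z => ?_⟩
        obtain ⟨w, rfl⟩ := (bijective_map_torSeq_g I i M).2 z
        exact (map_smul _ a w).symm.trans ((congrArg _ (hk a ha w)).trans (map_zero _))
    obtain ⟨k, hk⟩ := hQ (n + 1) le_rfl
    have hS := mulSeq_shortExact (M := Q) (hreg.pow k)
    haveI : Module.Finite R (mulSeq (x ^ k) Q).X₃ := Module.Finite.quotient R _
    have hC : ∀ i, i ≤ n → Killed I i (mulSeq (x ^ k) Q).X₃ := fun i hi => by
      obtain ⟨k₁, h₁⟩ := hQ i (by omega)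
      obtain ⟨k₂, h₂⟩ := hQ (i + 1) (by omega)
      refine ⟨k₁ + k₂, fun a ha z => ?_⟩
      rw [pow_add] at ha
      refine Submodule.mul_induction_on ha (fun a ha b hb => ?_) fun p q hp hq => by
        rw [add_smul, hp, hq, add_zero]
      obtain ⟨v, hv⟩ := exact₃ hS (b • z) ((map_smul _ _ _).trans (h₂ b hb _))
      rw [mul_smul, ← hv]
      exact ((map_smul ((localCohomology I i).map (mulSeq (x ^ k) Q).g).hom a v).symm.trans
        (congrArg _ (h₁ a ha v))).trans (map_zero _)
    haveI := ih (mulSeq (x ^ k) Q).X₃ hC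
    haveI : Module.Finite R ((localCohomology I (n + 1)).obj Q) :=
      Module.Finite.of_surjective (δ hS I n) fun w => exact₁ hS w
        ((ker_lsmul_map (x ^ k) w).trans (hk _ (Ideal.pow_mem_pow hx k) w))
    exact Module.Finite.equiv
      (LinearEquiv.ofBijective ((localCohomology I (n + 1)).map (torSeq I M).g).hom
        (bijective_map_torSeq_g I n M)).symm

theorem finite_iff_annihilated (I : Ideal R) (M : ModuleCat.{u} R) [Module.Finite R M] (n : ℕ) :
    (∀ i : ℕ, i ≤ n → Module.Finite R ((localCohomology I i).obj M)) ↔ ∃ J : Ideal R, I ≤ J.radical ∧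
      ∀ i : ℕ, i ≤ n → ∀ a ∈ J, ∀ x : (localCohomology I i).obj M, a • x = 0 := by
  constructor
  · intro h
    choose k hk using fun i : Finset.range (n + 1) =>
      killed_of_finite (h i.1 (Nat.lt_succ_iff.1 (Finset.mem_range.1 i.2)))
    let K := ∑ i, k i
    refine ⟨I ^ K, fun a ha => ⟨K, Ideal.pow_mem_pow ha K⟩, fun i hi a ha x => ?_⟩
    have hmem : i ∈ Finset.range (n + 1) := Finset.mem_range.2 (Nat.lt_succ_of_le hi)
    exact hk ⟨i, hmem⟩ a (Ideal.pow_le_pow_right
      (Finset.single_le_sum (fun j _ => Nat.zero_le (k j)) (Finset.mem_univ _)) ha) x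
  · rintro ⟨J, hJ, hk⟩ i hi
    obtain ⟨e, he⟩ := Ideal.exists_pow_le_of_le_radical_of_fg hJ (IsNoetherian.noetherian I)
    exact finite_of_killed i M fun j hj => ⟨e, fun a ha z => hk j (hj.trans hi) a (he ha) z⟩

/-! ### Local finiteness -/

theorem isPowerTorsion_localized {i : ℕ} {M : ModuleCat.{u} R} (p : Ideal R) [p.IsPrime]
    (hfin : Module.Finite (Localization.AtPrime p)
      (LocalizedModule p.primeCompl ((localCohomology I i).obj M))) :
    ∃ k : ℕ, ∀ a ∈ I ^ k, ∀ z : (localCohomology I i).obj M, ∃ s ∉ p, s • a • z = 0 := by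
  classical
  obtain ⟨t, ht⟩ := hfin.fg_top
  have hrep : ∀ y : LocalizedModule p.primeCompl ((localCohomology I i).obj M),
      ∃ (z : (localCohomology I i).obj M) (s : p.primeCompl), y = LocalizedModule.mk z s :=
    fun y => LocalizedModule.induction_on (fun z s => ⟨z, s, rfl⟩) y
  choose zf sf hf using hrep
  obtain ⟨k, hk⟩ := exists_pow_le_annihilator_of_fg (isPowerTorsion_H (I := I) i M)
    (W := Submodule.span R (t.image zf : Set _)) ⟨_, rfl⟩
  refine ⟨k, fun a ha z => ?_⟩
  have : a • LocalizedModule.mk z (1 : p.primeCompl) = 0 := by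
    have hall : ∀ y ∈ Submodule.span (Localization.AtPrime p) (t : Set (LocalizedModule p.primeCompl
        ((localCohomology I i).obj M))), a • y = 0 := by
      intro y hy
      induction hy using Submodule.span_induction with
      | mem y hy =>
        rw [hf y, LocalizedModule.smul'_mk,
          Submodule.mem_annihilator.1 (hk ha) _ (Submodule.subset_span (Finset.mem_image_of_mem zf hy)),
          LocalizedModule.zero_mk]
      | zero => exact smul_zero a
      | add y y' _ _ h h' => rw [smul_add, h, h', add_zero]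
      | smul c y _ h => rw [smul_comm, h, smul_zero]
    exact hall _ (by rw [ht]; trivial)
  rw [LocalizedModule.smul'_mk] at this
  obtain ⟨c, hc⟩ := LocalizedModule.mk_eq.1 (this.trans (LocalizedModule.zero_mk (1 : p.primeCompl)).symm)
  refine ⟨c, c.2, ?_⟩
  have h2 : (c : R) • ((1 : R) • a • z) = (c : R) • ((1 : R) • (0 : (localCohomology I i).obj M)) := hc
  rwa [one_smul, one_smul, smul_zero] at h2

/-- All `H^i`, `i ≤ n`, locally killed by powers of `I`. -/
def LocKilled (I : Ideal R) (i : ℕ) (M : ModuleCat.{u} R) : Prop :=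
  ∀ (p : Ideal R), p.IsPrime → ∃ k : ℕ, ∀ a ∈ I ^ k, ∀ z : (localCohomology I i).obj M,
    ∃ s ∉ p, s • a • z = 0

/-- Finiteness is local. -/
theorem finite_of_locKilled : ∀ (n : ℕ) (M : ModuleCat.{u} R) [Module.Finite R M],
    (∀ i, i ≤ n → LocKilled I i M) → Module.Finite R ((localCohomology I n).obj M) := by
  intro n
  induction n with
  | zero => exact fun M _ _ => finite_H_zero I M
  | succ n ih =>
    intro M _ hM
    let Q := (torSeq I M).X₃
    haveI : Module.Finite R (M ⧸ DRing.torsionSub I M) := Module.Finite.quotient R _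
    haveI : Module.Finite R Q := Module.Finite.quotient R (DRing.torsionSub I M)
    obtain ⟨x, hx, hreg⟩ := exists_regular_of_torsionSub_eq_bot I (torsionSub_quotient_eq_bot I M)
    have hQ : ∀ i, i ≤ n + 1 → LocKilled I i Q := fun i hi => by
      cases i with
      | zero =>
        obtain ⟨k, hk⟩ := killed_of_finite (finite_H_zero I Q)
        exact fun p hp => ⟨k, fun a ha z => ⟨1, fun h1 => hp.ne_top ((Ideal.eq_top_iff_one p).2 h1),
          by rw [hk a ha z, smul_zero]⟩⟩
      | succ i =>
        intro p hp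
        obtain ⟨k, hk⟩ := hM (i + 1) hi p hp
        refine ⟨k, fun a ha z => ?_⟩
        obtain ⟨w, rfl⟩ := (bijective_map_torSeq_g I i M).2 z
        obtain ⟨s, hs, h⟩ := hk a ha w
        exact ⟨s, hs, ((congrArg (s • ·) (map_smul _ a w).symm).trans (map_smul _ s (a • w)).symm).trans ((congrArg _ h).trans (map_zero _))⟩
    let H := (localCohomology I (n + 1)).obj Q
    let T : ℕ → Submodule R H := fun k => LinearMap.ker (LinearMap.lsmul R H (x ^ k))
    have hT : ∀ k, Module.Finite R (T k) := fun k => by
      have hS := mulSeq_shortExact (M := Q) (hreg.pow k)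
      haveI : Module.Finite R (mulSeq (x ^ k) Q).X₃ := Module.Finite.quotient R _
      haveI := ih (mulSeq (x ^ k) Q).X₃ fun i hi p hp => by
        obtain ⟨k₁, h₁⟩ := hQ i (by omega) p hp
        obtain ⟨k₂, h₂⟩ := hQ (i + 1) (by omega) p hp
        refine ⟨k₁ + k₂, fun a ha z => ?_⟩
        rw [pow_add] at ha
        refine Submodule.mul_induction_on ha (fun a ha b hb => ?_) fun u v ⟨s, hs, hu⟩ ⟨t, ht, hv⟩ =>
          ⟨s * t, hp.mul_notMem hs ht, by
            rw [add_smul, smul_add, mul_smul s t (v • z), hv, smul_zero, add_zero, mul_comm, mul_smul,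
              hu, smul_zero]⟩
        obtain ⟨s, hs, hb0⟩ := h₂ b hb (δ hS I i z)
        obtain ⟨v, hv⟩ := exact₃ hS (s • b • z) (((map_smul (δ hS I i) s (b • z)).trans (congrArg (s • ·) (map_smul (δ hS I i) b z))).trans hb0)
        obtain ⟨t, ht, ha0⟩ := h₁ a ha v
        refine ⟨t * s, hp.mul_notMem ht hs, ?_⟩
        rw [mul_smul, mul_smul a b, smul_comm s a, ← hv]
        exact ((congrArg (t • ·) (map_smul _ a v).symm).trans (map_smul _ t (a • v)).symm).trans
          ((congrArg _ ha0).trans (map_zero _))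
      refine Module.Finite.of_surjective ((δ hS I n).codRestrict (T k) fun v => ?_) fun w => ?_
      · exact (ker_lsmul_map (x ^ k) (δ hS I n v)).symm.trans (map_δ_eq_zero hS v)
      · obtain ⟨v, hv⟩ := exact₁ hS w.1 ((ker_lsmul_map (x ^ k) w.1).trans w.2)
        exact ⟨v, Subtype.ext hv⟩
    have hTmem : ∀ k z, z ∈ T k ↔ x ^ k • z = 0 := fun k z => Iff.rfl
    have hmono : ∀ {k l}, k ≤ l → T k ≤ T l := fun {k l} h z hz => by
      rw [hTmem] at hz ⊢
      rw [← Nat.sub_add_cancel h, pow_add, mul_smul, hz, smul_zero]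
    let A : ℕ → Ideal R := fun k => (T k).colon (T (k + 1) : Set H)
    have hA : ∀ k r, r ∈ A k ↔ ∀ z ∈ T (k + 1), r • z ∈ T k := fun k r => Submodule.mem_colon
    have hAmono : Monotone A := monotone_nat_of_le_succ fun k r hr => by
      rw [hA] at hr ⊢
      intro z hz
      have h1 := hr (x • z) (by rw [hTmem] at hz ⊢; rwa [smul_smul, ← pow_succ])
      rw [hTmem] at h1 ⊢
      rwa [smul_comm r x, smul_smul, ← pow_succ] at h1
    have hcov : ∀ p : Ideal R, p.IsPrime → ∃ k, ¬ A k ≤ p := fun p hp => by
      obtain ⟨k, hk⟩ := hQ (n + 1) le_rfl p hp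
      haveI := hT (k + 1)
      obtain ⟨t, ht⟩ := (inferInstance : Module.Finite R (T (k + 1))).fg_top
      choose s hs hsz using fun w : T (k + 1) => hk _ (Ideal.pow_mem_pow hx k) w.1
      refine ⟨k, fun hle => ?_⟩
      have hmem : (∏ w ∈ t, s w) ∈ A k := by
        rw [hA]
        intro z hz
        have : (⟨z, hz⟩ : T (k + 1)) ∈ Submodule.span R (t : Set (T (k + 1))) := by rw [ht]; trivial
        have key : ∀ y ∈ Submodule.span R (t : Set (T (k + 1))), x ^ k • (∏ w ∈ t, s w) • y.1 = 0 := by
          intro y hy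
          induction hy using Submodule.span_induction with
          | mem y hy =>
            obtain ⟨c, hc⟩ := Finset.dvd_prod_of_mem s hy
            rw [hc, smul_comm (x ^ k), mul_comm (s y) c, mul_smul, hsz y, smul_zero]
          | zero => simp
          | add y y' _ _ h h' => rw [Submodule.coe_add, smul_add, smul_add, h, h', add_zero]
          | smul c y _ h =>
            rw [Submodule.coe_smul, smul_comm _ c, smul_comm (x ^ k) c, h, smul_zero]
        exact key _ this
      obtain ⟨w, -, hw⟩ := (Ideal.IsPrime.prod_mem_iff).1 (hle hmem)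
      exact hs w hw
    obtain ⟨K, hK⟩ := monotone_stabilizes_iff_noetherian.2 inferInstance ⟨A, hAmono⟩
    have htop : A K = ⊤ := by
      by_contra hne
      obtain ⟨m, hm, hle⟩ := Ideal.exists_le_maximal _ hne
      obtain ⟨k, hk⟩ := hcov m hm.isPrime
      refine hk ((hAmono (le_max_left k K)).trans ?_)
      exact (hK _ (le_max_right k K)).symm.le.trans hle
    have hstab : ∀ l, T (K + l) ≤ T K := by
      intro l
      induction l with
      | zero => exact le_rfl
      | succ l ihl =>
        intro z hz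
        refine ihl ?_
        have h1 : (1 : R) ∈ A (K + l) := hAmono (Nat.le_add_right K l) (htop.ge Submodule.mem_top)
        have := (hA _ _).1 h1 z hz
        rwa [one_smul] at this
    haveI := hT K
    haveI : Module.Finite R H := Module.Finite.of_surjective (T K).subtype fun z => by
      obtain ⟨l, hl⟩ := isPowerTorsion_H (I := I) (n + 1) Q z
      exact ⟨⟨z, hstab l (hmono (Nat.le_add_left l K) (hl _ (Ideal.pow_mem_pow hx l)))⟩, rfl⟩
    exact Module.Finite.equiv
      (LinearEquiv.ofBijective ((localCohomology I (n + 1)).map (torSeq I M).g).hom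
        (bijective_map_torSeq_g I n M)).symm

theorem finite_iff_locally (I : Ideal R) (M : ModuleCat.{u} R) [Module.Finite R M] (n : ℕ) :
    (∀ i : ℕ, i ≤ n → Module.Finite R ((localCohomology I i).obj M)) ↔
      ∀ (p : Ideal R) [p.IsPrime], ∀ i : ℕ, i ≤ n → Module.Finite (Localization.AtPrime p)
        (LocalizedModule p.primeCompl ((localCohomology I i).obj M)) := by
  refine ⟨fun h p _ i hi => ?_, fun h i hi => finite_of_locKilled i M fun j hj p hp => ?_⟩
  · haveI := h i hi
    exact Module.Finite.of_isLocalizedModule p.primeCompl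
      (LocalizedModule.mkLinearMap p.primeCompl ((localCohomology I i).obj M))
  · exact isPowerTorsion_localized p (h p j (hj.trans hi))

/-! ### Non-vanishing -/

/-- An element killing local cohomology kills it after flat base change. -/
theorem smul_tens_eq_zero {R' : Type u} [CommRing R'] [IsNoetherianRing R'] [Algebra R R'] [Module.Flat R R']
    (i : ℕ) (M : ModuleCat.{u} R) {r : R} (h : ∀ z : (localCohomology I i).obj M, r • z = 0)
    (w : (localCohomology (I.map (algebraMap R R')) i).obj ((tens R').obj M)) :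
    algebraMap R R' r • w = 0 := by
  obtain ⟨e⟩ := nonempty_tensEquiv (R' := R') I i M
  obtain ⟨y, rfl⟩ := e.surjective w
  rw [← map_smul]
  refine (congrArg e ?_).trans (map_zero e)
  suffices h' : ∀ q : R' ⊗[R] (localCohomology I i).obj M, algebraMap R R' r • q = 0 from h' y
  intro q
  induction q using TensorProduct.induction_on with
  | zero => rw [smul_zero]
  | tmul b z => rw [TensorProduct.smul_tmul', smul_eq_mul, ← Algebra.smul_def, TensorProduct.smul_tmul,
      h z, TensorProduct.tmul_zero]
  | add a b ha hb => rw [smul_add, ha, hb, add_zero]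

/-- At the depth of the localisation, local cohomology is supported at the prime. -/
theorem not_le_radical_annihilator_depth (a b : Ideal R) (M : ModuleCat.{u} R) [Module.Finite R M]
    (p : PrimeSpectrum R) (hb : ¬ b ≤ p.asIdeal) (t : ℕ)
    (ht : LocCoh.idealDepth (a.map (algebraMap R (Localization.AtPrime p.asIdeal)))
      (LocalizedModule p.asIdeal.primeCompl M) = t) :
    ¬ b ≤ (Module.annihilator R ((localCohomology a t).obj M)).radical := by
  intro hle
  obtain ⟨s, hs, hsp⟩ := SetLike.not_le_iff_exists.1 hb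
  obtain ⟨k, hk⟩ := hle hs
  let A := Localization.AtPrime p.asIdeal
  haveI : IsNoetherianRing A := IsLocalization.isNoetherianRing p.asIdeal.primeCompl A inferInstance
  haveI : Module.Flat R A := IsLocalization.flat A p.asIdeal.primeCompl
  let J := a.map (algebraMap R A)
  have hu : IsUnit (algebraMap R A (s ^ k)) :=
    IsLocalization.map_units A (⟨s ^ k, p.asIdeal.primeCompl.pow_mem hsp k⟩ : p.asIdeal.primeCompl)
  haveI h0 : Subsingleton ((localCohomology J t).obj ((tens A).obj M)) :=
    subsingleton_of_forall_eq 0 fun w => hu.smul_eq_zero.1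
      (smul_tens_eq_zero (I := a) (R' := A) t M (Module.mem_annihilator.1 hk) w)
  let e : (tens A).obj M ≅ ModuleCat.of A (LocalizedModule p.asIdeal.primeCompl M) :=
    (LocalizedModule.equivTensorProduct p.asIdeal.primeCompl M).symm.toModuleIso
  have h1 : Subsingleton ((localCohomology J t).obj
      (ModuleCat.of A (LocalizedModule p.asIdeal.primeCompl M))) := localCohomology_map_iso_subsingleton e
  haveI : Module.Finite A (LocalizedModule p.asIdeal.primeCompl M) :=
    Module.Finite.of_isLocalizedModule p.asIdeal.primeCompl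
      (LocalizedModule.mkLinearMap p.asIdeal.primeCompl M)
  have h2 : ((t + 1 : ℕ) : ℕ∞) ≤ LocCoh.idealDepth J (LocalizedModule p.asIdeal.primeCompl M) := by
    refine (natCast_le_idealDepth_iff_vanishing J _ (t + 1)).2 fun i hi => ?_
    rcases Nat.lt_succ_iff_lt_or_eq.1 hi with hlt | rfl
    · exact (natCast_le_idealDepth_iff_vanishing J _ t).1 ht.ge i hlt
    · exact h1
  rw [ht] at h2
  exact absurd (Nat.cast_le.1 h2) (by omega)

/-- Transport of non-vanishing along equal radicals. -/
theorem nontrivial_of_radical_eq {A : Type u} [CommRing A] [IsNoetherianRing A] [IsLocalRing A]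
    (J : Ideal A) (hrad : J.radical = IsLocalRing.maximalIdeal A) (M : ModuleCat.{u} A) [Module.Finite A M]
    (d : ℕ) (hd : Module.supportDim A M = d) : Nontrivial ((localCohomology J d).obj M) := by
  have h1 := nontrivial_H_supportDim M d hd
  have e := (localCohomology.isoOfSameRadical
    (hrad.trans (IsLocalRing.maximalIdeal.isMaximal A).isPrime.radical.symm) d).app M
  exact (ConcreteCategory.bijective_of_isIso e.hom).2.nontrivial

theorem not_cdLE_of_prime [IsLocalRing R] (I : Ideal R) (hI : I ≠ ⊤) (p : Ideal R) [p.IsPrime]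
    (hpI : (p ⊔ I).radical = IsLocalRing.maximalIdeal R) (d : ℕ) (hd : ringKrullDim (R ⧸ p) = d)
    (hd1 : 1 ≤ d) : ¬ LocCoh.CdLE R I (d - 1) := by
  intro hcd
  haveI : IsLocalRing (R ⧸ p) := IsLocalRing.of_surjective' _ Ideal.Quotient.mk_surjective
  have hrad : (I.map (algebraMap R (R ⧸ p))).radical = IsLocalRing.maximalIdeal (R ⧸ p) := by
    show (I.map (Ideal.Quotient.mk p)).radical = _
    have h1 : (p ⊔ I).map (Ideal.Quotient.mk p) = I.map (Ideal.Quotient.mk p) := by
      rw [Ideal.map_sup, Ideal.map_quotient_self, bot_sup_eq]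
    have hker : RingHom.ker (Ideal.Quotient.mk p) ≤ p ⊔ I := by rw [Ideal.mk_ker]; exact le_sup_left
    rw [← h1, ← Ideal.map_radical_of_surjective Ideal.Quotient.mk_surjective hker, hpI]
    refine (Ideal.map_eq_top_or_isMaximal_of_surjective (Ideal.Quotient.mk p) Ideal.Quotient.mk_surjective
      (IsLocalRing.maximalIdeal.isMaximal R)).elim (fun h => ?_) fun h => IsLocalRing.eq_maximalIdeal h
    exfalso
    have := congrArg (Ideal.comap (Ideal.Quotient.mk p)) h
    rw [Ideal.comap_map_of_surjective _ Ideal.Quotient.mk_surjective, ← RingHom.ker_eq_comap_bot,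
      Ideal.mk_ker, Ideal.comap_top, sup_eq_left.2 (IsLocalRing.le_maximalIdeal (Ideal.IsPrime.ne_top ‹_›))]
      at this
    exact (IsLocalRing.maximalIdeal.isMaximal R).ne_top this
  have h0 : Subsingleton ((localCohomology (I.map (algebraMap R (R ⧸ p))) d).obj
      (ModuleCat.of (R ⧸ p) (R ⧸ p))) :=
    subsingleton_map_of_res I d _ (hcd ((res R (R ⧸ p)).obj (ModuleCat.of (R ⧸ p) (R ⧸ p))) d (by omega))
  exact not_nontrivial_iff_subsingleton.2 h0 (nontrivial_of_radical_eq _ hrad _ d
    ((Module.supportDim_self_eq_ringKrullDim (R := R ⧸ p)).trans hd))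

/-- `H^1_a(M)` is not killed by powers of `b` at a height-one associated prime. -/
theorem not_le_radical_annihilator_one (a b : Ideal R) (M : ModuleCat.{u} R) [Module.Finite R M]
    (p : Ideal R) [p.IsPrime] (hp : p ∈ associatedPrimes R M) (hb : ¬ b ≤ p)
    (hht : ((a ⊔ p).map (Ideal.Quotient.mk p)).height = 1) :
    ¬ b ≤ (Module.annihilator R ((localCohomology a 1).obj M)).radical := by
  intro hle
  obtain ⟨s, hs, hsp⟩ := SetLike.not_le_iff_exists.1 hb
  obtain ⟨k, hk⟩ := hle hs
  let D := R ⧸ p
  let J := a.map (algebraMap R D)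
  have hJ : J = (a ⊔ p).map (Ideal.Quotient.mk p) := by
    rw [Ideal.map_sup, Ideal.map_quotient_self, sup_bot_eq]; rfl
  rw [← hJ] at hht
  have ha : ¬ a ≤ p := fun h => by
    have : J = ⊥ := by
      rw [hJ, sup_eq_right.2 h, Ideal.map_quotient_self]
    rw [this, Ideal.height_bot] at hht
    exact absurd hht (by simp)
  obtain ⟨t, hta, htp⟩ := SetLike.not_le_iff_exists.1 ha
  obtain ⟨f, hf⟩ := ((isAssociatedPrime_iff_exists_injective_linearMap (R := R) (I := p) (M := M)).1 hp).2
  let X : ModuleCat.{u} R := (res R D).obj (ModuleCat.of D D)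
  let ι : X ⟶ M := ModuleCat.ofHom (Y := M) f
  haveI : Mono ι := (ModuleCat.mono_iff_injective ι).2 hf
  let S : ShortComplex (ModuleCat.{u} R) := ShortComplex.mk ι (cokernel.π ι) (cokernel.condition ι)
  have hS : S.ShortExact :=
    { exact := ShortComplex.exact_cokernel ι }
  haveI : Module.Finite R S.X₃ := Module.Finite.of_surjective S.g.hom
    ((ModuleCat.epi_iff_surjective _).1 hS.epi_g)
  obtain ⟨j, hj⟩ := killed_of_finite (finite_H_zero a S.X₃)
  have key : ∀ w : (localCohomology a 1).obj X, (t ^ j * s ^ k) • w = 0 := fun w => by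
    obtain ⟨v, hv⟩ := exact₁ hS (s ^ k • w) ((map_smul _ _ _).trans (Module.mem_annihilator.1 hk _))
    rw [mul_smul, ← hv, ← map_smul, hj _ (Ideal.pow_mem_pow hta j) v, map_zero]
  obtain ⟨e⟩ := nonempty_resEquiv (R' := D) a 1 (ModuleCat.of D D)
  let x : D := algebraMap R D (t ^ j * s ^ k)
  have hx0 : x ≠ 0 := fun h => by
    rcases (Ideal.IsPrime.mem_or_mem ‹p.IsPrime› (Ideal.Quotient.eq_zero_iff_mem.1 h)) with h | h
    · exact htp (Ideal.IsPrime.mem_of_pow_mem ‹_› _ h)
    · exact hsp (Ideal.IsPrime.mem_of_pow_mem ‹_› _ h)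
  have keyD : ∀ w : (localCohomology J 1).obj (ModuleCat.of D D), x • w = 0 := fun w => by
    refine e.injective ((map_smul e (t ^ j * s ^ k) _).trans ?_)
    exact (key _).trans (map_zero e).symm
  obtain ⟨q, hq, hqh⟩ : ∃ q ∈ J.minimalPrimes, q.height = 1 := by
    by_contra hne
    push Not at hne
    have h2 : ∀ q ∈ J.minimalPrimes, (2 : ℕ∞) ≤ q.height := fun q hq => by
      have h1 : (1 : ℕ∞) ≤ q.height := hht.ge.trans (Ideal.height_mono hq.1.2)
      exact Order.add_one_le_of_lt (lt_of_le_of_ne h1 (hne q hq).symm)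
    have : (2 : ℕ∞) ≤ J.height := by
      rw [Ideal.height_eq_inf_minimalPrimes]
      exact le_iInf₂ fun q hq => h2 q hq
    rw [hht] at this
    exact absurd this (by decide)
  haveI : q.IsPrime := hq.1.1
  let A := Localization.AtPrime q
  haveI : IsNoetherianRing A := IsLocalization.isNoetherianRing q.primeCompl A inferInstance
  haveI : Module.Flat D A := IsLocalization.flat A q.primeCompl
  have hdimA : ringKrullDim A = ((1 : ℕ) : WithBot ℕ∞) := by
    rw [IsLocalization.AtPrime.ringKrullDim_eq_height q A, hqh]; rfl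
  have hrad : (J.map (algebraMap D A)).radical = IsLocalRing.maximalIdeal A := by
    refine le_antisymm ((IsLocalRing.maximalIdeal.isMaximal A).isPrime.radical_le_iff.2 ?_) ?_
    · rw [Ideal.map_le_iff_le_comap]
      exact hq.1.2.trans (Localization.AtPrime.under_maximalIdeal (I := q)).ge
    rw [Ideal.radical_eq_sInf]
    refine le_sInf ?_
    rintro Q ⟨hJQ, hQ⟩
    haveI := hQ
    have hQq : Q.under D ≤ q := (Ideal.comap_mono (IsLocalRing.le_maximalIdeal hQ.ne_top)).trans
      (Localization.AtPrime.under_maximalIdeal (I := q)).le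
    have hQe : Q.under D = q :=
      le_antisymm hQq (hq.2 ⟨inferInstance, Ideal.map_le_iff_le_comap.1 hJQ⟩ hQq)
    refine ((IsLocalization.map_under q.primeCompl A (IsLocalRing.maximalIdeal A)).symm.trans_le ?_).trans
      (IsLocalization.map_under q.primeCompl A Q).le
    rw [hQe, Localization.AtPrime.under_maximalIdeal]
  let e' : (tens A).obj (ModuleCat.of D D) ≅ ModuleCat.of A A :=
    (TensorProduct.AlgebraTensorModule.rid D A A).toModuleIso
  have keyA : ∀ w : (localCohomology (IsLocalRing.maximalIdeal A) 1).obj (ModuleCat.of A A),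
      algebraMap D A x • w = 0 := fun w => by
    let i1 := (localCohomology.isoOfSameRadical
      (hrad.trans (IsLocalRing.maximalIdeal.isMaximal A).isPrime.radical.symm) 1).app (ModuleCat.of A A)
    obtain ⟨w, rfl⟩ := (ConcreteCategory.bijective_of_isIso i1.hom).2 w
    obtain ⟨w, rfl⟩ := (ConcreteCategory.bijective_of_isIso
      ((localCohomology (J.map (algebraMap D A)) 1).mapIso e').hom).2 w
    rw [← map_smul, ← map_smul, smul_tens_eq_zero (I := J) (R' := A) 1 _ keyD w, map_zero, map_zero]
  haveI : IsDomain A := IsLocalization.isDomain_localization q.primeCompl_le_nonZeroDivisors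
  have hxA : algebraMap D A x ≠ 0 := fun h => hx0
    ((injective_iff_map_eq_zero _).1 (IsLocalization.injective A q.primeCompl_le_nonZeroDivisors) x h)
  by_cases hu : IsUnit (algebraMap D A x)
  · exact not_nontrivial_iff_subsingleton.2 (subsingleton_of_forall_eq 0 fun w => hu.smul_eq_zero.1 (keyA w))
      (nontrivial_H_supportDim (ModuleCat.of A A) 1
        ((Module.supportDim_self_eq_ringKrullDim (R := A)).trans hdimA))
  have hm : IsLocalRing.maximalIdeal A ≤ (Ideal.span {algebraMap D A x}).radical := by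
    rw [Ideal.radical_eq_sInf]
    refine le_sInf ?_
    rintro Q ⟨hxQ, hQ⟩
    haveI := hQ
    haveI := (Ring.krullDimLE_iff (R := A) (n := 1)).2 hdimA.le
    have hQ0 : Q ≠ ⊥ := fun h => hxA (by
      have := hxQ (Ideal.mem_span_singleton_self _)
      rwa [h, Submodule.mem_bot] at this)
    exact ((IsLocalRing.eq_maximalIdeal (hQ.isMaximal_of_ne_bot hQ0)) ▸ le_rfl)
  obtain ⟨n, hn⟩ := Ideal.exists_pow_le_of_le_radical_of_fg hm (IsNoetherian.noetherian _)
  obtain ⟨c, hc, z, hz⟩ := exists_smul_ne_zero 0 (ModuleCat.of A A)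
    ((Module.supportDim_self_eq_ringKrullDim (R := A)).trans hdimA) n
  obtain ⟨r, rfl⟩ := Ideal.mem_span_singleton'.1 (hn hc)
  exact hz (by rw [mul_smul, keyA, smul_zero])

end Groth.Agent.LocCohLib
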