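import Groth.Agent.LocCohLib.Pieces
import Groth.Agent.LocCohLib.FiniteAnn
import Groth.Agent.ProjDim.Regular
import Mathlib.RingTheory.Ideal.AssociatedPrime.Localization

/-!
# Criteria for local cohomology over a regular ring, by the duals
-/

set_option autoImplicit false
set_option linter.style.haveILetI false
set_option linter.unusedVariables false

universe u

open CategoryTheory CategoryTheory.Limits

namespace Groth.Agent.LocCohLib

variable {S : Type u} [CommRing S] [IsRegularRing S] (P₀ : InjectiveResolution (ModuleCat.of S S))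

omit [IsRegularRing S] in
/-- A short exact sequence in one degree. -/
theorem sgl_shortExact {C : ShortComplex (ModuleCat.{u} S)} (hC : C.ShortExact) (j : ℤ) :
    (C.map (HomologicalComplex.single (ModuleCat.{u} S) (ComplexShape.up ℤ) j)).ShortExact :=
  hC.map_of_exact _

theorem subsingleton_piece (a : Ideal S) (E : ModuleCat.{u} S) [Module.Finite S E] (j m : ℤ)
    (h : ∀ q : PrimeSpectrum S, q ∈ Module.support S E → a ≤ q.asIdeal →
      ∀ k : ℕ, j + m = k → q.asIdeal.height ≠ k) : Subsingleton (piece P₀ a E j m) := by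
  rcases lt_or_ge (j + m) 0 with hneg | hpos
  · exact subsingleton_piece_neg P₀ a E hneg
  obtain ⟨k, hk⟩ := Int.eq_ofNat_of_zero_le hpos
  refine subsingleton_of_forall_eq 0 fun x => ?_
  obtain ⟨N, hN, y, hsupp, hr⟩ := smul_eq_zero_of_ext P₀ a E j m k hk x
  haveI := subsingleton_extS k N fun q hq => h q (hsupp q hq).1 (hsupp q hq).2 k hk
  have := hr 1 ((one_smul S y).trans (Subsingleton.elim (α := ExtS N k) y 0))
  rwa [one_smul] at this

theorem sm_piece (P : Ideal S) [P.IsPrime] {d : ℕ} (hd : P.height = d) (E : ModuleCat.{u} S)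
    [Module.Finite S E] (j m : ℤ) (h : j + m ≠ d) : Sm P (piece P₀ P E j m) := by
  rcases lt_or_ge (j + m) 0 with hneg | hpos
  · exact (midClosed_sm P).zero _ (subsingleton_piece_neg P₀ P E hneg)
  obtain ⟨k, hk⟩ := Int.eq_ofNat_of_zero_le hpos
  intro x
  obtain ⟨N, hN, y, hsupp, hr⟩ := smul_eq_zero_of_ext P₀ P E j m k hk x
  obtain ⟨u, hu, hu0⟩ := exists_smul_extS_eq_zero P k (by
    rw [hd, Ne, Nat.cast_inj]
    rintro rfl
    exact h hk) N (fun q hq => (hsupp q hq).2) y
  exact ⟨u, hu, hr u hu0⟩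

/-- At the height, the piece sees the stalk. -/
theorem not_sm_piece (P : Ideal S) [P.IsPrime] {d : ℕ} (hd : P.height = d) (E : ModuleCat.{u} S)
    [Module.Finite S E] (j m : ℤ) (h : j + m = d)
    (hE : (⟨P, inferInstance⟩ : PrimeSpectrum S) ∈ Module.support S E) : ¬ Sm P (piece P₀ P E j m) := by
  intro hsm
  rw [Module.support_eq_zeroLocus, PrimeSpectrum.mem_zeroLocus, SetLike.coe_subset_coe] at hE
  obtain ⟨T, hT, hTP⟩ := Ideal.exists_minimalPrimes_le hE
  haveI : T.IsPrime := hT.1.1
  obtain ⟨_, e, he⟩ := isAssociatedPrime_iff.1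
    (Module.associatedPrimes.minimalPrimes_annihilator_subset_associatedPrimes S E hT)
  have hker : LinearMap.ker (LinearMap.toSpanSingleton S E e) = T := by
    ext r
    rw [LinearMap.mem_ker, LinearMap.toSpanSingleton_apply, he, Submodule.mem_colon_singleton, Submodule.mem_bot]
  let f : (S ⧸ T) →ₗ[S] E := Submodule.liftQ T (LinearMap.toSpanSingleton S E e) hker.ge
  let C₁ : ShortComplex (ModuleCat.{u} S) := ShortComplex.mk (X₁ := ModuleCat.of S (S ⧸ T)) (X₂ := E)
    (X₃ := ModuleCat.of S (E ⧸ LinearMap.range f)) (ModuleCat.ofHom f) (ModuleCat.ofHom (LinearMap.range f).mkQ)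
    (ModuleCat.hom_ext (LinearMap.range_mkQ_comp f))
  have hC₁ : C₁.ShortExact :=
    { exact := (ShortComplex.ShortExact.moduleCat_exact_iff_function_exact _).2 (LinearMap.exact_map_mkQ_range f)
      mono_f := (ModuleCat.mono_iff_injective _).2 (LinearMap.ker_eq_bot.1
        (Submodule.ker_liftQ_eq_bot _ _ _ hker.le))
      epi_g := (ModuleCat.epi_iff_surjective _).2 (Submodule.mkQ_surjective _) }
  haveI : Module.Finite S C₁.X₃ := Module.Finite.quotient S (LinearMap.range f)
  let g : (S ⧸ T) →ₗ[S] (S ⧸ P) := Submodule.factor hTP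
  let C₂ : ShortComplex (ModuleCat.{u} S) := ShortComplex.mk (X₁ := ModuleCat.of S (LinearMap.ker g))
    (X₂ := ModuleCat.of S (S ⧸ T)) (X₃ := ModuleCat.of S (S ⧸ P)) (ModuleCat.ofHom (LinearMap.ker g).subtype)
    (ModuleCat.ofHom g) (ModuleCat.hom_ext (LinearMap.ext fun x => x.2))
  have hC₂ : C₂.ShortExact :=
    { exact := (ShortComplex.ShortExact.moduleCat_exact_iff_function_exact _).2 (LinearMap.exact_subtype_ker_map g)
      mono_f := (ModuleCat.mono_iff_injective _).2 Subtype.val_injective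
      epi_g := (ModuleCat.epi_iff_surjective _).2 (Submodule.factor_surjective hTP) }
  haveI : Module.Finite S C₂.X₁ := Module.Finite.iff_fg.2 (IsNoetherian.noetherian (LinearMap.ker g))
  have h1 : Sm P (piece P₀ P C₁.X₁ j m) := pre_left (midClosed_sm P) (sgl_shortExact hC₁ j) m hsm
    (sm_piece P₀ P hd C₁.X₃ j (m + 1) (by omega))
  exact exists_piece_ne_zero P₀ P hd j m h (pre_right (midClosed_sm P) (sgl_shortExact hC₂ j) m
    (sm_piece P₀ P hd C₂.X₁ j (m - 1) (by omega)) h1)

theorem kl_piece (a : Ideal S) (b : S) (E : ModuleCat.{u} S) [Module.Finite S E] (j m : ℤ)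
    (h : ∀ T : PrimeSpectrum S, T ∈ Module.support S E → b ∉ T.asIdeal → ∀ q : PrimeSpectrum S,
      T.asIdeal ≤ q.asIdeal → a ≤ q.asIdeal → ∀ k : ℕ, j + m = k → q.asIdeal.height ≠ k) :
    Kl b (piece P₀ a E j m) := by
  let C := torSeq (Ideal.span {b}) E
  have hC := torSeq_shortExact (Ideal.span {b}) E
  haveI : Module.Finite S C.X₁ := Module.Finite.iff_fg.2 (IsNoetherian.noetherian _)
  haveI : Module.Finite S C.X₃ := Module.Finite.quotient S _
  refine pre_mid (midClosed_kl b) (sgl_shortExact hC j) m ?_ ((midClosed_kl b).zero _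
    (subsingleton_piece P₀ a C.X₃ j m fun q hq haq k hk => ?_))
  · obtain ⟨k, hk⟩ := exists_pow_le_annihilator_of_fg (isPowerTorsion_torsionSub (Ideal.span {b}) E)
      (W := (⊤ : Submodule S C.X₁)) (Module.Finite.fg_top)
    exact ⟨k, fun x => smul_piece_eq_zero P₀ a C.X₁ j m
      (fun e => Submodule.mem_annihilator.1 (hk (Ideal.pow_mem_pow (Ideal.mem_span_singleton_self b) k)) e trivial) x⟩
  · have hq' := hq
    rw [Module.support_eq_zeroLocus, PrimeSpectrum.mem_zeroLocus, SetLike.coe_subset_coe] at hq'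
    obtain ⟨T, hT, hTq⟩ := Ideal.exists_minimalPrimes_le hq'
    haveI : T.IsPrime := hT.1.1
    obtain ⟨_, e, he⟩ := isAssociatedPrime_iff.1
      (Module.associatedPrimes.minimalPrimes_annihilator_subset_associatedPrimes S C.X₃ hT)
    refine h ⟨T, inferInstance⟩ (Module.support_subset_of_surjective C.g.hom
      ((ModuleCat.epi_iff_surjective C.g).1 hC.epi_g) (Module.mem_support_iff_of_finite.2 hT.1.2)) ?_ q hTq haq k hk
    intro hb
    change b ∈ T at hb
    rw [he, Submodule.mem_colon_singleton, Submodule.mem_bot] at hb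
    have h0 : e ∈ DRing.torsionSub (Ideal.span {b}) C.X₃ := ⟨1, fun c hc => by
      rw [pow_one, Ideal.mem_span_singleton] at hc
      obtain ⟨c, rfl⟩ := hc
      rw [mul_comm, mul_smul, hb, smul_zero]⟩
    have h1 := torsionSub_quotient_eq_bot (Ideal.span {b}) E
    have h2 : e = 0 := (Submodule.mem_bot S).1 (h1 ▸ h0)
    exact hT.1.1.ne_top ((Ideal.eq_top_iff_one T).2 (by
      rw [he, Submodule.mem_colon_singleton, Submodule.mem_bot, h2, smul_zero]))

/-- A piece at a maximal ideal detects killing. -/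
theorem kl_of_kl_piece (P : Ideal S) [P.IsMaximal] {d : ℕ} (hd : P.height = d) (E : ModuleCat.{u} S)
    [Module.Finite S E] (hloc : ∀ Q : Ideal S, Q.IsPrime → Q ≤ P) (j m : ℤ) (h : j + m = d) (s : S)
    (hs : Kl s (piece P₀ P E j m)) : ∃ k : ℕ, ∀ e : E, s ^ k • e = 0 := by
  obtain ⟨k, hk⟩ := hs
  refine ⟨k, ?_⟩
  by_contra hne
  push Not at hne
  obtain ⟨e, he⟩ := hne
  have hoff : ∀ (E : ModuleCat.{u} S) [Module.Finite S E] (m' : ℤ), j + m' ≠ d →
      Subsingleton (piece P₀ P E j m') := fun E _ m' hm => subsingleton_piece P₀ P E j m' fun q _ hq k hk => by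
    rw [le_antisymm (hloc q.asIdeal q.2) hq, hd, Ne, Nat.cast_inj]
    rintro rfl
    exact hm hk
  let r := s ^ k
  let φ : E →ₗ[S] E := LinearMap.lsmul S E r
  let E' := ModuleCat.of S (LinearMap.range φ)
  let π : E ⟶ E' := ModuleCat.ofHom φ.rangeRestrict
  let ι : E' ⟶ E := ModuleCat.ofHom (LinearMap.range φ).subtype
  let C₁ : ShortComplex (ModuleCat.{u} S) := ShortComplex.mk (X₁ := ModuleCat.of S (LinearMap.ker φ.rangeRestrict))
    (ModuleCat.ofHom (LinearMap.ker φ.rangeRestrict).subtype) π (ModuleCat.hom_ext (LinearMap.ext fun x => x.2))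
  have hC₁ : C₁.ShortExact :=
    { exact := (ShortComplex.ShortExact.moduleCat_exact_iff_function_exact _).2 (LinearMap.exact_subtype_ker_map _)
      mono_f := (ModuleCat.mono_iff_injective _).2 Subtype.val_injective
      epi_g := (ModuleCat.epi_iff_surjective _).2 φ.surjective_rangeRestrict }
  let C₂ : ShortComplex (ModuleCat.{u} S) := ShortComplex.mk (X₃ := ModuleCat.of S (E ⧸ LinearMap.range φ))
    ι (ModuleCat.ofHom (LinearMap.range φ).mkQ)
    (ModuleCat.hom_ext (LinearMap.ext fun x => (Submodule.Quotient.mk_eq_zero _).2 x.2))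
  have hC₂ : C₂.ShortExact :=
    { exact := (ShortComplex.ShortExact.moduleCat_exact_iff_function_exact _).2
        (LinearMap.exact_subtype_mkQ _)
      mono_f := (ModuleCat.mono_iff_injective _).2 Subtype.val_injective
      epi_g := (ModuleCat.epi_iff_surjective _).2 (Submodule.mkQ_surjective _) }
  haveI : Module.Finite S C₁.X₁ := Module.Finite.iff_fg.2 (IsNoetherian.noetherian (LinearMap.ker φ.rangeRestrict))
  haveI : Module.Finite S C₂.X₃ := Module.Finite.quotient S (LinearMap.range φ)
  haveI : Module.Finite S E' := Module.Finite.range φ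
  have hS₁ := homShortPre_shortExact (sgl_shortExact hC₁ j) (gam P P₀.cochainComplex)
  have hS₂ := homShortPre_shortExact (sgl_shortExact hC₂ j) (gam P P₀.cochainComplex)
  let A := homCxPre ((HomologicalComplex.single _ (ComplexShape.up ℤ) j).map π) (gam P P₀.cochainComplex)
  let B := homCxPre ((HomologicalComplex.single _ (ComplexShape.up ℤ) j).map ι) (gam P P₀.cochainComplex)
  have hAinj : Function.Injective (HomologicalComplex.homologyMap A m).hom := by
    haveI := hoff C₁.X₁ (m - 1) (by omega)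
    exact (ModuleCat.mono_iff_injective _).1 ((hS₁.homology_exact₁ (m - 1) m (by simp)).mono_g
      ((ModuleCat.isZero_of_subsingleton (piece P₀ P C₁.X₁ j (m - 1))).eq_of_src _ _))
  have hBsurj : Function.Surjective (HomologicalComplex.homologyMap B m).hom := by
    haveI := hoff C₂.X₃ (m + 1) (by omega)
    exact (ModuleCat.epi_iff_surjective _).1 ((hS₂.homology_exact₃ m (m + 1) rfl).epi_f
      ((ModuleCat.isZero_of_subsingleton (piece P₀ P C₂.X₃ j (m + 1))).eq_of_tgt _ _))
  have hBA : B ≫ A = r • 𝟙 _ := by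
    refine (homCxPre_comp _ _ _).trans ?_
    rw [← Functor.map_comp, ← homCxPre_smul]
    refine congrArg (fun t => homCxPre t (gam P P₀.cochainComplex)) ?_
    refine HomologicalComplex.hom_ext _ _ fun i => ?_
    by_cases hi : i = j
    · subst hi
      rw [HomologicalComplex.single_map_f_self, show π ≫ ι = r • 𝟙 E from ModuleCat.hom_ext (LinearMap.ext fun x => rfl)]
      simp
    · exact (subsingleton_sgl E hi).eq_of_src _ _
  have hzero : Subsingleton (piece P₀ P E' j m) := subsingleton_of_forall_eq 0 fun x => by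
    -- a preimage under `B` is killed by `r`
    have hA0 : ∀ y, (HomologicalComplex.homologyMap A m).hom ((HomologicalComplex.homologyMap B m).hom y) = r • y := by
      intro y
      have h1 := congrArg (fun t => HomologicalComplex.homologyMap t m) hBA
      simp only [HomologicalComplex.homologyMap_comp] at h1
      refine (ConcreteCategory.congr_hom h1 y).trans ?_
      let K := homCx ((HomologicalComplex.single (ModuleCat.{u} S) (ComplexShape.up ℤ) j).obj E) (gam P P₀.cochainComplex)
      have h2 : HomologicalComplex.homologyMap (r • 𝟙 K) m = r • 𝟙 _ := by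
        show ShortComplex.homologyMap ((HomologicalComplex.shortComplexFunctor _ _ m).map (r • 𝟙 K)) = _
        rw [show (HomologicalComplex.shortComplexFunctor (ModuleCat.{u} S) (ComplexShape.up ℤ) m).map (r • 𝟙 K) =
          r • 𝟙 (K.sc m) from rfl, ShortComplex.homologyMap_smul, ShortComplex.homologyMap_id]
        rfl
      exact ConcreteCategory.congr_hom h2 y
    obtain ⟨y, rfl⟩ := hBsurj x
    exact hAinj (((hA0 y).trans (hk y)).trans (map_zero _).symm)
  have hmem : (⟨P, inferInstance⟩ : PrimeSpectrum S) ∈ Module.support S E' := by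
    obtain ⟨T, hT⟩ := (Module.nonempty_support_iff (R := S) (M := E')).2
      ⟨⟨⟨φ e, e, rfl⟩, 0, fun h => he (congrArg Subtype.val h)⟩⟩
    exact Module.mem_support_mono (show T ≤ ⟨P, inferInstance⟩ from hloc T.asIdeal T.2) hT
  exact not_sm_piece P₀ P hd E' j m h hmem ((midClosed_sm P).zero _ hzero)

/-- Pieces of modules killed by a power of `a` are finite. -/
theorem finite_piece_of_killed (a : Ideal S) (E : ModuleCat.{u} S) [Module.Finite S E] (n : ℕ)
    (hn : ∀ c ∈ a ^ n, ∀ e : E, c • e = 0) (j m : ℤ) : Module.Finite S (piece P₀ a E j m) := by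
  rcases lt_or_ge (j + m) 0 with hneg | hpos
  · haveI := subsingleton_piece_neg P₀ a E hneg
    infer_instance
  obtain ⟨k, hk⟩ := Int.eq_ofNat_of_zero_le hpos
  let dd : (E ⟶ (gam a P₀.cochainComplex).X (k : ℤ)) →ₗ[S] (E ⟶ P₀.cocomplex.X (k + 1)) :=
    { toFun := fun f => toJ P₀ a E k f ≫ P₀.cocomplex.d k (k + 1)
      map_add' := fun f g => by simp [Preadditive.add_comp]
      map_smul' := fun r f => by simp [Linear.smul_comp] }
  let Z := LinearMap.ker dd
  have hz : ∀ f : Z, CochainComplex.HomComplex.δ m (m + 1) (CochainComplex.HomComplex.Cochain.fromSingleMk f.1 hk) = 0 :=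
    fun f => by
    rw [CochainComplex.HomComplex.Cochain.δ_fromSingleMk _ _ (m + 1) ((k + 1 : ℕ) : ℤ) (by push_cast; omega)]
    haveI : Mono ((gamInc a P₀.cochainComplex).f ((k + 1 : ℕ) : ℤ)) :=
      (ModuleCat.mono_iff_injective _).2 Subtype.val_injective
    have h0 : f.1 ≫ (gam a P₀.cochainComplex).d (k : ℤ) ((k + 1 : ℕ) : ℤ) = 0 := by
      refine (cancel_mono ((gamInc a P₀.cochainComplex).f ((k + 1 : ℕ) : ℤ))).1 ?_
      rw [Category.assoc, ← (gamInc a P₀.cochainComplex).comm, P₀.cochainComplex_d _ _ k (k + 1) rfl rfl,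
        zero_comp]
      have h1 : toJ P₀ a E k f.1 ≫ P₀.cocomplex.d k (k + 1) = 0 := f.2
      have h2 := congrArg (fun t => t ≫ (P₀.cochainComplexXIso ((k + 1 : ℕ) : ℤ) (k + 1) rfl).inv) h1
      simpa [toJ, Category.assoc] using! h2
    rw [h0]
    simp
  let α : Z →ₗ[S] piece P₀ a E j m :=
    (scCls (((homCx (sgl j E) (gam a P₀.cochainComplex))).sc m)).comp
      ({ toFun := fun f => ⟨CochainComplex.HomComplex.Cochain.fromSingleMk f.1 hk, by
            show (homCx (sgl j E) (gam a P₀.cochainComplex)).d m ((ComplexShape.up ℤ).next m) _ = 0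
            rw [CochainComplex.next]; exact hz f⟩
         map_add' := fun f g => Subtype.ext (CochainComplex.HomComplex.Cochain.fromSingleMk_add f.1 g.1 hk)
         map_smul' := fun r f => Subtype.ext (fromSingleMk_smul r f.1 hk) } :
        Z →ₗ[S] LinearMap.ker ((homCx (sgl j E) (gam a P₀.cochainComplex)).sc m).g.hom)
  have hαsurj : Function.Surjective α := fun x => by
    obtain ⟨f, hzf, hfd, rfl⟩ := exists_rep P₀ a E j m k hk x
    exact ⟨⟨f, hfd⟩, rfl⟩
  let β : Z →ₗ[S] ExtS E k :=
    { toFun := fun f => P₀.extMk (toJ P₀ a E k f.1) (k + 1) rfl f.2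
      map_add' := fun f g => by
        refine Eq.trans ?_ (P₀.add_extMk _ _ _ _ f.2 g.2).symm
        congr 1
        exact Preadditive.add_comp _ _ _ _ _ _
      map_smul' := fun r f => by
        have h2 := P₀.mk₀_comp_extMk (toJ P₀ a E k f.1) (k + 1) rfl f.2 (r • 𝟙 E)
        simp only [CategoryTheory.Abelian.Ext.mk₀_smul, CategoryTheory.Abelian.Ext.smul_comp,
          CategoryTheory.Abelian.Ext.mk₀_id_comp, Linear.smul_comp, Category.id_comp] at h2
        refine Eq.trans ?_ h2.symm
        congr 1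
        exact Linear.smul_comp _ _ _ _ _ _ }
  have hβsurj : Function.Surjective β := fun y => by
    obtain ⟨g, hg, rfl⟩ := P₀.extMk_surjective y (k + 1) rfl
    have hmem : ∀ e : E, (g ≫ (P₀.cochainComplexXIso (k : ℤ) k rfl).inv) e ∈
        DRing.torsionSub a (P₀.cochainComplex.X (k : ℤ)) := fun e =>
      ⟨n, fun c hc => by rw [← map_smul, hn c hc, map_zero]⟩
    let f : E ⟶ (gam a P₀.cochainComplex).X (k : ℤ) :=
      ModuleCat.ofHom (LinearMap.codRestrict _ (g ≫ (P₀.cochainComplexXIso (k : ℤ) k rfl).inv).hom hmem)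
    have hf : toJ P₀ a E k f = g := by
      show f ≫ (gamInc a P₀.cochainComplex).f (k : ℤ) ≫ _ = g
      rw [← Category.assoc, show f ≫ (gamInc a P₀.cochainComplex).f (k : ℤ) =
        g ≫ (P₀.cochainComplexXIso (k : ℤ) k rfl).inv from ModuleCat.hom_ext (LinearMap.ext fun e => rfl)]
      simp
    exact ⟨⟨f, (congrArg (· ≫ P₀.cocomplex.d k (k + 1)) hf).trans hg⟩, by simp [β, hf]⟩
  have hker : LinearMap.ker β ≤ LinearMap.ker α := fun f hf => by
    rw [LinearMap.mem_ker] at hf ⊢
    show hcls _ _ m (CochainComplex.HomComplex.Cochain.fromSingleMk f.1 hk) (hz f) = 0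
    rw [← one_smul S (hcls _ _ m _ (hz f)), hcls_smul_eq_zero_iff, one_smul]
    haveI : Mono ((gamInc a P₀.cochainComplex).f (k : ℤ) ≫ (P₀.cochainComplexXIso (k : ℤ) k rfl).hom) := by
      haveI : Mono ((gamInc a P₀.cochainComplex).f (k : ℤ)) :=
        (ModuleCat.mono_iff_injective _).2 Subtype.val_injective
      infer_instance
    cases k with
    | zero =>
      refine ⟨0, ?_⟩
      have h0 : toJ P₀ a E 0 f.1 = 0 := extMk_inj_zero (P := P₀) (toJ P₀ a E 0 f.1) f.2 hf
      rw [show f.1 = 0 from (cancel_mono _).1 (h0.trans zero_comp.symm)]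
      simp
    | succ k =>
      obtain ⟨g, hg⟩ := (P₀.extMk_eq_zero_iff (toJ P₀ a E (k + 1) f.1) (k + 1 + 1) rfl f.2 k rfl).1 hf
      have hmem : ∀ e : E, (g ≫ (P₀.cochainComplexXIso (k : ℤ) k rfl).inv) e ∈
          DRing.torsionSub a (P₀.cochainComplex.X (k : ℤ)) := fun e =>
        ⟨n, fun c hc => by rw [← map_smul, hn c hc, map_zero]⟩
      let g' : E ⟶ (gam a P₀.cochainComplex).X (k : ℤ) :=
        ModuleCat.ofHom (LinearMap.codRestrict _ (g ≫ (P₀.cochainComplexXIso (k : ℤ) k rfl).inv).hom hmem)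
      refine ⟨CochainComplex.HomComplex.Cochain.fromSingleMk g' (by push_cast at hk ⊢; omega), ?_⟩
      rw [CochainComplex.HomComplex.Cochain.δ_fromSingleMk _ _ m ((k + 1 : ℕ) : ℤ) hk]
      congr 1
      refine (cancel_mono ((gamInc a P₀.cochainComplex).f ((k + 1 : ℕ) : ℤ) ≫
        (P₀.cochainComplexXIso ((k + 1 : ℕ) : ℤ) (k + 1) rfl).hom)).1 ?_
      refine Eq.trans ?_ hg
      rw [Category.assoc, ← (gamInc a P₀.cochainComplex).comm_assoc,
        P₀.cochainComplex_d _ _ k (k + 1) rfl rfl]
      show g' ≫ (gamInc a P₀.cochainComplex).f (k : ℤ) ≫ _ = _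
      rw [← Category.assoc g', show g' ≫ (gamInc a P₀.cochainComplex).f (k : ℤ) =
        g ≫ (P₀.cochainComplexXIso (k : ℤ) k rfl).inv from ModuleCat.hom_ext (LinearMap.ext fun e => rfl)]
      simp
  haveI : Module.Finite S (Z ⧸ LinearMap.ker β) :=
    Module.Finite.equiv (LinearMap.quotKerEquivOfSurjective β hβsurj).symm
  exact Module.Finite.of_surjective ((LinearMap.ker β).liftQ α hker) fun x => by
    obtain ⟨f, rfl⟩ := hαsurj x
    exact ⟨Submodule.Quotient.mk f, rfl⟩

theorem midClosed_finite : MidClosed (fun A : ModuleCat.{u} S => Module.Finite S A) where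
  zero _ h := haveI := h; inferInstance
  mid C hC h₁ h₃ := by
    have hfg : LinearMap.ker C.g.hom = LinearMap.range C.f.hom :=
      LinearMap.exact_iff.1 ((ShortComplex.ShortExact.moduleCat_exact_iff_function_exact C).1 hC)
    haveI := h₁
    haveI := h₃
    refine ⟨Submodule.fg_of_fg_map_of_fg_inf_ker C.g.hom (IsNoetherian.noetherian _) ?_⟩
    rw [top_inf_eq, hfg, ← Module.Finite.iff_fg]
    exact Module.Finite.range C.f.hom

/-- The piece is finite if the torsion-free part contributes nothing. -/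
theorem finite_piece (a : Ideal S) (E : ModuleCat.{u} S) [Module.Finite S E] (j m : ℤ)
    (h : ∀ T : PrimeSpectrum S, T ∈ Module.support S E → ¬ a ≤ T.asIdeal → ∀ q : PrimeSpectrum S,
      T.asIdeal ≤ q.asIdeal → a ≤ q.asIdeal → ∀ k : ℕ, j + m = k → q.asIdeal.height ≠ k) :
    Module.Finite S (piece P₀ a E j m) := by
  let C := torSeq a E
  have hC := torSeq_shortExact a E
  haveI : Module.Finite S C.X₁ := Module.Finite.iff_fg.2 (IsNoetherian.noetherian _)
  haveI : Module.Finite S C.X₃ := Module.Finite.quotient S _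
  refine pre_mid midClosed_finite (sgl_shortExact hC j) m ?_ (midClosed_finite.zero _
    (subsingleton_piece P₀ a C.X₃ j m fun q hq haq k hk => ?_))
  · obtain ⟨k, hk⟩ := exists_pow_le_annihilator_of_fg (isPowerTorsion_torsionSub a E)
      (W := (⊤ : Submodule S C.X₁)) (Module.Finite.fg_top)
    exact finite_piece_of_killed P₀ a C.X₁ k (fun c hc e => Submodule.mem_annihilator.1 (hk hc) e trivial) j m
  · have hq' := hq
    rw [Module.support_eq_zeroLocus, PrimeSpectrum.mem_zeroLocus, SetLike.coe_subset_coe] at hq'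
    obtain ⟨T, hT, hTq⟩ := Ideal.exists_minimalPrimes_le hq'
    haveI : T.IsPrime := hT.1.1
    obtain ⟨_, e, he⟩ := isAssociatedPrime_iff.1
      (Module.associatedPrimes.minimalPrimes_annihilator_subset_associatedPrimes S C.X₃ hT)
    refine h ⟨T, inferInstance⟩ (Module.support_subset_of_surjective C.g.hom
      ((ModuleCat.epi_iff_surjective C.g).1 hC.epi_g) (Module.mem_support_iff_of_finite.2 hT.1.2)) ?_ q hTq haq k hk
    intro hb
    change a ≤ T at hb
    have h0 : e ∈ DRing.torsionSub a C.X₃ := ⟨1, fun c hc => by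
      have hcT := hb (by rwa [pow_one] at hc)
      rwa [he, Submodule.mem_colon_singleton, Submodule.mem_bot] at hcT⟩
    have h1 := torsionSub_quotient_eq_bot a E
    have h2 : e = 0 := (Submodule.mem_bot S).1 (h1 ▸ h0)
    exact hT.1.1.ne_top ((Ideal.eq_top_iff_one T).2 (by
      rw [he, Submodule.mem_colon_singleton, Submodule.mem_bot, h2, smul_zero]))

omit [IsRegularRing S] in
theorem finite_homology [IsNoetherianRing S] (G : MCx S) (hG : ∀ p, Module.Finite S (G.X p)) (j : ℤ) :
    Module.Finite S (G.homology j) := by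
  haveI : Module.Finite S (G.sc j).X₂ := hG j
  haveI : Module.Finite S (LinearMap.ker (G.sc j).g.hom) := Module.Finite.iff_fg.2 (IsNoetherian.noetherian _)
  exact Module.Finite.of_surjective (scCls (G.sc j)) (scCls_surjective _)

/-- The criteria, for the duals `E j = Ext^j(M, S)` of a finite module `M`. -/
theorem exists_dual (M : ModuleCat.{u} S) [Module.Finite S M] :
    ∃ E : ℤ → ModuleCat.{u} S, (∀ j, Module.Finite S (E j)) ∧
      (∀ (a : Ideal S) (b : S) (i : ℕ), (∀ (j : ℤ) (T : PrimeSpectrum S), T ∈ Module.support S (E j) →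
          b ∉ T.asIdeal → ∀ q : PrimeSpectrum S, T.asIdeal ≤ q.asIdeal → a ≤ q.asIdeal →
            ∀ k : ℕ, j + i = k → q.asIdeal.height ≠ k) → Kl b ((localCohomology a i).obj M)) ∧
      (∀ (P : PrimeSpectrum S) (d l : ℕ), P.asIdeal.height = d →
        (Sm P.asIdeal ((localCohomology P.asIdeal l).obj M) ↔ P ∉ Module.support S (E ((d : ℤ) - l)))) ∧
      (∀ (a : Ideal S) (i : ℕ), (∀ (j : ℤ) (T : PrimeSpectrum S), T ∈ Module.support S (E j) →
          ¬ a ≤ T.asIdeal → ∀ q : PrimeSpectrum S, T.asIdeal ≤ q.asIdeal → a ≤ q.asIdeal →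
            ∀ k : ℕ, j + i = k → q.asIdeal.height ≠ k) → Module.Finite S ((localCohomology a i).obj M)) ∧
      (∀ (P : PrimeSpectrum S) (d : ℕ) (j : ℤ), P.asIdeal.height = d → P ∈ Module.support S (E j) → j ≤ d) ∧
      ∀ (P : Ideal S) [P.IsMaximal], (∀ Q : Ideal S, Q.IsPrime → Q ≤ P) → ∀ (d i : ℕ) (s : S), P.height = d →
        Kl s ((localCohomology P i).obj M) → ∃ k : ℕ, ∀ e : E ((d : ℤ) - i), s ^ k • e = 0 := by
  let P₀ := injectiveResolution (ModuleCat.of S S)
  obtain ⟨T, hT⟩ := ProjDim.exists_projDim_of_regular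
    (A := S) (fun p => IsRegularRing.isRegularLocalRing_localization p.asIdeal) M
  obtain ⟨G, hfin, hzero, hiso, hneg⟩ := exists_dualRes P₀ M T hT
  have hbd : ∀ i, i < (0 : ℤ) ∨ (0 : ℤ) + (T + 1 : ℕ) ≤ i → IsZero (G.homology i) := fun i hi => by
    rw [← HomologicalComplex.exactAt_iff_isZero_homology]
    exact HomologicalComplex.ExactAt.of_isZero (hzero i (by push_cast at hi; omega))
  haveI hfin' : ∀ j, Module.Finite S (G.homology j) := finite_homology G hfin
  refine ⟨fun j => G.homology j, hfin', fun a b i h => ?_, fun P d l hd => ?_, fun a i h => ?_, fun P d j hd hmem => ?_, fun P hP hloc d i s hd hs => ?_⟩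
  · obtain ⟨e⟩ := hiso a i
    exact (midClosed_kl b).iso e.symm (devissage (midClosed_kl b) (T + 1) 0 G hbd i
      fun j => kl_piece P₀ a b (G.homology j) j i (h j))
  · haveI := P.2
    obtain ⟨e⟩ := hiso P.asIdeal l
    refine ⟨fun hsm hmem => not_sm_piece P₀ P.asIdeal hd (G.homology ((d : ℤ) - l)) _ _ (by omega) hmem
      (devissage_inv (midClosed_sm P.asIdeal) d (T + 1) 0 G hbd
        (fun j m hjm => sm_piece P₀ P.asIdeal hd (G.homology j) j m hjm) l
          ((midClosed_sm P.asIdeal).iso e hsm)), fun hmem => ?_⟩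
    refine (midClosed_sm P.asIdeal).iso e.symm (devissage (midClosed_sm P.asIdeal) (T + 1) 0 G hbd l fun j => ?_)
    by_cases hj : j + (l : ℤ) = d
    · obtain rfl : j = (d : ℤ) - l := by omega
      intro x
      rw [Module.mem_support_iff_of_finite] at hmem
      obtain ⟨u, hu, huP⟩ := SetLike.not_le_iff_exists.1 hmem
      exact ⟨u, huP, smul_piece_eq_zero P₀ _ _ _ _ (fun e => Module.mem_annihilator.1 hu e) x⟩
    · exact sm_piece P₀ P.asIdeal hd (G.homology j) j l hj
  · obtain ⟨e⟩ := hiso a i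
    exact midClosed_finite.iso e.symm (devissage midClosed_finite (T + 1) 0 G hbd i
      fun j => finite_piece P₀ a (G.homology j) j i (h j))
  · haveI := P.2
    by_contra hlt
    have h2 := devissage_inv (midClosed_sm P.asIdeal) d (T + 1) 0 G hbd
      (fun j' m hjm => sm_piece P₀ P.asIdeal hd (G.homology j') j' m hjm) ((d : ℤ) - j)
        ((midClosed_sm P.asIdeal).zero _ (hneg _ _ (by omega)))
    rw [show (d : ℤ) - ((d : ℤ) - j) = j by omega] at h2
    exact not_sm_piece P₀ P.asIdeal hd (G.homology j) _ _ (by omega) hmem h2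
  · obtain ⟨e⟩ := hiso P i
    refine kl_of_kl_piece P₀ P hd (G.homology ((d : ℤ) - i)) hloc ((d : ℤ) - i) i (by omega) s
      (devissage_inv (midClosed_kl s) d (T + 1) 0 G hbd (fun j m hjm => ?_) i ((midClosed_kl s).iso e hs))
    refine (midClosed_kl s).zero _ (subsingleton_piece P₀ P (G.homology j) j m fun q _ hq k hk => ?_)
    rw [le_antisymm (hloc q.asIdeal q.2) hq, hd, Ne, Nat.cast_inj]
    rintro rfl
    exact hjm hk

end Groth.Agent.LocCohLib
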