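import Groth.Agent.LocCohLib.DualFinal
import Groth.Agent.DepthLib.SupportHeight

/-!
# Depth forms of the finiteness theorem
-/

set_option autoImplicit false
set_option linter.style.haveILetI false
set_option linter.unusedVariables false

universe u

open CategoryTheory CategoryTheory.Limits

namespace Groth.Agent.LocCohLib

variable {A : Type u} [CommRing A] [IsNoetherianRing A]

theorem natCast_le_depth_localized_iff (p : PrimeSpectrum A) (M : Type u) [AddCommGroup M] [Module A M]
    [Module.Finite A M] (n : ℕ) :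
    (n : ℕ∞) ≤ LocCoh.depth (Localization.AtPrime p.asIdeal) (LocalizedModule p.asIdeal.primeCompl M) ↔
      ∀ j : ℕ, j < n → Subsingleton (LocCoh.H (IsLocalRing.maximalIdeal (Localization.AtPrime p.asIdeal)) j
        (LocalizedModule p.asIdeal.primeCompl M)) := by
  haveI : IsNoetherianRing (Localization.AtPrime p.asIdeal) :=
    IsLocalization.isNoetherianRing p.asIdeal.primeCompl _ inferInstance
  haveI : Module.Finite (Localization.AtPrime p.asIdeal) (LocalizedModule p.asIdeal.primeCompl M) :=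
    Module.Finite.of_isLocalizedModule p.asIdeal.primeCompl
      (LocalizedModule.mkLinearMap p.asIdeal.primeCompl M)
  exact natCast_le_idealDepth_iff_vanishing (IsLocalRing.maximalIdeal (Localization.AtPrime p.asIdeal))
    (LocalizedModule p.asIdeal.primeCompl M) n

/-- Finiteness below `n` gives the depth bound at every prime. -/
theorem lt_depth_add_relCodim_of_finite (I : Ideal A) (M : Type u) [AddCommGroup M] [Module A M]
    [Module.Finite A M] (n : ℕ) (h : ∀ i : ℕ, i ≤ n → Module.Finite A (LocCoh.H I i M))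
    (p : PrimeSpectrum A) (hp : ¬ I ≤ p.asIdeal) :
    (n : ℕ∞) < LocCoh.depth (Localization.AtPrime p.asIdeal) (LocalizedModule p.asIdeal.primeCompl M) +
      SGA2.relCodim I p := by
  have h1 : ((n + 1 : ℕ) : ℕ∞) ≤ LocCoh.finDimRel I I M := le_iInf₂ fun i hi => by
    by_contra hlt
    rw [not_le, Nat.cast_lt, Nat.lt_succ_iff] at hlt
    obtain ⟨k, hk⟩ := killed_of_finite (I := I) (M := ModuleCat.of A M) (i := i) (h i hlt)
    exact hi fun c hc => ⟨k, Module.mem_annihilator.2 fun x => hk _ (Ideal.pow_mem_pow hc k) x⟩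
  have h2 := (h1.trans (finDimRel_le_minAdjDepth I I (ModuleCat.of A M))).trans (iInf₂_le p hp)
  refine lt_of_lt_of_le (lt_of_lt_of_le (by exact_mod_cast Nat.lt_succ_self n) h2) ?_
  refine add_le_add le_rfl (le_iInf fun q => ?_)
  rw [height_Ici p q.1 q.2.1]
  exact Ideal.height_mono (Ideal.map_mono (sup_le q.2.2 q.2.1))

omit [IsNoetherianRing A] in
theorem one_le_height_Ici {I : Ideal A} {p : PrimeSpectrum A} (hp : ¬ I ≤ p.asIdeal)
    (q : {q : PrimeSpectrum A // p ≤ q ∧ I ≤ q.asIdeal}) :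
    1 ≤ Order.height (⟨q.1, q.2.1⟩ : Set.Ici p) := by
  rw [Order.one_le_iff_pos, Order.height_pos, not_isMin_iff]
  refine ⟨⟨p, Set.self_mem_Ici⟩, lt_of_le_of_ne q.2.1 fun e => hp ?_⟩
  have e' : p = q.1 := congrArg Subtype.val e
  exact e' ▸ q.2.2

/-- Codimension one means that some prime containing `I` covers `p`. -/
theorem relCodim_eq_one_iff {I : Ideal A} {p : PrimeSpectrum A} (hp : ¬ I ≤ p.asIdeal) :
    SGA2.relCodim I p = 1 ↔ ∃ q : PrimeSpectrum A, I ≤ q.asIdeal ∧ p ⋖ q := by
  constructor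
  · intro hc
    haveI : Nonempty {q : PrimeSpectrum A // p ≤ q ∧ I ≤ q.asIdeal} := by
      by_contra hne
      rw [not_nonempty_iff] at hne
      rw [SGA2.relCodim, iInf_of_empty] at hc
      exact ENat.top_ne_one hc
    obtain ⟨⟨q, hpq, hIq⟩, hq⟩ := ENat.exists_eq_iInf
      (fun q : {q : PrimeSpectrum A // p ≤ q ∧ I ≤ q.asIdeal} => Order.height (⟨q.1, q.2.1⟩ : Set.Ici p))
    have hq1 : Order.height (⟨q, hpq⟩ : Set.Ici p) = ((1 : ℕ) : ℕ∞) := hq.trans hc
    refine ⟨q, hIq, lt_of_le_of_ne hpq fun e => hp (e ▸ hIq), fun r hpr hrq => ?_⟩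
    have h1 := Order.height_le_coe_iff.1 hq1.le (⟨r, hpr.le⟩ : Set.Ici p) hrq
    rw [Nat.cast_one, ENat.lt_one_iff_eq_zero, Order.height_eq_zero] at h1
    exact hpr.ne (le_antisymm hpr.le (h1 (show (⟨p, Set.self_mem_Ici⟩ : Set.Ici p) ≤ ⟨r, hpr.le⟩ from hpr.le)))
  · rintro ⟨q, hIq, hpq⟩
    refine le_antisymm ((iInf_le _ (⟨q, hpq.le, hIq⟩ : {q : PrimeSpectrum A // p ≤ q ∧ I ≤ q.asIdeal})).trans ?_)
      (le_iInf (one_le_height_Ici hp))
    refine (Order.height_le_coe_iff (n := 1)).2 fun r hr => ?_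
    rw [Nat.cast_one, ENat.lt_one_iff_eq_zero, Order.height_eq_zero]
    have hrp : r.1 = p := by
      by_contra hne
      exact hpq.2 (lt_of_le_of_ne r.2 (Ne.symm hne)) hr
    intro s hs
    exact (show r.1 ≤ s.1 from hrp.le.trans s.2)

variable {S : Type u} [CommRing S] [IsRegularRing S] [Algebra S A] (hs : Function.Surjective (algebraMap S A))
include hs

/-- The codimension-one depth condition gives finiteness. -/
theorem finite_of_depth (I : Ideal A) (M : Type u) [AddCommGroup M] [Module A M] [Module.Finite A M] (n : ℕ)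
    (h : ∀ p : PrimeSpectrum A, ¬ I ≤ p.asIdeal → SGA2.relCodim I p = 1 →
      (n : ℕ∞) ≤ LocCoh.depth (Localization.AtPrime p.asIdeal) (LocalizedModule p.asIdeal.primeCompl M))
    (i : ℕ) (hi : i ≤ n) : Module.Finite A (LocCoh.H I i M) :=
  finite_of_stalk_vanishing hs I M i fun p hp hc j hj =>
    (natCast_le_depth_localized_iff p M n).1 (h p hp hc) j (by omega)

omit [IsNoetherianRing A] [IsRegularRing S] hs in
theorem depth_eq_top_of_subsingleton {B : Type u} [CommRing B] [IsLocalRing B] (N : Type u) [AddCommGroup N]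
    [Module B N] [Subsingleton N] : LocCoh.depth B N = ⊤ :=
  if_pos (Subsingleton.elim _ _)

theorem finite_iff_of_isCM (I : Ideal A) (M : Type u) [AddCommGroup M] [Module A M] [Module.Finite A M]
    (hCM : ∀ p : PrimeSpectrum A, ¬ I ≤ p.asIdeal → Subsingleton (LocalizedModule p.asIdeal.primeCompl M) ∨
      LocCoh.IsCohenMacaulayModule (Localization.AtPrime p.asIdeal) (LocalizedModule p.asIdeal.primeCompl M))
    (n : ℕ) : (∀ i : ℕ, i ≤ n → Module.Finite A (LocCoh.H I i M)) ↔
      ∀ p : PrimeSpectrum A, ¬ I ≤ p.asIdeal → p.asIdeal ∈ (Module.annihilator A M).minimalPrimes →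
        (n : ℕ∞) < SGA2.relCodim I p := by
  constructor
  · intro h p hp hmin
    have h1 := lt_depth_add_relCodim_of_finite I M n h p hp
    rwa [DepthLib.depth_localization_eq_zero_of_mem_associatedPrimes p.asIdeal
      (Module.associatedPrimes.minimalPrimes_annihilator_subset_associatedPrimes A M hmin), zero_add] at h1
  · intro h
    refine finite_of_depth hs I M n fun p hp hc => ?_
    rcases hCM p hp with hsub | hcm
    · rw [depth_eq_top_of_subsingleton]; exact le_top
    by_cases hsupp : p ∈ Module.support A M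
    swap
    · rw [Module.notMem_support_iff] at hsupp
      rw [depth_eq_top_of_subsingleton]; exact le_top
    obtain ⟨q, hIq, hpq⟩ := (relCodim_eq_one_iff hp).1 hc
    have hann := (Module.mem_support_iff_of_finite).1 hsupp
    obtain ⟨P₀, hmin, hP₀p⟩ := Ideal.exists_minimalPrimes_le hann
    let p₀ : PrimeSpectrum A := ⟨P₀, hmin.1.1⟩
    obtain ⟨t₀, ht₀⟩ := exists_height hs p₀
    obtain ⟨t, ht⟩ := exists_height hs p
    obtain ⟨v, hv⟩ := exists_height hs q
    obtain ⟨h01, e01⟩ := height_quot_eq hs p₀ p hP₀p ht₀ ht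
    obtain ⟨h02, e02⟩ := height_quot_eq hs p₀ q (hP₀p.trans hpq.le) ht₀ hv
    obtain ⟨h12, e12⟩ := height_quot_eq hs p q hpq.le ht hv
    have hv1 : v - t = 1 := by
      have h1 : Order.height (⟨q, hpq.le⟩ : Set.Ici p) ≤ ((1 : ℕ) : ℕ∞) := Order.height_le_coe_iff.2 fun r hr => by
        rw [Nat.cast_one, ENat.lt_one_iff_eq_zero, Order.height_eq_zero]
        have hrp : r.1 = p := by
          by_contra hne
          exact hpq.2 (lt_of_le_of_ne r.2 (Ne.symm hne)) hr
        intro s hs
        exact (show r.1 ≤ s.1 from hrp.le.trans s.2)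
      have h2 := one_le_height_Ici hp ⟨q, hpq.le, hIq⟩
      rw [height_Ici p q hpq.le, e12] at h1 h2
      rw [Nat.cast_le] at h1
      rw [← Nat.cast_one, Nat.cast_le] at h2
      omega
    have hn : (n : ℕ∞) < ((v - t₀ : ℕ) : ℕ∞) := by
      refine (h p₀ (fun hle => hp (hle.trans hP₀p)) hmin).trans_le ?_
      refine (iInf_le _ (⟨q, hP₀p.trans hpq.le, hIq⟩ :
        {q : PrimeSpectrum A // p₀ ≤ q ∧ I ≤ q.asIdeal})).trans ?_
      rw [height_Ici p₀ q (hP₀p.trans hpq.le), e02]
    rw [Nat.cast_lt] at hn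
    have hdim : ((t - t₀ : ℕ) : ℕ∞) ≤ Order.height (⟨p, hsupp⟩ : Module.support A M) := by
      rw [← e01, ← height_Ici p₀ p hP₀p]
      exact Order.height_le_height_apply_of_strictMono
        (fun r : Set.Ici p₀ => (⟨r.1, Module.mem_support_iff_of_finite.2 (hmin.1.2.trans r.2)⟩ : Module.support A M))
        (fun a b hab => hab) ⟨p, hP₀p⟩
    have hcm' : Module.supportDim (Localization.AtPrime p.asIdeal) (LocalizedModule p.asIdeal.primeCompl M) =
      ((LocCoh.depth (Localization.AtPrime p.asIdeal) (LocalizedModule p.asIdeal.primeCompl M) : ℕ∞) : WithBot ℕ∞) := hcm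
    rw [DepthLib.supportDim_localization_eq_height ⟨p, hsupp⟩] at hcm'
    rw [← WithBot.coe_injective hcm']
    refine le_trans ?_ hdim
    rw [Nat.cast_le]
    omega

end Groth.Agent.LocCohLib
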