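import Groth.Agent.LocCohLib.HomCx
import Groth.Agent.LocCohLib.CechCompare
import Mathlib.Algebra.Homology.DerivedCategory.KInjective
import Mathlib.Algebra.Homology.DerivedCategory.KProjective
import Mathlib.Algebra.Homology.DerivedCategory.SingleTriangle
import Mathlib.CategoryTheory.Abelian.Projective.Dimension
import Mathlib.Algebra.Category.ModuleCat.Biproducts
import Mathlib.Data.Int.Interval
import Mathlib.LinearAlgebra.Dual.Lemmas

/-!
# Finite resolutions and the dual computation of local cohomology
-/

set_option autoImplicit false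
set_option linter.style.haveILetI false
set_option linter.unusedVariables false

universe u

open CategoryTheory CategoryTheory.Limits CochainComplex CochainComplex.HomComplex

attribute [local instance] HasDerivedCategory.standard

namespace Groth.Agent.LocCohLib

variable {S : Type u} [CommRing S]

/-- A complex concentrated in one degree. -/
noncomputable abbrev sgl (n : ℤ) (M : ModuleCat.{u} S) : MCx S :=
  (CochainComplex.singleFunctor (ModuleCat.{u} S) n).obj M

/-- A bounded complex of finite projective modules in degrees `[-T, 0]`. -/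
structure IsFinPerf (F : MCx S) (T : ℕ) : Prop where
  finite : ∀ n, Module.Finite S (F.X n)
  proj : ∀ n, Module.Projective S (F.X n)
  zero : ∀ n, n < -(T : ℤ) ∨ 0 < n → IsZero (F.X n)

theorem projective_obj (M : ModuleCat.{u} S) [Module.Projective S M] : Projective M :=
  ModuleCat.projective_of_categoryTheory_projective (P := M)

theorem subsingleton_sgl {n p : ℤ} (M : ModuleCat.{u} S) (h : p ≠ n) : IsZero ((sgl n M).X p) :=
  HomologicalComplex.isZero_single_obj_X _ _ _ _ h

theorem isFinPerf_sgl (M : ModuleCat.{u} S) [Module.Finite S M] [Module.Projective S M] :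
    IsFinPerf (sgl 0 M) 0 where
  finite n := by
    by_cases h : n = 0
    · subst h
      exact Module.Finite.equiv (HomologicalComplex.singleObjXSelf (ComplexShape.up ℤ) 0 M).toLinearEquiv.symm
    · haveI := ModuleCat.subsingleton_of_isZero (subsingleton_sgl M h)
      infer_instance
  proj n := by
    by_cases h : n = 0
    · subst h
      exact Module.Projective.of_equiv (HomologicalComplex.singleObjXSelf (ComplexShape.up ℤ) 0 M).toLinearEquiv.symm
    · haveI := ModuleCat.subsingleton_of_isZero (subsingleton_sgl M h)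
      exact Module.Projective.of_free
  zero n h := subsingleton_sgl M (by omega)

theorem IsFinPerf.isKProjective {F : MCx S} {T : ℕ} (h : IsFinPerf F T) : F.IsKProjective := by
  haveI : F.IsStrictlyLE 0 := (CochainComplex.isStrictlyLE_iff _ _).2 fun i hi => h.zero i (Or.inr hi)
  haveI : ∀ n, Projective (F.X n) := fun n => (haveI := h.proj n; projective_obj _)
  exact CochainComplex.isKProjective_of_projective F 0

section Res

variable [IsNoetherianRing S]

/-- A module of finite projective dimension has a finite projective resolution. -/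
theorem exists_finRes : ∀ (T : ℕ) (M : ModuleCat.{u} S) [Module.Finite S M],
    HasProjectiveDimensionLE M T → ∃ F : MCx S, IsFinPerf F T ∧
      Nonempty (DerivedCategory.Q.obj F ≅ (DerivedCategory.singleFunctor (ModuleCat.{u} S) 0).obj M) := by
  intro T
  induction T with
  | zero =>
    intro M _ hpd
    haveI : Projective M := (projective_iff_hasProjectiveDimensionLE_zero M).2 hpd
    haveI : Module.Projective S M := (IsProjective.iff_projective M).2 inferInstance
    exact ⟨sgl 0 M, isFinPerf_sgl M,
      ⟨((DerivedCategory.singleFunctorIsoCompQ (ModuleCat.{u} S) 0).app M).symm⟩⟩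
  | succ T ih =>
    intro M _ hpd
    obtain ⟨k, π, hπ⟩ := Module.Finite.exists_fin' S M
    let C : ShortComplex (ModuleCat.{u} S) :=
      ShortComplex.mk (X₁ := ModuleCat.of S (LinearMap.ker π)) (X₂ := ModuleCat.of S (Fin k → S)) (X₃ := M)
        (ModuleCat.ofHom (LinearMap.ker π).subtype) (ModuleCat.ofHom (Y := M) π)
        (ModuleCat.hom_ext (LinearMap.ext fun x => x.2))
    have hC : C.ShortExact :=
      { exact := (ShortComplex.ShortExact.moduleCat_exact_iff_function_exact _).2
          (LinearMap.exact_subtype_ker_map π)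
        mono_f := (ModuleCat.mono_iff_injective _).2 Subtype.val_injective
        epi_g := (ModuleCat.epi_iff_surjective _).2 hπ }
    haveI : Module.Projective S C.X₂ := (inferInstance : Module.Projective S (Fin k → S))
    haveI : Module.Finite S C.X₂ := (inferInstance : Module.Finite S (Fin k → S))
    haveI : Projective C.X₂ := projective_obj _
    haveI : Module.Finite S (LinearMap.ker π) := Module.Finite.iff_fg.2 (IsNoetherian.noetherian _)
    obtain ⟨F, hF, ⟨e⟩⟩ := ih (ModuleCat.of S (LinearMap.ker π))
      (hC.hasProjectiveDimensionLT_X₁ (T + 1) inferInstance hpd)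
    haveI := hF.isKProjective
    let e₂ := (DerivedCategory.singleFunctorIsoCompQ (ModuleCat.{u} S) 0).app C.X₂
    let qF := (DerivedCategory.quotientCompQhIso (ModuleCat.{u} S)).app F
    let qS := (DerivedCategory.quotientCompQhIso (ModuleCat.{u} S)).app (sgl 0 C.X₂)
    obtain ⟨g, hg⟩ := (CochainComplex.IsKProjective.Qh_map_bijective F
      ((HomotopyCategory.quotient _ _).obj (sgl 0 C.X₂))).2
        (qF.hom ≫ (e.hom ≫ (DerivedCategory.singleFunctor _ 0).map C.f ≫ e₂.hom) ≫ qS.inv)
    obtain ⟨φ, rfl⟩ := (HomotopyCategory.quotient _ _).map_surjective g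
    have hφ : DerivedCategory.Q.map φ = e.hom ≫ (DerivedCategory.singleFunctor _ 0).map C.f ≫ e₂.hom := by
      have h1 := (DerivedCategory.quotientCompQhIso (ModuleCat.{u} S)).hom.naturality φ
      refine (cancel_epi qF.hom).1 (h1.symm.trans ?_)
      refine (congrArg (fun t => t ≫ qS.hom) hg).trans ?_
      refine (Category.assoc _ _ _).trans (congrArg (fun t => qF.hom ≫ t) ((Category.assoc _ _ _).trans ?_))
      exact (congrArg (fun t => _ ≫ t) qS.inv_hom_id).trans (Category.comp_id _)
    let X' := CochainComplex.mappingCone φ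
    refine ⟨X', ?_, ?_⟩
    · have hX : ∀ n, Nonempty (X'.X n ≅ ModuleCat.of S (F.X (n + 1) × (sgl 0 C.X₂).X n)) := fun n =>
        ⟨HomologicalComplex.homotopyCofiber.XIsoBiprod φ n (n + 1) rfl ≪≫ ModuleCat.biprodIsoProd _ _⟩
      have h0 := isFinPerf_sgl C.X₂
      refine ⟨fun n => ?_, fun n => ?_, fun n hn => ?_⟩
      · obtain ⟨i⟩ := hX n
        haveI := hF.finite (n + 1)
        haveI := h0.finite n
        exact Module.Finite.equiv i.toLinearEquiv.symm
      · obtain ⟨i⟩ := hX n
        haveI := hF.proj (n + 1)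
        haveI := h0.proj n
        exact Module.Projective.of_equiv i.toLinearEquiv.symm
      · obtain ⟨i⟩ := hX n
        haveI := ModuleCat.subsingleton_of_isZero (hF.zero (n + 1) (by push_cast at hn; omega))
        haveI := ModuleCat.subsingleton_of_isZero (h0.zero n (by push_cast at hn ⊢; omega))
        exact (ModuleCat.isZero_of_subsingleton _).of_iso i
    · let t := Pretriangulated.isoTriangleOfIso₁₂ _ _ (DerivedCategory.mappingCone_triangle_distinguished φ)
        hC.singleTriangle_distinguished e e₂.symm (by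
          show DerivedCategory.Q.map φ ≫ e₂.inv = e.hom ≫ (DerivedCategory.singleFunctor _ 0).map C.f
          rw [hφ, Category.assoc, Category.assoc, Iso.hom_inv_id, Category.comp_id])
      exact ⟨Pretriangulated.Triangle.π₃.mapIso t⟩

end Res

/-- The dual complex. -/
noncomputable def dualCx (F : MCx S) : MCx S where
  X p := ModuleCat.of S (Module.Dual S (F.X (-p)))
  d p q := ModuleCat.ofHom (((q + 1).negOnePow : ℤ) • (F.d (-q) (-p)).hom.dualMap)
  shape p q h := by
    rw [F.shape (-q) (-p) (fun h' => h (by simp at h' ⊢; omega))]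
    ext f x
    simp
  d_comp_d' p q r _ _ := by
    refine ModuleCat.hom_ext (LinearMap.ext fun f => LinearMap.ext fun x => ?_)
    show ((r + 1).negOnePow : ℤ) • ((q + 1).negOnePow : ℤ) • f ((F.d (-q) (-p)) ((F.d (-r) (-q)) x)) = (0 : S)
    rw [← ModuleCat.comp_apply, F.d_comp_d]
    simp

theorem toSingleMk_smul {X : ModuleCat.{u} S} {K : MCx S} {p q : ℤ} (r : S) (f : K.X p ⟶ X) {n : ℤ}
    (h : p + n = q) : Cochain.toSingleMk (r • f) h = r • Cochain.toSingleMk f h := by
  refine Cochain.ext _ _ fun p' q' h' => ?_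
  rw [Cochain.smul_v]
  by_cases hp : p' = p
  · subst hp
    obtain rfl : q' = q := by omega
    rw [Cochain.toSingleMk_v, Cochain.toSingleMk_v]
    exact Linear.smul_comp _ _ _ _ _ _
  · rw [Cochain.toSingleMk_v_eq_zero _ _ _ _ _ hp, Cochain.toSingleMk_v_eq_zero _ _ _ _ _ hp]
    exact (smul_zero _).symm

/-- Evaluation. -/
noncomputable def evalAt (F : MCx S) (n : ℤ) :
    F.X n →ₗ[S] Cochain (dualCx F) (sgl 0 (ModuleCat.of S S)) n where
  toFun x := Cochain.toSingleMk (p := -n)
    (ModuleCat.ofHom (X := Module.Dual S (F.X (- -n)))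
      (Module.Dual.eval S (F.X (- -n)) ((F.XIsoOfEq (neg_neg n).symm).hom x))) (neg_add_cancel n)
  map_add' x y := by
    refine (congrArg (fun t => Cochain.toSingleMk t (neg_add_cancel n)) ?_).trans (Cochain.toSingleMk_add _ _ _)
    refine ModuleCat.hom_ext (LinearMap.ext fun (f : Module.Dual S (F.X (- -n))) => ?_)
    show f ((F.XIsoOfEq (neg_neg n).symm).hom (x + y)) =
      f ((F.XIsoOfEq (neg_neg n).symm).hom x) + f ((F.XIsoOfEq (neg_neg n).symm).hom y)
    rw [map_add, map_add]
  map_smul' r x := by
    refine (congrArg (fun t => Cochain.toSingleMk t (neg_add_cancel n)) ?_).trans (toSingleMk_smul r _ _)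
    refine ModuleCat.hom_ext (LinearMap.ext fun (f : Module.Dual S (F.X (- -n))) => ?_)
    show f ((F.XIsoOfEq (neg_neg n).symm).hom (r • x)) = r • f ((F.XIsoOfEq (neg_neg n).symm).hom x)
    rw [map_smul, map_smul]

theorem bijective_evalAt (F : MCx S) (n : ℤ) [Module.Projective S (F.X n)] [Module.Finite S (F.X n)] :
    Function.Bijective (evalAt F n) := by
  let i := (F.XIsoOfEq (neg_neg n).symm).toLinearEquiv
  haveI := Module.Projective.of_equiv i
  haveI := Module.Finite.equiv i
  have h1 : Function.Bijective fun x => ModuleCat.ofHom (X := Module.Dual S (F.X (- -n))) (Y := S)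
      (Module.Dual.eval S (F.X (- -n)) (i x)) := by
    refine Function.Bijective.comp (g := fun t => ModuleCat.ofHom (X := Module.Dual S (F.X (- -n))) (Y := S) t)
      ⟨fun a b h => congrArg ModuleCat.Hom.hom h, fun g => ⟨g.hom, rfl⟩⟩
      (Function.Bijective.comp (g := Module.Dual.eval S (F.X (- -n))) (Module.bijective_dual_eval S _) i.bijective)
  exact Function.Bijective.comp (g := fun t => Cochain.toSingleMk t (neg_add_cancel n))
    (Cochain.toSingleEquiv (X := ModuleCat.of S S) (K := dualCx F) (neg_add_cancel n)).symm.bijective h1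

/-- Biduality. -/
noncomputable def bidualIso (F : MCx S) (hp : ∀ n, Module.Projective S (F.X n))
    (hf : ∀ n, Module.Finite S (F.X n)) : F ≅ homCx (dualCx F) (sgl 0 (ModuleCat.of S S)) :=
  HomologicalComplex.Hom.isoOfComponents
    (fun n => (LinearEquiv.ofBijective (evalAt F n)
      (haveI := hp n; haveI := hf n; bijective_evalAt F n)).toModuleIso)
    (fun n m (h : n + 1 = m) => ModuleCat.hom_ext (LinearMap.ext fun x => by
      show HomComplex.δ n m (evalAt F n x) = evalAt F m (F.d n m x)
      refine (Cochain.δ_toSingleMk _ (neg_add_cancel n) m (-m) (neg_add_cancel m)).trans ?_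
      refine (Cochain.toSingleEquiv (neg_add_cancel m)).injective ?_
      rw [Units.smul_def, map_zsmul, Cochain.toSingleEquiv_toSingleMk]
      refine Eq.trans ?_ (Cochain.toSingleEquiv_toSingleMk _ _).symm
      refine ModuleCat.hom_ext (LinearMap.ext fun (f : Module.Dual S (F.X (- -m))) => ?_)
      show (m.negOnePow : ℤ) • ((-n + 1).negOnePow : ℤ) • f (F.d (- -n) (- -m) ((F.XIsoOfEq (neg_neg n).symm).hom x)) =
        f ((F.XIsoOfEq (neg_neg m).symm).hom (F.d n m x))
      rw [← ModuleCat.comp_apply, ← ModuleCat.comp_apply, HomologicalComplex.XIsoOfEq_hom_comp_d,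
        HomologicalComplex.d_comp_XIsoOfEq_hom, smul_smul, ← Units.val_mul, ← Int.negOnePow_add,
        Int.negOnePow_even _ ⟨1, by omega⟩, Units.val_one, one_smul]))

theorem isZero_dualCx_X {F : MCx S} {T : ℕ} (h : IsFinPerf F T) (p : ℤ) (hp : p < 0 ∨ (T : ℤ) < p) :
    IsZero ((dualCx F).X p) := by
  haveI := ModuleCat.subsingleton_of_isZero (h.zero (-p) (by omega))
  exact @ModuleCat.isZero_of_subsingleton _ _ _ (⟨fun (a b : Module.Dual S (F.X (-p))) =>
    LinearMap.ext fun x => by rw [Subsingleton.elim x 0, map_zero, map_zero]⟩)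

theorem quasiIso_homCxPost (X : MCx S) [∀ p, Projective (X.X p)] [X.IsKProjective] {A B : MCx S}
    (f : A ⟶ B) [Mono f] [QuasiIso f] : QuasiIso (homCxPost X f) := by
  let C : ShortComplex (MCx S) := ShortComplex.mk f (cokernel.π f) (cokernel.condition f)
  have hC : C.ShortExact := { exact := ShortComplex.exact_cokernel f }
  haveI : QuasiIso C.f := ‹QuasiIso f›
  have hiso : ∀ i, IsIso (HomologicalComplex.homologyMap C.f i) := fun i => inferInstance
  have hac : C.X₃.Acyclic := fun i => by
    rw [HomologicalComplex.exactAt_iff_isZero_homology]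
    haveI := hiso i
    haveI := hiso (i + 1)
    refine (hC.homology_exact₃ i (i + 1) rfl).isZero_X₂ ?_ ?_
    · exact (cancel_epi (HomologicalComplex.homologyMap C.f i)).1
        ((HomologicalComplex.homologyMap_comp C.f C.g i).symm.trans
          (by rw [C.zero, HomologicalComplex.homologyMap_zero, comp_zero]))
    · exact (cancel_mono (HomologicalComplex.homologyMap C.f (i + 1))).1
        ((hC.δ_comp i (i + 1) rfl).trans zero_comp.symm)
  have hS := homShortPost_shortExact X hC
  have h3 : ∀ i, IsZero ((homShortPost X C).X₃.homology i) := fun i =>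
    haveI := subsingleton_homology_of_isKProjective (X := X) hac i
    ModuleCat.isZero_of_subsingleton _
  refine ⟨fun i => ?_⟩
  rw [quasiIsoAt_iff_isIso_homologyMap]
  haveI : Mono (HomologicalComplex.homologyMap (homShortPost X C).f i) :=
    (hS.homology_exact₁ (i - 1) i (by simp)).mono_g ((h3 (i - 1)).eq_of_src _ _)
  haveI : Epi (HomologicalComplex.homologyMap (homShortPost X C).f i) :=
    (hS.homology_exact₂ i).epi_f ((h3 i).eq_of_tgt _ _)
  exact isIso_of_mono_of_epi (HomologicalComplex.homologyMap (homShortPost X C).f i)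

theorem mono_resolution {N : ModuleCat.{u} S} (P : InjectiveResolution N) : Mono P.ι' := by
  haveI : ∀ i, Mono (P.ι'.f i) := fun i => by
    by_cases h : i = 0
    · subst h
      rw [P.ι'_f_zero]
      exact ⟨fun a b h => (cancel_mono (HomologicalComplex.singleObjXSelf (ComplexShape.up ℤ) 0 N).hom).1 ((cancel_mono (P.ι.f 0)).1 ((cancel_mono (P.cochainComplexXIso 0 0 rfl).inv).1 (by simpa only [Category.assoc] using! h)))⟩
    · exact ⟨fun a b _ => (subsingleton_sgl N h).eq_of_tgt a b⟩
  exact HomologicalComplex.mono_of_mono_f _ inferInstance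

section Gamma

variable [IsNoetherianRing S] (a : Ideal S)

/-- `Γ_a` of a complex. -/
noncomputable abbrev gam (L : MCx S) : MCx S :=
  ((DRing.gammaI a).mapHomologicalComplex (ComplexShape.up ℤ)).obj L

/-- The inclusion `Γ_a L ⟶ L`. -/
noncomputable abbrev gamInc (L : MCx S) : gam a L ⟶ L :=
  (NatTrans.mapHomologicalComplex (DRing.gammaIι a) (ComplexShape.up ℤ)).app L

omit [IsNoetherianRing S] in
theorem mem_torsionSub_homCx {X L : MCx S} (hX : ∀ p, Module.Finite S (X.X p)) {T : ℕ}
    (hz : ∀ p, p < 0 ∨ (T : ℤ) < p → IsZero (X.X p)) {n : ℤ} (z : Cochain X (gam a L) n) :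
    z.comp (Cochain.ofHom (gamInc a L)) (add_zero n) ∈ DRing.torsionSub a (Cochain X L n) := by
  classical
  have h : ∀ p : ℤ, ∃ k : ℕ, ∀ c ∈ a ^ k, ∀ x, c • (z.v p (p + n) rfl) x = 0 := fun p => by
    haveI := hX p
    obtain ⟨k, hk⟩ := exists_pow_le_annihilator_of_fg (I := a)
      (T := DRing.torsionSub a (L.X (p + n))) (fun x => by
        obtain ⟨k, hk⟩ := x.2
        exact ⟨k, fun r hr => Subtype.ext (hk r hr)⟩)
      (W := LinearMap.range (z.v p (p + n) rfl).hom) (Module.Finite.iff_fg.1 (Module.Finite.range (z.v p (p + n) rfl).hom))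
    exact ⟨k, fun c hc x => Submodule.mem_annihilator.1 (hk hc) _ ⟨x, rfl⟩⟩
  choose k hk using h
  refine ⟨(Finset.Icc 0 (T : ℤ)).sup k, fun c hc => Cochain.ext _ _ fun p q hpq => ?_⟩
  by_cases hp : p ∈ Finset.Icc 0 (T : ℤ)
  · subst hpq
    rw [Cochain.smul_v, Cochain.zero_v, Cochain.comp_zero_cochain_v, Cochain.ofHom_v]
    refine ModuleCat.hom_ext (LinearMap.ext fun x => ?_)
    exact congrArg Subtype.val (hk p c (Ideal.pow_le_pow_right (Finset.le_sup hp) hc) x)
  · exact (hz p (by rw [Finset.mem_Icc] at hp; omega)).eq_of_src _ _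

/-- `Γ_a` commutes with `Hom` from a bounded finite complex. -/
noncomputable def gamHomIso {X L : MCx S} (hX : ∀ p, Module.Finite S (X.X p)) {T : ℕ}
    (hz : ∀ p, p < 0 ∨ (T : ℤ) < p → IsZero (X.X p)) : homCx X (gam a L) ≅ gam a (homCx X L) :=
  HomologicalComplex.Hom.isoOfComponents
    (fun n => (LinearEquiv.ofBijective
      (LinearMap.codRestrict (DRing.torsionSub a (Cochain X L n))
        ((homCxPost X (gamInc a L)).f n).hom (mem_torsionSub_homCx a hX hz))
      ⟨fun z w h => Cochain.ext _ _ fun p q hpq => by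
        have h1 := congrArg (fun t : DRing.torsionSub a (Cochain X L n) => t.1.v p q hpq) h
        haveI : Mono ((gamInc a L).f q) := (ModuleCat.mono_iff_injective _).2 Subtype.val_injective
        exact (cancel_mono ((gamInc a L).f q)).1 ((homCxPost_apply X (gamInc a L) n z p q hpq).symm.trans
          (h1.trans (homCxPost_apply X (gamInc a L) n w p q hpq))),
      fun w => by
        refine ⟨Cochain.mk fun p q hpq => ModuleCat.ofHom
          (LinearMap.codRestrict (DRing.torsionSub a (L.X q)) (w.1.v p q hpq).hom fun x => ?_), ?_⟩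
        · obtain ⟨k, hk⟩ := w.2
          exact ⟨k, fun c hc => by
            have h1 := congrArg (fun t : Cochain X L n => (t.v p q hpq) x) (hk c hc)
            simpa using h1⟩
        · refine Subtype.ext (Cochain.ext _ _ fun p q hpq => ?_)
          refine (homCxPost_apply X (gamInc a L) n _ p q hpq).trans ?_
          exact (congrArg (fun t => t ≫ (gamInc a L).f q) (Cochain.mk_v _ p q hpq)).trans rfl⟩).toModuleIso)
    (fun n m _ => ModuleCat.hom_ext (LinearMap.ext fun z => Subtype.ext (δ_comp_ofHom z (gamInc a L) m)))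

end Gamma

section Main

variable [IsNoetherianRing S]

/-- The dual description of local cohomology: `G` does not depend on the ideal. -/
theorem exists_dualRes (P₀ : InjectiveResolution (ModuleCat.of S S)) (M : ModuleCat.{u} S)
    [Module.Finite S M] (T : ℕ) (hT : HasProjectiveDimensionLE M T) :
    ∃ G : MCx S, (∀ p, Module.Finite S (G.X p)) ∧ (∀ p, p < 0 ∨ (T : ℤ) < p → IsZero (G.X p)) ∧
      (∀ (a : Ideal S) (i : ℕ),
        Nonempty ((localCohomology a i).obj M ≅ (homCx G (gam a P₀.cochainComplex)).homology (i : ℤ))) ∧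
      ∀ (a : Ideal S) (l : ℤ), l < 0 → Subsingleton ((homCx G (gam a P₀.cochainComplex)).homology l) := by
  obtain ⟨F, hF, ⟨eF⟩⟩ := exists_finRes T M hT
  let G := dualCx F
  haveI hproj : ∀ p, Module.Projective S (G.X p) := fun p => by
    haveI := hF.proj (-p)
    haveI := hF.finite (-p)
    exact (inferInstance : Module.Projective S (Module.Dual S (F.X (-p))))
  have hfin : ∀ p, Module.Finite S (G.X p) := fun p => by
    haveI := hF.proj (-p)
    haveI := hF.finite (-p)
    exact (inferInstance : Module.Finite S (Module.Dual S (F.X (-p))))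
  have hzero := isZero_dualCx_X hF
  refine ⟨G, hfin, hzero, ?_⟩
  haveI : G.IsStrictlyLE (T : ℤ) := (CochainComplex.isStrictlyLE_iff _ _).2 fun p hp => hzero p (Or.inr hp)
  haveI : ∀ p, Projective (G.X p) := fun p => projective_obj _
  haveI : G.IsKProjective := CochainComplex.isKProjective_of_projective G (T : ℤ)
  haveI := mono_resolution P₀
  haveI := quasiIso_homCxPost G P₀.ι'
  let W := homCx G P₀.cochainComplex
  haveI : ∀ q, Injective (P₀.cochainComplex.X q) := fun q => inferInstance
  haveI : ∀ n, Injective (W.X n) := fun n => injective_homCx_X G P₀.cochainComplex n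
  haveI : W.IsStrictlyGE (-(T : ℤ)) := (CochainComplex.isStrictlyGE_iff _ _).2 fun n hn =>
    @ModuleCat.isZero_of_subsingleton _ _ _ (⟨fun (z w : Cochain G P₀.cochainComplex n) =>
      Cochain.ext _ _ fun p q h => by
        by_cases hp : (T : ℤ) < p
        · exact (hzero p (Or.inr hp)).eq_of_src _ _
        · exact (P₀.cochainComplex.isZero_of_isStrictlyGE 0 q (by omega)).eq_of_tgt _ _⟩)
  haveI : W.IsKInjective := CochainComplex.isKInjective_of_injective W (-(T : ℤ))
  let P := injectiveResolution M
  let e : DerivedCategory.Q.obj P.cochainComplex ≅ DerivedCategory.Q.obj W :=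
    (asIso (DerivedCategory.Q.map P.ι')).symm ≪≫
      ((DerivedCategory.singleFunctorIsoCompQ (ModuleCat.{u} S) 0).app M).symm ≪≫ eF.symm ≪≫
      DerivedCategory.Q.mapIso (bidualIso F hF.proj hF.finite) ≪≫
      asIso (DerivedCategory.Q.map (homCxPost G P₀.ι'))
  let qP := (DerivedCategory.quotientCompQhIso (ModuleCat.{u} S)).app P.cochainComplex
  let qW := (DerivedCategory.quotientCompQhIso (ModuleCat.{u} S)).app W
  let e' := qP ≪≫ e ≪≫ qW.symm
  obtain ⟨f, hf⟩ := (CochainComplex.IsKInjective.Qh_map_bijective
    ((HomotopyCategory.quotient _ _).obj P.cochainComplex) W).2 e'.hom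
  obtain ⟨g, hg⟩ := (CochainComplex.IsKInjective.Qh_map_bijective
    ((HomotopyCategory.quotient _ _).obj W) P.cochainComplex).2 e'.inv
  let h : (HomotopyCategory.quotient _ _).obj P.cochainComplex ≅ (HomotopyCategory.quotient _ _).obj W :=
    { hom := f
      inv := g
      hom_inv_id := (CochainComplex.IsKInjective.Qh_map_bijective _ _).1 (by
        rw [Functor.map_comp, hf, hg, CategoryTheory.Functor.map_id]; exact e'.hom_inv_id)
      inv_hom_id := (CochainComplex.IsKInjective.Qh_map_bijective _ _).1 (by
        rw [Functor.map_comp, hf, hg, CategoryTheory.Functor.map_id]; exact e'.inv_hom_id) }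
  refine ⟨fun a i => ?_, fun a l hl => ?_⟩
  swap
  · haveI : IsZero ((gam a P.cochainComplex).homology l) :=
      (HomologicalComplex.exactAt_iff_isZero_homology _ _).1 (HomologicalComplex.ExactAt.of_isZero
        ((DRing.gammaI a).map_isZero (P.cochainComplex.isZero_of_isStrictlyGE 0 l hl)))
    exact ModuleCat.subsingleton_of_isZero (this.of_iso
      ((((DRing.gammaI a).mapHomotopyEquiv (HomotopyCategory.homotopyEquivOfIso h)).toHomologyIso l ≪≫
        (HomologicalComplex.homologyFunctor (ModuleCat.{u} S) (ComplexShape.up ℤ) l).mapIso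
          (gamHomIso a hfin hzero).symm).symm))
  let E := (DRing.gammaI a).mapHomotopyEquiv (HomotopyCategory.homotopyEquivOfIso h)
  exact ⟨(gammaEquiv a P i).toModuleIso.symm ≪≫
    ((gCx a P).extendHomologyIso ComplexShape.embeddingUpNat rfl).symm ≪≫
    (HomologicalComplex.homologyFunctor (ModuleCat.{u} S) (ComplexShape.up ℤ) (i : ℤ)).mapIso
      (mapExtendIso (DRing.gammaI a) P.cocomplex).symm ≪≫
    E.toHomologyIso (i : ℤ) ≪≫
    (HomologicalComplex.homologyFunctor (ModuleCat.{u} S) (ComplexShape.up ℤ) (i : ℤ)).mapIso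
      (gamHomIso a hfin hzero).symm⟩

end Main

end Groth.Agent.LocCohLib
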