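import Groth.Agent.LocCohLib.RegHeight
import Groth.Agent.LocCohLib.Annihilator
import Groth.Agent.ProjDim.Regular
import Mathlib.CategoryTheory.Abelian.Injective.Ext
import Mathlib.RingTheory.Ideal.AssociatedPrime.Finiteness

/-!
# `Ext(N, S)` over a regular ring, by the heights of the support
-/

set_option autoImplicit false
set_option linter.style.haveILetI false
set_option linter.unusedVariables false

universe u

open CategoryTheory CategoryTheory.Limits
open CategoryTheory.Abelian (Ext)

namespace Groth.Agent.LocCohLib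

variable {S : Type u} [CommRing S]

/-- `Ext^p(N, S)`. -/
abbrev ExtS (N : ModuleCat.{u} S) (p : ℕ) : Type u := Ext N (ModuleCat.of S S) p

/-- Middle term. -/
theorem ext_mid {C : ShortComplex (ModuleCat.{u} S)} (hC : C.ShortExact) {Y : ModuleCat.{u} S} {p : ℕ}
    (x : Ext C.X₂ Y p) (h : (Ext.mk₀ C.f).comp x (zero_add p) = 0) :
    ∃ y : Ext C.X₃ Y p, (Ext.mk₀ C.g).comp y (zero_add p) = x :=
  Ext.contravariant_sequence_exact₂ hC Y x h

theorem smul_eq_zero_of_killed {N Y : ModuleCat.{u} S} {r : S} (h : ∀ n : N, r • n = 0) {p : ℕ}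
    (x : Ext N Y p) : r • x = 0 := by
  have h2 : r • 𝟙 N = 0 := by ext n; exact h n
  have e : r • x = (Ext.mk₀ (r • 𝟙 N)).comp x (zero_add p) := by simp [Ext.mk₀_smul]
  rw [e, h2, Ext.mk₀_zero, Ext.zero_comp]

theorem smul_eq_zero_of_iso {N N' Y : ModuleCat.{u} S} (i : N ≅ N') {p : ℕ} (x : Ext N Y p) (r : S)
    (h : r • (Ext.mk₀ i.inv).comp x (zero_add p) = 0) : r • x = 0 := by
  have h1 : (Ext.mk₀ i.inv).comp (r • x) (zero_add p) = 0 := (Ext.comp_smul _ _ _ _).trans h
  have h2 := congrArg (fun y => (Ext.mk₀ i.hom).comp y (zero_add p)) h1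
  simp only [Ext.mk₀_comp_mk₀_assoc, Iso.hom_inv_id, Ext.mk₀_id_comp, Ext.comp_zero] at h2
  exact h2

variable [IsNoetherianRing S]

/-- Where `pd M_P ≤ h`, some `s ∉ P` kills `Ext^i(M, -)` for `i > h`. -/
theorem exists_smul_ext_eq_zero (P : Ideal S) [P.IsPrime] : ∀ (h : ℕ) (M : ModuleCat.{u} S)
    [Module.Finite S M], HasProjectiveDimensionLE
      (ModuleCat.of (Localization P.primeCompl) (LocalizedModule P.primeCompl M)) h →
    ∃ s : S, s ∉ P ∧ ∀ (Y : ModuleCat.{u} S) (i : ℕ), h < i → ∀ x : Ext M Y i, s • x = 0 := by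
  intro h
  induction h with
  | zero =>
    intro M _ hpd
    obtain ⟨k, π, hπ⟩ := Module.Finite.exists_fin' S M
    haveI : Projective (ModuleCat.of (Localization P.primeCompl) (LocalizedModule P.primeCompl M)) :=
      (projective_iff_hasProjectiveDimensionLE_zero _).2 hpd
    haveI : Module.Projective (Localization P.primeCompl) (LocalizedModule P.primeCompl M) :=
      (IsProjective.iff_projective (LocalizedModule P.primeCompl M)).2 inferInstance
    obtain ⟨σ, hσ⟩ := Module.projective_lifting_property (LocalizedModule.map P.primeCompl π)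
      LinearMap.id (LocalizedModule.map_surjective P.primeCompl π hπ)
    haveI : Module.FinitePresentation S M := Module.finitePresentation_of_finite S M
    obtain ⟨h, s, hs⟩ := Module.FinitePresentation.exists_lift_of_isLocalizedModule P.primeCompl
      (LocalizedModule.mkLinearMap P.primeCompl (Fin k → S))
      (σ.restrictScalars S ∘ₗ LocalizedModule.mkLinearMap P.primeCompl M)
    have hcomp : (LocalizedModule.mkLinearMap P.primeCompl M) ∘ₗ (π ∘ₗ h) =
        (LocalizedModule.mkLinearMap P.primeCompl M) ∘ₗ ((s : S) • LinearMap.id) := by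
      refine LinearMap.ext fun m => ?_
      have h1 := LinearMap.congr_fun hs m
      have h2 := congrArg (fun y => (LocalizedModule.map P.primeCompl π).restrictScalars S y) h1
      refine Eq.trans ?_ (h2.trans ?_)
      · exact (LocalizedModule.map_mk P.primeCompl π (h m) 1).symm
      · show (LocalizedModule.map P.primeCompl π).restrictScalars S
          ((s : S) • σ (LocalizedModule.mk m 1)) = _
        rw [map_smul]
        show (s : S) • ((LocalizedModule.map P.primeCompl π) ∘ₗ σ) (LocalizedModule.mk m 1) = _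
        rw [hσ]
        exact ((LocalizedModule.mkLinearMap P.primeCompl M).map_smul (s : S) m).symm
    obtain ⟨t, ht⟩ := Module.Finite.exists_smul_of_comp_eq_of_isLocalizedModule P.primeCompl
      (LocalizedModule.mkLinearMap P.primeCompl M) (π ∘ₗ h) ((s : S) • LinearMap.id) hcomp
    refine ⟨(t : S) * s, (t * s).2, fun Y i hi x => ?_⟩
    have e : ((t : S) * (s : S)) • 𝟙 M =
        ((t : S) • ModuleCat.ofHom (X := M) h) ≫ ModuleCat.ofHom (Y := M) π := by
      ext1
      refine LinearMap.ext fun m => ?_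
      show ((t : S) * (s : S)) • m = π ((t : S) • h m)
      rw [map_smul, mul_smul]
      exact (LinearMap.congr_fun ht m).symm
    obtain ⟨i, rfl⟩ : ∃ i', i = i' + 1 := ⟨i - 1, by omega⟩
    haveI : Projective (ModuleCat.of S (Fin k → S)) := ModuleCat.projective_of_categoryTheory_projective
      (P := ModuleCat.of S (Fin k → S))
    have e1 : ((t : S) * (s : S)) • x = (Ext.mk₀ (((t : S) * (s : S)) • 𝟙 M)).comp x (zero_add _) := by
      simp [Ext.mk₀_smul]
    rw [e1, e, ← Ext.mk₀_comp_mk₀_assoc,
      Ext.eq_zero_of_projective ((Ext.mk₀ (ModuleCat.ofHom (Y := M) π)).comp x (zero_add _)), Ext.comp_zero]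
  | succ h ih =>
    intro M _ hpd
    obtain ⟨k, π, hπ⟩ := Module.Finite.exists_fin' S M
    let C : ShortComplex (ModuleCat.{u} S) :=
      ShortComplex.mk (X₁ := ModuleCat.of S (LinearMap.ker π)) (X₂ := ModuleCat.of S (Fin k → S)) (X₃ := M)
        (ModuleCat.ofHom (LinearMap.ker π).subtype) (ModuleCat.ofHom (Y := M) π)
        (ModuleCat.hom_ext (LinearMap.ext fun x => x.2))
    have hC : C.ShortExact :=
      { exact := (ShortComplex.ShortExact.moduleCat_exact_iff_function_exact _).2
          (LinearMap.exact_subtype_ker_map π)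
        mono_f := (ModuleCat.mono_iff_injective _).2 Subtype.val_injective
        epi_g := (ModuleCat.epi_iff_surjective _).2 hπ }
    haveI : Projective C.X₂ := ModuleCat.projective_of_categoryTheory_projective
      (P := ModuleCat.of S (Fin k → S))
    haveI : Projective (locSeq P.primeCompl C).X₂ := ModuleCat.projective_of_categoryTheory_projective
      (P := ModuleCat.of (Localization P.primeCompl) (LocalizedModule P.primeCompl (Fin k → S)))
    haveI : Module.Finite S (LinearMap.ker π) := Module.Finite.iff_fg.2 (IsNoetherian.noetherian _)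
    obtain ⟨s, hs, hkill⟩ := ih (ModuleCat.of S (LinearMap.ker π))
      ((locSeq_shortExact (hS := hC) P.primeCompl).hasProjectiveDimensionLT_X₁ (h + 1) inferInstance hpd)
    refine ⟨s, hs, fun Y i hi x => ?_⟩
    obtain ⟨i, rfl⟩ : ∃ i', i = i' + 1 := ⟨i - 1, by omega⟩
    obtain ⟨y, rfl⟩ := Ext.contravariant_sequence_exact₃ hC Y x (Ext.eq_zero_of_projective _) (add_comm 1 i)
    rw [← Ext.comp_smul, hkill Y i (by omega) y, Ext.comp_zero]

section Regular

omit [IsNoetherianRing S]
variable [IsRegularRing S]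

theorem natCast_le_idealDepth_of_le_height {Q : Ideal S} [Q.IsPrime] {n : ℕ} (h : (n : ℕ∞) ≤ Q.height) :
    (n : ℕ∞) ≤ LocCoh.idealDepth Q S := by
  refine DepthLib.natCast_le_idealDepth_iff_forall_localization.2 fun q _ hQq => ?_
  let A := Localization.AtPrime q
  haveI := DepthLib.isCohenMacaulayLocalRing_of_isRegularLocalRing A
  have h1 : ringKrullDim A = _ := DepthLib.ringKrullDim_eq_depth
  rw [IsLocalization.AtPrime.ringKrullDim_eq_height q A] at h1
  have e : LocalizedModule q.primeCompl S ≃ₗ[A] A :=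
    (LocalizedModule.equivTensorProduct q.primeCompl S).trans (TensorProduct.AlgebraTensorModule.rid S A A)
  rw [DepthLib.depth_congr e]
  exact (h.trans (Ideal.height_mono hQq)).trans (WithBot.coe_injective h1).le

theorem hasProjectiveDimensionLE_localized (q : PrimeSpectrum S) (M : Type u) [AddCommGroup M] [Module S M]
    {n : ℕ} (h : q.asIdeal.height ≤ n) :
    HasProjectiveDimensionLE (ProjDim.locMod q M) n := by
  obtain ⟨d, hd⟩ := ENat.ne_top_iff_exists.1
    (ne_top_of_le_ne_top (ENat.natCast_ne_top n) h : q.asIdeal.height ≠ ⊤)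
  haveI := ProjDim.gldim_le_of_regularLocal (Localization.AtPrime q.asIdeal) d
    (by rw [IsLocalization.AtPrime.ringKrullDim_eq_height q.asIdeal, ← hd]; rfl) (ProjDim.locMod q M)
  refine hasProjectiveDimensionLT_of_ge _ (d + 1) _ ?_
  rw [← hd] at h
  exact Nat.succ_le_succ (Nat.cast_le.1 h)

/-- `Ext^p(N, S) = 0` if `Supp N` has no point of height `p`. -/
theorem subsingleton_extS (p : ℕ) (N : Type u) [AddCommGroup N] [Module S N] [Module.Finite S N]
    (h : ∀ q : PrimeSpectrum S, q ∈ Module.support S N → q.asIdeal.height ≠ p) :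
    Subsingleton (ExtS (ModuleCat.of S N) p) := by
  revert h
  refine IsNoetherianRing.induction_on_isQuotientEquivQuotientPrime (A := S) (M := N) inferInstance
    (motive := fun N _ _ _ => (∀ q : PrimeSpectrum S, q ∈ Module.support S N → q.asIdeal.height ≠ p) →
      Subsingleton (ExtS (ModuleCat.of S N) p)) ?_ ?_ ?_
  · intro N _ _ _ _ _
    refine subsingleton_of_forall_eq 0 fun x => ?_
    have := smul_eq_zero_of_killed (r := (1 : S)) (fun n => Subsingleton.elim _ _) x
    rwa [one_smul] at this
  · intro N _ _ _ Q e h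
    haveI : Q.1.IsPrime := Q.2
    have hmem : ∀ q : PrimeSpectrum S, Q.1 ≤ q.asIdeal → q ∈ Module.support S N := fun q hq => by
      rw [LinearEquiv.support_eq e, Module.support_eq_zeroLocus, Ideal.annihilator_quotient]
      exact hq
    suffices hQ : Subsingleton (ExtS (ModuleCat.of S (S ⧸ Q.1)) p) by
      refine subsingleton_of_forall_eq 0 fun x => ?_
      have h1 := smul_eq_zero_of_iso (N' := ModuleCat.of S (S ⧸ Q.1)) e.toModuleIso x 1
        ((one_smul S _).trans (hQ.elim _ _))
      rwa [one_smul] at h1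
    rcases lt_or_gt_of_ne (h Q (hmem Q le_rfl)) with hlt | hgt
    · obtain ⟨p', rfl⟩ : ∃ p', p = p' + 1 := ⟨p - 1, by
        rcases Nat.eq_zero_or_pos p with rfl | hp
        · simp at hlt
        · omega⟩
      haveI : HasProjectiveDimensionLT (ModuleCat.of S (S ⧸ Q.1)) (p' + 1) := by
        refine (ProjDim.pd_locus p' (S ⧸ Q.1)).2.2 fun q => ?_
        by_cases hq : Q.1 ≤ q.asIdeal
        · refine hasProjectiveDimensionLE_localized q _ (Order.le_of_lt_add_one ?_)
          by_contra hge
          rw [not_lt] at hge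
          obtain ⟨T, hT, hQT, -, hTh⟩ := exists_isPrime_height_eq_between (P := Q.1) (Q := q.asIdeal) hq
            (n := p' + 1) hlt.le (by push_cast; exact hge)
          exact h ⟨T, hT⟩ (hmem ⟨T, hT⟩ hQT) hTh
        · haveI : Subsingleton (LocalizedModule q.asIdeal.primeCompl (S ⧸ Q.1)) := by
            rw [← not_nontrivial_iff_subsingleton, DepthLib.nontrivial_localizedModule_iff q,
              Module.support_eq_zeroLocus, Ideal.annihilator_quotient]
            exact hq
          haveI : HasProjectiveDimensionLT (ProjDim.locMod q (S ⧸ Q.1)) 0 :=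
            (hasProjectiveDimensionLT_zero_iff_isZero _).2 (ModuleCat.isZero_of_subsingleton _)
          exact hasProjectiveDimensionLT_of_ge _ 0 _ (Nat.zero_le _)
      exact subsingleton_of_forall_eq 0 fun x => x.eq_zero_of_hasProjectiveDimensionLT (p' + 1) le_rfl
    · exact (DepthLib.natCast_le_idealDepth_iff_ext Q.1 S (p + 1)).1
        (natCast_le_idealDepth_of_le_height (by push_cast; exact Order.add_one_le_of_lt hgt)) p
          (Nat.lt_succ_self p)
  · intro N₁ _ _ _ N₂ _ _ _ N₃ _ _ _ f g hf hg hfg h₁ h₃ h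
    haveI := h₁ fun q hq => h q (Module.support_subset_of_injective f hf hq)
    haveI := h₃ fun q hq => h q (Module.support_subset_of_surjective g hg hq)
    let C : ShortComplex (ModuleCat.{u} S) :=
      ShortComplex.mk (ModuleCat.ofHom f) (ModuleCat.ofHom g) (ModuleCat.hom_ext hfg.linearMap_comp_eq_zero)
    have hC : C.ShortExact :=
      { exact := (ShortComplex.ShortExact.moduleCat_exact_iff_function_exact C).2 hfg
        mono_f := (ModuleCat.mono_iff_injective _).2 hf
        epi_g := (ModuleCat.epi_iff_surjective _).2 hg }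
    refine subsingleton_of_forall_eq 0 fun x => ?_
    obtain ⟨y, rfl⟩ := ext_mid hC x (Subsingleton.elim _ _)
    rw [Subsingleton.elim y 0, Ext.comp_zero]

/-- Off height `ht P` the modules `Ext^p(N, S)` die at `P`, for `Supp N ⊆ V(P)`. -/
theorem exists_smul_extS_eq_zero (P : Ideal S) [P.IsPrime] (p : ℕ) (hp : P.height ≠ p) (N : Type u)
    [AddCommGroup N] [Module S N] [Module.Finite S N]
    (h : ∀ q : PrimeSpectrum S, q ∈ Module.support S N → P ≤ q.asIdeal) :
    ∀ x : ExtS (ModuleCat.of S N) p, ∃ u ∉ P, u • x = 0 := by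
  have base : ∃ u ∉ P, ∀ x : ExtS (ModuleCat.of S (S ⧸ P)) p, u • x = 0 := by
    rcases lt_or_gt_of_ne hp with hlt | hgt
    · obtain ⟨d, hd⟩ := ENat.ne_top_iff_exists.1 (ne_top_of_lt hlt)
      obtain ⟨s, hs, hk⟩ := exists_smul_ext_eq_zero P d (ModuleCat.of S (S ⧸ P))
        (hasProjectiveDimensionLE_localized ⟨P, inferInstance⟩ (S ⧸ P) hd.ge)
      exact ⟨s, hs, fun x => hk _ p (by rw [← hd] at hlt; exact_mod_cast hlt) x⟩
    · haveI := (DepthLib.natCast_le_idealDepth_iff_ext P S (p + 1)).1
        (natCast_le_idealDepth_of_le_height (by push_cast; exact Order.add_one_le_of_lt hgt)) p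
          (Nat.lt_succ_self p)
      exact ⟨1, fun h1 => Ideal.IsPrime.ne_top ‹_› ((Ideal.eq_top_iff_one P).2 h1),
        fun x => Subsingleton.elim _ _⟩
  revert h
  refine IsNoetherianRing.induction_on_isQuotientEquivQuotientPrime (A := S) (M := N) inferInstance
    (motive := fun N _ _ _ => (∀ q : PrimeSpectrum S, q ∈ Module.support S N → P ≤ q.asIdeal) →
      ∀ x : ExtS (ModuleCat.of S N) p, ∃ u ∉ P, u • x = 0) ?_ ?_ ?_
  · intro N _ _ _ _ _ x
    exact ⟨1, fun h1 => Ideal.IsPrime.ne_top ‹_› ((Ideal.eq_top_iff_one P).2 h1),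
      smul_eq_zero_of_killed (r := (1 : S)) (fun n => Subsingleton.elim _ _) x⟩
  · intro N _ _ _ Q e h x
    have hPQ : P ≤ Q.1 := h Q (by
      rw [LinearEquiv.support_eq e, Module.support_eq_zeroLocus, Ideal.annihilator_quotient]
      exact le_refl Q.1)
    rcases hPQ.eq_or_lt with he | hlt
    · obtain ⟨u, hu, hk⟩ := base
      subst he
      exact ⟨u, hu, smul_eq_zero_of_iso e.toModuleIso x u (hk _)⟩
    · obtain ⟨u, huQ, huP⟩ := SetLike.exists_of_lt hlt
      refine ⟨u, huP, smul_eq_zero_of_killed (fun n => e.injective ?_) x⟩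
      rw [map_zero, map_smul]
      obtain ⟨r, hr⟩ := Ideal.Quotient.mk_surjective (e n)
      rw [← hr]
      exact Ideal.Quotient.eq_zero_iff_mem.2 (Q.1.mul_mem_right r huQ)
  · intro N₁ _ _ _ N₂ _ _ _ N₃ _ _ _ f g hf hg hfg h₁ h₃ h x
    let C : ShortComplex (ModuleCat.{u} S) :=
      ShortComplex.mk (ModuleCat.ofHom f) (ModuleCat.ofHom g) (ModuleCat.hom_ext hfg.linearMap_comp_eq_zero)
    have hC : C.ShortExact :=
      { exact := (ShortComplex.ShortExact.moduleCat_exact_iff_function_exact C).2 hfg
        mono_f := (ModuleCat.mono_iff_injective _).2 hf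
        epi_g := (ModuleCat.epi_iff_surjective _).2 hg }
    obtain ⟨u, hu, hu0⟩ := h₁ (fun q hq => h q (Module.support_subset_of_injective f hf hq))
      ((Ext.mk₀ C.f).comp x (zero_add p))
    obtain ⟨y, hy⟩ := ext_mid hC (u • x) (by rw [Ext.comp_smul]; exact hu0)
    obtain ⟨v, hv, hv0⟩ := h₃ (fun q hq => h q (Module.support_subset_of_surjective g hg hq)) y
    exact ⟨v * u, Ideal.IsPrime.mul_notMem ‹_› hv hu,
      by rw [mul_smul, ← hy, ← Ext.comp_smul, hv0, Ext.comp_zero]⟩

/-- `Ext^{ht P}(S/P, S)` does not die at `P`. -/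
theorem exists_extS_ne_zero (P : Ideal S) [P.IsPrime] {d : ℕ} (hd : P.height = d) :
    ∃ x : ExtS (ModuleCat.of S (S ⧸ P)) d, ∀ u ∉ P, u • x ≠ 0 := by
  by_contra hne
  push Not at hne
  have key : ∀ (N : Type u) [AddCommGroup N] [Module S N] [Module.Finite S N],
      (∀ q : PrimeSpectrum S, q ∈ Module.support S N → P ≤ q.asIdeal) →
      ∀ x : ExtS (ModuleCat.of S N) d, ∃ u ∉ P, u • x = 0 := by
    intro N _ _ _ h
    revert h
    refine IsNoetherianRing.induction_on_isQuotientEquivQuotientPrime (A := S) (M := N) inferInstance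
      (motive := fun N _ _ _ => (∀ q : PrimeSpectrum S, q ∈ Module.support S N → P ≤ q.asIdeal) →
        ∀ x : ExtS (ModuleCat.of S N) d, ∃ u ∉ P, u • x = 0) ?_ ?_ ?_
    · intro N _ _ _ _ _ x
      exact ⟨1, fun h1 => Ideal.IsPrime.ne_top ‹_› ((Ideal.eq_top_iff_one P).2 h1),
        smul_eq_zero_of_killed (r := (1 : S)) (fun n => Subsingleton.elim _ _) x⟩
    · intro N _ _ _ Q e h x
      have hPQ : P ≤ Q.1 := h Q (by
        rw [LinearEquiv.support_eq e, Module.support_eq_zeroLocus, Ideal.annihilator_quotient]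
        exact le_refl Q.1)
      rcases hPQ.eq_or_lt with he | hlt
      · subst he
        obtain ⟨u, hu, hk⟩ := hne ((Ext.mk₀ e.toModuleIso.inv).comp x (zero_add d))
        exact ⟨u, hu, smul_eq_zero_of_iso e.toModuleIso x u hk⟩
      · obtain ⟨u, huQ, huP⟩ := SetLike.exists_of_lt hlt
        refine ⟨u, huP, smul_eq_zero_of_killed (fun n => e.injective ?_) x⟩
        rw [map_zero, map_smul]
        obtain ⟨r, hr⟩ := Ideal.Quotient.mk_surjective (e n)
        rw [← hr]
        exact Ideal.Quotient.eq_zero_iff_mem.2 (Q.1.mul_mem_right r huQ)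
    · intro N₁ _ _ _ N₂ _ _ _ N₃ _ _ _ f g hf hg hfg h₁ h₃ h x
      let C : ShortComplex (ModuleCat.{u} S) :=
        ShortComplex.mk (ModuleCat.ofHom f) (ModuleCat.ofHom g) (ModuleCat.hom_ext hfg.linearMap_comp_eq_zero)
      have hC : C.ShortExact :=
        { exact := (ShortComplex.ShortExact.moduleCat_exact_iff_function_exact C).2 hfg
          mono_f := (ModuleCat.mono_iff_injective _).2 hf
          epi_g := (ModuleCat.epi_iff_surjective _).2 hg }
      obtain ⟨u, hu, hu0⟩ := h₁ (fun q hq => h q (Module.support_subset_of_injective f hf hq))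
        ((Ext.mk₀ C.f).comp x (zero_add d))
      obtain ⟨y, hy⟩ := ext_mid hC (u • x) (by rw [Ext.comp_smul]; exact hu0)
      obtain ⟨v, hv, hv0⟩ := h₃ (fun q hq => h q (Module.support_subset_of_surjective g hg hq)) y
      exact ⟨v * u, Ideal.IsPrime.mul_notMem ‹_› hv hu,
        by rw [mul_smul, ← hy, ← Ext.comp_smul, hv0, Ext.comp_zero]⟩
  let A := Localization.AtPrime P
  haveI : IsNoetherianRing A := IsLocalization.isNoetherianRing P.primeCompl A inferInstance
  haveI : Module.Flat S A := IsLocalization.flat A P.primeCompl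
  let e : (tens A).obj (ModuleCat.of S S) ≅ ModuleCat.of A A :=
    (TensorProduct.AlgebraTensorModule.rid S A A).toModuleIso
  have h0 : Subsingleton ((localCohomology (P.map (algebraMap S A)) d).obj ((tens A).obj (ModuleCat.of S S))) := by
    refine subsingleton_of_forall_eq 0 fun w => ?_
    have h1 := smul_tens_eq_zero' (I := P) (R' := A) d (ModuleCat.of S S) (r := 1) (fun z => ?_) w
    · rwa [map_one, one_smul] at h1
    · obtain ⟨n, x, rfl⟩ := exists_cl z
      obtain ⟨u, hu, hu0⟩ := @key (qMod P n : ModuleCat.{u} S) (qMod P n).isAddCommGroup (qMod P n).isModule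
        (Module.Finite.quotient S (P ^ n)) (fun q hq => by
        intro r hr
        by_contra hrq
        obtain ⟨m, hm⟩ := Module.mem_support_iff'.1 hq
        obtain ⟨c, rfl⟩ := Submodule.Quotient.mk_surjective (P ^ n) m
        exact hm (r ^ n) (fun h => hrq (q.2.mem_of_pow_mem n h))
          ((Submodule.Quotient.mk_eq_zero (P ^ n)).2 (Ideal.mul_mem_right c _ (Ideal.pow_mem_pow hr n)))) x
      exact ⟨u, IsLocalization.map_units A (⟨u, hu⟩ : P.primeCompl), by
        rw [one_smul, ← map_smul, hu0, map_zero]⟩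
  have h2 : Subsingleton ((localCohomology (IsLocalRing.maximalIdeal A) d).obj (ModuleCat.of A A)) := by
    have h3 := localCohomology_map_iso_subsingleton (I := P.map (algebraMap S A)) (i := d) e
    rwa [show P.map (algebraMap S A) = IsLocalRing.maximalIdeal A from
      Localization.AtPrime.map_eq_maximalIdeal] at h3
  exact not_nontrivial_iff_subsingleton.2 h2 (nontrivial_H_supportDim (ModuleCat.of A A) d
    ((Module.supportDim_self_eq_ringKrullDim (R := A)).trans (by
      rw [IsLocalization.AtPrime.ringKrullDim_eq_height P A, hd]; rfl)))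

end Regular

end Groth.Agent.LocCohLib
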