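import Groth.Agent.LocCohLib.Shift
import Groth.Agent.LocCohLib.Torsion
import Groth.Agent.LocCohLib.Lift
import Mathlib.CategoryTheory.Abelian.Exact
import Mathlib.CategoryTheory.Preadditive.Injective.Resolution
import Mathlib.CategoryTheory.Preadditive.Injective.Preserves

/-!
# Localisation at the powers of an element, as an endofunctor of `R`-modules
-/

set_option autoImplicit false
set_option linter.style.haveILetI false

universe u

open CategoryTheory CategoryTheory.Limits

namespace Groth.Agent.LocCohLib

variable {R : Type u} [CommRing R]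

/-- `M ↦ M_b`, as `R`-modules. -/
noncomputable def locFun (b : R) : ModuleCat.{u} R ⥤ ModuleCat.{u} R where
  obj M := ModuleCat.of R (LocalizedModule (Submonoid.powers b) M)
  map f := ModuleCat.ofHom ((LocalizedModule.map (Submonoid.powers b) f.hom).restrictScalars R)
  map_id M := ModuleCat.hom_ext (LinearMap.ext fun x => by
    induction x using LocalizedModule.induction_on with
    | h m s => exact LocalizedModule.map_mk _ _ m s)
  map_comp f g := ModuleCat.hom_ext (LinearMap.ext fun x => by
    induction x using LocalizedModule.induction_on with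
    | h m s =>
      show LocalizedModule.map _ (g.hom ∘ₗ f.hom) (LocalizedModule.mk m s) =
        LocalizedModule.map _ g.hom (LocalizedModule.map _ f.hom (LocalizedModule.mk m s))
      rw [LocalizedModule.map_mk, LocalizedModule.map_mk, LocalizedModule.map_mk]
      rfl)

instance (b : R) : (locFun b).Additive where
  map_add {M N} {f g} := by
    refine ModuleCat.hom_ext (LinearMap.ext fun x => ?_)
    show LocalizedModule.map _ (f + g).hom x = _
    rw [ModuleCat.hom_add, map_add]
    rfl

instance (b : R) : (locFun b).PreservesHomology :=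
  (locFun b).preservesHomology_of_map_exact fun S hS =>
    (ShortComplex.ShortExact.moduleCat_exact_iff_function_exact _).2
      (LocalizedModule.map_exact (Submonoid.powers b) _ _
        ((ShortComplex.ShortExact.moduleCat_exact_iff_function_exact S).1 hS))

/-- The localisation map. -/
noncomputable def toLoc (b : R) : 𝟭 (ModuleCat.{u} R) ⟶ locFun b where
  app M := ModuleCat.ofHom (LocalizedModule.mkLinearMap (Submonoid.powers b) M)
  naturality M N f := ModuleCat.hom_ext (LinearMap.ext fun x => (LocalizedModule.map_mk _ f.hom x 1).symm)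

theorem toLoc_apply (b : R) (M : ModuleCat.{u} R) (x : M) :
    (toLoc b).app M x = LocalizedModule.mk x 1 := rfl

theorem toLoc_eq_zero_iff (b : R) (M : ModuleCat.{u} R) (x : M) :
    (toLoc b).app M x = 0 ↔ ∃ n : ℕ, b ^ n • x = 0 := by
  show LocalizedModule.mk x 1 = 0 ↔ _
  rw [← LocalizedModule.zero_mk 1, LocalizedModule.mk_eq]
  constructor
  · rintro ⟨⟨_, n, rfl⟩, h⟩
    refine ⟨n, ?_⟩
    simpa [Submonoid.smul_def] using h
  · rintro ⟨n, h⟩
    refine ⟨⟨_, n, rfl⟩, ?_⟩
    simpa [Submonoid.smul_def] using h

theorem toLoc_mem_torsionSub_span_iff (b : R) (M : ModuleCat.{u} R) (x : M) :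
    (toLoc b).app M x = 0 ↔ x ∈ DRing.torsionSub (Ideal.span {b}) M := by
  rw [toLoc_eq_zero_iff]
  refine ⟨fun ⟨n, hn⟩ => ⟨n, fun a ha => ?_⟩, fun ⟨n, hn⟩ => ⟨n, hn _ ?_⟩⟩
  · rw [Ideal.span_singleton_pow, Ideal.mem_span_singleton'] at ha
    obtain ⟨c, rfl⟩ := ha
    rw [mul_smul, hn, smul_zero]
  · exact Ideal.pow_mem_pow (Ideal.mem_span_singleton_self b) n

variable [IsNoetherianRing R]

theorem toLoc_surjective (b : R) (J : ModuleCat.{u} R) [Module.Injective R J] :
    Function.Surjective ((toLoc b).app J) := fun ξ => by
  obtain ⟨j, -, hj⟩ := exists_lift (A := R) (J := J) ⊥ (Submonoid.powers b) ξ fun a ha => by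
    rw [Ideal.mem_bot] at ha
    subst ha
    exact zero_smul R (ξ : LocalizedModule (Submonoid.powers b) J)
  exact ⟨j, hj⟩

/-- Localising an injective module gives an injective module over the same ring. -/
instance (b : R) : (locFun b).PreservesInjectiveObjects where
  injective_obj J {hJ} := by
    haveI : Injective (ModuleCat.of R J) := hJ
    haveI : Module.Injective R J := Module.injective_module_of_injective_object R J
    let T := DRing.torsionSub (Ideal.span {b}) J
    haveI := injective_torsionSub (R := R) J (Ideal.span {b})
    let S := ShortComplex.mk (ModuleCat.ofHom T.subtype : ModuleCat.of R T ⟶ J) ((toLoc b).app J)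
      (ModuleCat.hom_ext (LinearMap.ext fun x => (toLoc_mem_torsionSub_span_iff b J x.1).2 x.2))
    have hS : S.ShortExact :=
      { exact := (ShortComplex.ShortExact.moduleCat_exact_iff_function_exact S).2 fun x =>
          ⟨fun h => ⟨⟨x, (toLoc_mem_torsionSub_span_iff b J x).1 h⟩, rfl⟩, by
            rintro ⟨y, rfl⟩; exact (toLoc_mem_torsionSub_span_iff b J y.1).2 y.2⟩
        mono_f := (ModuleCat.mono_iff_injective _).2 T.injective_subtype
        epi_g := (ModuleCat.epi_iff_surjective _).2 (toLoc_surjective b J) }
    haveI : Injective S.X₁ := Module.injective_object_of_injective_module R T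
    haveI : Injective S.X₂ := hJ
    let sp := hS.splittingOfInjective
    exact Retract.injective (Y := S.X₂)
      ({ i := sp.s, r := S.g, retract := sp.s_g } : Retract S.X₃ S.X₂)

/-- A resolution of `M_b` from a resolution of `M`. -/
noncomputable def locResolution (b : R) {M : ModuleCat.{u} R} (P : InjectiveResolution M) :
    InjectiveResolution ((locFun b).obj M) where
  cocomplex := ((locFun b).mapHomologicalComplex _).obj P.cocomplex
  injective n := Functor.PreservesInjectiveObjects.injective_obj (F := locFun b) (P.injective n)
  ι := (HomologicalComplex.singleMapHomologicalComplex _ _ _).inv.app _ ≫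
    ((locFun b).mapHomologicalComplex _).map P.ι
  quasiIso := inferInstance

/-- The localisation map on resolutions. -/
noncomputable def locResolutionHom (b : R) {M : ModuleCat.{u} R} (P : InjectiveResolution M) :
    InjectiveResolution.Hom P (locResolution b P) ((toLoc b).app M) where
  hom := (NatTrans.mapHomologicalComplex (toLoc b) _).app P.cocomplex
  ι_f_zero_comp_hom_f_zero := by
    have h1 : ((HomologicalComplex.singleMapHomologicalComplex (locFun b) (ComplexShape.up ℕ) 0).inv.app
        M).f 0 = 𝟙 _ := by simp [HomologicalComplex.singleMapHomologicalComplex]; rfl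
    show P.ι.f 0 ≫ (toLoc b).app (P.cocomplex.X 0) = _
    rw [CochainComplex.single₀_map_f_zero]
    refine ((toLoc b).naturality (P.ι.f 0)).trans ?_
    show _ = (toLoc b).app M ≫ _ ≫ (locFun b).map (P.ι.f 0)
    exact congrArg ((toLoc b).app M ≫ ·) ((congrArg (· ≫ _) h1).trans (Category.id_comp _)).symm

end Groth.Agent.LocCohLib
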