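import Groth.Agent.LocCohLib.Devissage
import Groth.Agent.LocCohLib.ExtSupport
import Groth.Agent.LocCohLib.Resolution

/-!
# The pieces `Hom(E[-j], Γ_a J)` for a finite module `E`
-/

set_option autoImplicit false
set_option linter.style.haveILetI false
set_option linter.unusedVariables false

universe u

open CategoryTheory CategoryTheory.Limits CochainComplex CochainComplex.HomComplex
open CategoryTheory.Abelian (Ext)
open scoped Pointwise

namespace Groth.Agent.LocCohLib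

variable {S : Type u} [CommRing S]

/-- Killed by a power of `b`. -/
def Kl (b : S) (A : ModuleCat.{u} S) : Prop := ∃ k : ℕ, ∀ x : A, b ^ k • x = 0

/-- Every element dies at `P`. -/
def Sm (P : Ideal S) (A : ModuleCat.{u} S) : Prop := ∀ x : A, ∃ u ∉ P, u • x = 0

theorem midClosed_subsingleton : MidClosed (fun A : ModuleCat.{u} S => Subsingleton A) where
  zero _ h := h
  mid C hC h₁ h₃ := subsingleton_of_forall_eq 0 fun x => by
    obtain ⟨y, rfl⟩ := ((ShortComplex.ShortExact.moduleCat_exact_iff_function_exact C).1 hC x).1 (h₃.elim _ _)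
    rw [h₁.elim y 0, map_zero]

theorem midClosed_kl (b : S) : MidClosed (Kl b) where
  zero _ h := ⟨0, fun x => h.elim _ _⟩
  mid C hC := by
    rintro ⟨k, hk⟩ ⟨l, hl⟩
    refine ⟨k + l, fun x => ?_⟩
    obtain ⟨y, hy⟩ := ((ShortComplex.ShortExact.moduleCat_exact_iff_function_exact C).1 hC (b ^ l • x)).1
      (by rw [map_smul, hl])
    rw [pow_add, mul_smul, ← hy, ← map_smul, hk, map_zero]

theorem midClosed_sm (P : Ideal S) [P.IsPrime] : MidClosed (Sm P) where
  zero _ h := fun x => ⟨1, fun h1 => Ideal.IsPrime.ne_top ‹_› ((Ideal.eq_top_iff_one P).2 h1), h.elim _ _⟩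
  mid C hC h₁ h₃ x := by
    obtain ⟨u, hu, hu0⟩ := h₃ (C.g x)
    obtain ⟨y, hy⟩ := ((ShortComplex.ShortExact.moduleCat_exact_iff_function_exact C).1 hC (u • x)).1
      (by rw [map_smul, hu0])
    obtain ⟨v, hv, hv0⟩ := h₁ y
    exact ⟨v * u, Ideal.IsPrime.mul_notMem ‹_› hv hu, by rw [mul_smul, ← hy, ← map_smul, hv0, map_zero]⟩

variable [IsNoetherianRing S] (P₀ : InjectiveResolution (ModuleCat.of S S)) (a : Ideal S)

instance injective_gam_X (q : ℤ) : Injective ((gam a P₀.cochainComplex).X q) := by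
  haveI : Injective (ModuleCat.of S (P₀.cochainComplex.X q)) :=
    (inferInstance : Injective (P₀.cochainComplex.X q))
  haveI : Module.Injective S (P₀.cochainComplex.X q) := Module.injective_module_of_injective_object S _
  haveI := injective_torsionSub (P₀.cochainComplex.X q) a
  exact Module.injective_object_of_injective_module S (DRing.torsionSub a (P₀.cochainComplex.X q))

instance isStrictlyGE_gam : (gam a P₀.cochainComplex).IsStrictlyGE 0 :=
  (CochainComplex.isStrictlyGE_iff _ _).2 fun i hi =>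
    (DRing.gammaI a).map_isZero (P₀.cochainComplex.isZero_of_isStrictlyGE 0 i hi)

instance isKInjective_gam : (gam a P₀.cochainComplex).IsKInjective :=
  CochainComplex.isKInjective_of_injective _ 0

/-- `H^m(Hom(E[-j], Γ_a J))`. -/
noncomputable abbrev piece (E : ModuleCat.{u} S) (j m : ℤ) : ModuleCat.{u} S :=
  (homCx (sgl j E) (gam a P₀.cochainComplex)).homology m

/-- The part of `f` in the resolution. -/
noncomputable abbrev toJ (E : ModuleCat.{u} S) (k : ℕ) (f : E ⟶ (gam a P₀.cochainComplex).X (k : ℤ)) :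
    E ⟶ P₀.cocomplex.X k :=
  f ≫ (gamInc a P₀.cochainComplex).f (k : ℤ) ≫ (P₀.cochainComplexXIso (k : ℤ) k rfl).hom

omit [IsNoetherianRing S] in
theorem fromSingleMk_smul {E : ModuleCat.{u} S} {L : MCx S} {p q : ℤ} (r : S) (f : E ⟶ L.X q) {n : ℤ}
    (h : p + n = q) : Cochain.fromSingleMk (r • f) h = r • Cochain.fromSingleMk f h := by
  refine Cochain.ext _ _ fun p' q' h' => ?_
  rw [Cochain.smul_v]
  by_cases hp : p' = p
  · subst hp
    obtain rfl : q' = q := by omega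
    rw [Cochain.fromSingleMk_v, Cochain.fromSingleMk_v]
    exact Linear.comp_smul _ _ _ _ _ _
  · rw [Cochain.fromSingleMk_v_eq_zero _ _ _ _ _ hp, Cochain.fromSingleMk_v_eq_zero _ _ _ _ _ hp]
    exact (smul_zero _).symm

theorem subsingleton_piece_neg (E : ModuleCat.{u} S) {j m : ℤ} (h : j + m < 0) :
    Subsingleton (piece P₀ a E j m) := by
  refine subsingleton_of_forall_eq 0 fun x => ?_
  obtain ⟨z, hz, rfl⟩ := exists_hcls _ _ _ x
  rw [← one_smul S (hcls _ _ _ z hz), hcls_smul_eq_zero_iff, one_smul]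
  refine ⟨0, ?_⟩
  obtain ⟨f, rfl⟩ := Cochain.fromSingleMk_surjective z (j + m) rfl
  rw [((gam a P₀.cochainComplex).isZero_of_isStrictlyGE 0 (j + m) h).eq_of_tgt f 0]
  simp

theorem exists_rep (E : ModuleCat.{u} S) (j m : ℤ) (k : ℕ) (hk : j + m = k) (x : piece P₀ a E j m) :
    ∃ (f : E ⟶ (gam a P₀.cochainComplex).X (k : ℤ)) (hz : HomComplex.δ m (m + 1) (Cochain.fromSingleMk f hk) = 0),
      toJ P₀ a E k f ≫ P₀.cocomplex.d k (k + 1) = 0 ∧ hcls _ _ m (Cochain.fromSingleMk f hk) hz = x := by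
  obtain ⟨z, hz, rfl⟩ := exists_hcls _ _ _ x
  obtain ⟨f, rfl⟩ := Cochain.fromSingleMk_surjective z (k : ℤ) hk
  refine ⟨f, hz, ?_, rfl⟩
  rw [Cochain.δ_fromSingleMk _ _ (m + 1) ((k + 1 : ℕ) : ℤ) (by push_cast; omega)] at hz
  have h0 : f ≫ (gam a P₀.cochainComplex).d (k : ℤ) ((k + 1 : ℕ) : ℤ) = 0 :=
    (Cochain.fromSingleEquiv (by push_cast; omega)).symm.injective (hz.trans (Cochain.fromSingleMk_zero E (gam a P₀.cochainComplex) j ((k + 1 : ℕ) : ℤ) (m + 1) (by push_cast; omega)).symm)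
  have h1 : (f ≫ (gamInc a P₀.cochainComplex).f (k : ℤ)) ≫ P₀.cochainComplex.d (k : ℤ) ((k + 1 : ℕ) : ℤ) = 0 := by
    rw [Category.assoc, (gamInc a P₀.cochainComplex).comm, ← Category.assoc, h0, zero_comp]
  rw [P₀.cochainComplex_d _ _ k (k + 1) rfl rfl, ← Category.assoc, ← Category.assoc] at h1
  exact (Category.assoc f _ _ ▸ (cancel_mono (P₀.cochainComplexXIso _ _ rfl).inv).1 (h1.trans zero_comp.symm))

/-- A class dies with the `Ext` classes of its representatives. -/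
theorem smul_eq_zero_of_ext (E : ModuleCat.{u} S) [Module.Finite S E] (j m : ℤ) (k : ℕ) (hk : j + m = k)
    (x : piece P₀ a E j m) :
    ∃ (N : ModuleCat.{u} S) (_ : Module.Finite S N) (y : ExtS N k),
      (∀ q : PrimeSpectrum S, q ∈ Module.support S N → q ∈ Module.support S E ∧ a ≤ q.asIdeal) ∧
        ∀ r : S, r • y = 0 → r • x = 0 := by
  obtain ⟨f, hz, hfd, rfl⟩ := exists_rep P₀ a E j m k hk x
  obtain ⟨n, hn⟩ := exists_pow_le_annihilator_of_fg (I := a)
    (T := DRing.torsionSub a (P₀.cochainComplex.X (k : ℤ))) (fun x => by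
      obtain ⟨n, hn⟩ := x.2
      exact ⟨n, fun r hr => Subtype.ext (hn r hr)⟩)
    (W := LinearMap.range f.hom) (Module.Finite.iff_fg.1 (Module.Finite.range f.hom))
  let N : ModuleCat.{u} S := ModuleCat.of S (E ⧸ (a ^ n • (⊤ : Submodule S E)))
  let π : E ⟶ N := ModuleCat.ofHom (a ^ n • (⊤ : Submodule S E)).mkQ
  let fJ := toJ P₀ a E k f
  have hker : a ^ n • (⊤ : Submodule S E) ≤ LinearMap.ker fJ.hom := Submodule.smul_le.2 fun r hr e _ => by
    have h1 : r • f e = 0 := Submodule.mem_annihilator.1 (hn hr) _ ⟨e, rfl⟩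
    rw [LinearMap.mem_ker, map_smul]
    show r • ((gamInc a P₀.cochainComplex).f (k : ℤ) ≫ (P₀.cochainComplexXIso (k : ℤ) k rfl).hom) (f e) = 0
    rw [← map_smul, h1, map_zero]
  let fb : N ⟶ P₀.cocomplex.X k := ModuleCat.ofHom (Submodule.liftQ _ fJ.hom hker)
  haveI : Module.Finite S N := Module.Finite.quotient S _
  haveI : Epi π := (ModuleCat.epi_iff_surjective _).2 (Submodule.mkQ_surjective _)
  have hπ : π ≫ fb = fJ := ModuleCat.hom_ext (Submodule.liftQ_mkQ _ fJ.hom hker)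
  have hfb : fb ≫ P₀.cocomplex.d k (k + 1) = 0 :=
    (cancel_epi π).1 (by rw [← Category.assoc, hπ, hfd, comp_zero])
  refine ⟨N, inferInstance, P₀.extMk fb (k + 1) rfl hfb, fun q hq => ⟨?_, ?_⟩, fun r hr => ?_⟩
  · exact Module.support_subset_of_surjective π.hom (Submodule.mkQ_surjective _) hq
  · intro c hc
    by_contra hcq
    obtain ⟨w, hw⟩ := Module.mem_support_iff'.1 hq
    obtain ⟨e, rfl⟩ := Submodule.mkQ_surjective _ w
    exact hw (c ^ n) (fun h => hcq (q.2.mem_of_pow_mem n h)) (by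
      rw [← map_smul, Submodule.mkQ_apply, Submodule.Quotient.mk_eq_zero]
      exact Submodule.smul_mem_smul (Ideal.pow_mem_pow hc n) trivial)
  have e1 : r • P₀.extMk fb (k + 1) rfl hfb =
      P₀.extMk (r • fb) (k + 1) rfl (by rw [Linear.smul_comp, hfb, smul_zero]) := by
    have h2 := P₀.mk₀_comp_extMk fb (k + 1) rfl hfb (r • 𝟙 N)
    simp only [Ext.mk₀_smul, Ext.smul_comp, Ext.mk₀_id_comp, Linear.smul_comp, Category.id_comp] at h2
    exact h2
  rw [e1] at hr
  rw [hcls_smul_eq_zero_iff, ← fromSingleMk_smul]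
  cases k with
  | zero =>
    have h0 : r • fb = 0 := extMk_inj_zero (P := P₀) _ _ hr
    refine ⟨0, ?_⟩
    have h1 : r • f = 0 := by
      haveI : Mono ((gamInc a P₀.cochainComplex).f ((0 : ℕ) : ℤ)) :=
        (ModuleCat.mono_iff_injective _).2 Subtype.val_injective
      refine (cancel_mono ((gamInc a P₀.cochainComplex).f ((0 : ℕ) : ℤ) ≫
        (P₀.cochainComplexXIso ((0 : ℕ) : ℤ) 0 rfl).hom)).1 ?_
      rw [Linear.smul_comp, zero_comp]
      show r • fJ = 0
      rw [← hπ, ← Linear.comp_smul, h0, comp_zero]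
    rw [h1]
    simp
  | succ k =>
    obtain ⟨g, hg⟩ := (P₀.extMk_eq_zero_iff _ _ _ _ k rfl).1 hr
    have hmem : ∀ e : E, (π ≫ g ≫ (P₀.cochainComplexXIso (k : ℤ) k rfl).inv) e ∈
        DRing.torsionSub a (P₀.cochainComplex.X (k : ℤ)) := fun e => ⟨n, fun c hc => by
      rw [← map_smul]
      show (g ≫ (P₀.cochainComplexXIso (k : ℤ) k rfl).inv) (π (c • e)) = 0
      rw [show π (c • e) = 0 from (Submodule.Quotient.mk_eq_zero _).2 (Submodule.smul_mem_smul hc trivial),
        map_zero]⟩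
    let g' : E ⟶ (gam a P₀.cochainComplex).X (k : ℤ) :=
      ModuleCat.ofHom (LinearMap.codRestrict _ (π ≫ g ≫ (P₀.cochainComplexXIso (k : ℤ) k rfl).inv).hom hmem)
    refine ⟨Cochain.fromSingleMk g' (by push_cast at hk ⊢; omega), ?_⟩
    rw [Cochain.δ_fromSingleMk _ _ m ((k + 1 : ℕ) : ℤ) hk]
    congr 1
    haveI : Mono ((gamInc a P₀.cochainComplex).f ((k + 1 : ℕ) : ℤ)) :=
      (ModuleCat.mono_iff_injective _).2 Subtype.val_injective
    refine (cancel_mono ((gamInc a P₀.cochainComplex).f ((k + 1 : ℕ) : ℤ) ≫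
      (P₀.cochainComplexXIso ((k + 1 : ℕ) : ℤ) (k + 1) rfl).hom)).1 ?_
    rw [Linear.smul_comp]
    refine Eq.trans ?_ ((Linear.comp_smul _ _ _ _ r _).trans (congrArg (r • ·) hπ))
    rw [← hg, Category.assoc, ← (gamInc a P₀.cochainComplex).comm_assoc,
      P₀.cochainComplex_d _ _ k (k + 1) rfl rfl]
    show g' ≫ (gamInc a P₀.cochainComplex).f (k : ℤ) ≫ _ = _
    rw [← Category.assoc g', show g' ≫ (gamInc a P₀.cochainComplex).f (k : ℤ) =
      π ≫ g ≫ (P₀.cochainComplexXIso (k : ℤ) k rfl).inv from ModuleCat.hom_ext (LinearMap.ext fun e => rfl)]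
    simp

/-- Multiplications killing `E` kill the pieces. -/
theorem smul_piece_eq_zero (E : ModuleCat.{u} S) (j m : ℤ) {r : S} (h : ∀ e : E, r • e = 0)
    (x : piece P₀ a E j m) : r • x = 0 := by
  obtain ⟨z, hz, rfl⟩ := exists_hcls _ _ _ x
  rw [hcls_smul_eq_zero_iff]
  refine ⟨0, ?_⟩
  obtain ⟨f, rfl⟩ := Cochain.fromSingleMk_surjective z (j + m) rfl
  rw [← fromSingleMk_smul, show r • f = 0 from ModuleCat.hom_ext (LinearMap.ext fun e => by
    show r • f e = 0
    rw [← map_smul, h, map_zero])]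
  simp

/-- The piece at the height is not small. -/
theorem exists_piece_ne_zero [IsRegularRing S] (P : Ideal S) [P.IsPrime] {d : ℕ} (hd : P.height = d)
    (j m : ℤ) (h : j + m = d) : ¬ Sm P (piece P₀ P (ModuleCat.of S (S ⧸ P)) j m) := by
  obtain ⟨y, hy⟩ := exists_extS_ne_zero P hd
  obtain ⟨f, hf, rfl⟩ := P₀.extMk_surjective y (d + 1) rfl
  have hmem : ∀ e : (ModuleCat.of S (S ⧸ P)), (f ≫ (P₀.cochainComplexXIso (d : ℤ) d rfl).inv) e ∈
      DRing.torsionSub P (P₀.cochainComplex.X (d : ℤ)) := fun e => ⟨1, fun c hc => by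
    rw [← map_smul]
    obtain ⟨s, rfl⟩ := Submodule.Quotient.mk_surjective P e
    rw [← Submodule.Quotient.mk_smul]
    exact (congrArg _ ((Submodule.Quotient.mk_eq_zero P).2
      (P.mul_mem_right s (by rwa [pow_one] at hc)))).trans (map_zero _)⟩
  let f' : ModuleCat.of S (S ⧸ P) ⟶ (gam P P₀.cochainComplex).X (d : ℤ) :=
    ModuleCat.ofHom (LinearMap.codRestrict _ (f ≫ (P₀.cochainComplexXIso (d : ℤ) d rfl).inv).hom hmem)
  have hf' : f' ≫ (gamInc P P₀.cochainComplex).f (d : ℤ) = f ≫ (P₀.cochainComplexXIso (d : ℤ) d rfl).inv :=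
    ModuleCat.hom_ext (LinearMap.ext fun e => rfl)
  have hd' : f' ≫ (gam P P₀.cochainComplex).d (d : ℤ) ((d + 1 : ℕ) : ℤ) = 0 := by
    haveI : Mono ((gamInc P P₀.cochainComplex).f ((d + 1 : ℕ) : ℤ)) :=
      (ModuleCat.mono_iff_injective _).2 Subtype.val_injective
    refine (cancel_mono ((gamInc P P₀.cochainComplex).f ((d + 1 : ℕ) : ℤ))).1 ?_
    rw [Category.assoc, ← (gamInc P P₀.cochainComplex).comm, ← Category.assoc, hf', zero_comp,
      P₀.cochainComplex_d _ _ d (d + 1) rfl rfl]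
    simp [reassoc_of% hf]
  intro hsm
  obtain ⟨u, hu, hu0⟩ := hsm (hcls _ _ m (Cochain.fromSingleMk f' h) (by
    rw [Cochain.δ_fromSingleMk _ _ (m + 1) ((d + 1 : ℕ) : ℤ) (by push_cast; omega), hd']
    simp))
  obtain ⟨β, hβ⟩ := (hcls_smul_eq_zero_iff _ _ _ _ _ _).1 hu0
  obtain ⟨g, rfl⟩ := Cochain.fromSingleMk_surjective β ((d : ℤ) - 1) (by omega)
  rw [Cochain.δ_fromSingleMk _ _ m (d : ℤ) h, ← fromSingleMk_smul] at hβ
  have hg : g ≫ (gam P P₀.cochainComplex).d ((d : ℤ) - 1) (d : ℤ) = u • f' :=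
    (Cochain.fromSingleEquiv h).symm.injective hβ
  apply hy u hu
  have e1 : u • P₀.extMk f (d + 1) rfl hf =
      P₀.extMk (u • f) (d + 1) rfl (by rw [Linear.smul_comp, hf, smul_zero]) := by
    have h2 := P₀.mk₀_comp_extMk f (d + 1) rfl hf (u • 𝟙 _)
    simp only [Ext.mk₀_smul, Ext.smul_comp, Ext.mk₀_id_comp, Linear.smul_comp, Category.id_comp] at h2
    exact h2
  have huf : u • f = (g ≫ (gamInc P P₀.cochainComplex).f ((d : ℤ) - 1)) ≫
      P₀.cochainComplex.d ((d : ℤ) - 1) (d : ℤ) ≫ (P₀.cochainComplexXIso (d : ℤ) d rfl).hom := by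
    rw [Category.assoc, (gamInc P P₀.cochainComplex).comm_assoc, ← Category.assoc, hg, Linear.smul_comp,
      ← Category.assoc, hf']
    simp
  rw [e1]
  cases d with
  | zero =>
    have hz : u • f = 0 := by
      rw [huf, (P₀.cochainComplex.isZero_of_isStrictlyGE 0 (((0 : ℕ) : ℤ) - 1) (by simp)).eq_of_tgt
        (g ≫ (gamInc P P₀.cochainComplex).f (((0 : ℕ) : ℤ) - 1)) 0, zero_comp]
    simp only [hz]
    exact P₀.extMk_zero _ _
  | succ d =>
    refine (P₀.extMk_eq_zero_iff _ _ _ _ d rfl).2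
      ⟨(g ≫ (gamInc P P₀.cochainComplex).f (((d + 1 : ℕ) : ℤ) - 1)) ≫
        (P₀.cochainComplexXIso (((d + 1 : ℕ) : ℤ) - 1) d (by push_cast; ring)).hom, ?_⟩
    rw [huf, P₀.cochainComplex_d (((d + 1 : ℕ) : ℤ) - 1) ((d + 1 : ℕ) : ℤ) d (d + 1) (by push_cast; ring) rfl]
    simp

end Groth.Agent.LocCohLib
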