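import Groth.Agent.LocCohLib.AnnEasy
import Groth.Agent.DepthLib.RegularLocal
import Groth.Agent.DepthLib.CMModule

/-!
# Heights of primes in regular rings
-/

set_option autoImplicit false
set_option linter.style.haveILetI false

universe u

namespace Groth.Agent.LocCohLib

variable {S : Type u} [CommRing S] [IsRegularRing S]

/-- Adjacent primes in a regular ring. -/
theorem height_eq_add_one {P Q : Ideal S} [P.IsPrime] [Q.IsPrime] (hlt : P < Q)
    (hint : ∀ T : Ideal S, T.IsPrime → P < T → T ≤ Q → T = Q) : Q.height = P.height + 1 := by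
  refine le_antisymm ?_ (Ideal.height_add_one_le_of_lt_of_isPrime hlt)
  let A := Localization.AtPrime Q
  haveI := DepthLib.isCohenMacaulayLocalRing_of_isRegularLocalRing A
  let P' : Ideal A := P.map (algebraMap S A)
  have hd : Disjoint (Q.primeCompl : Set S) (P : Set S) :=
    Set.disjoint_left.2 fun x hx hx' => hx (hlt.le hx')
  haveI hP' : P'.IsPrime := IsLocalization.isPrime_of_isPrime_disjoint Q.primeCompl A P inferInstance hd
  have hc : P'.comap (algebraMap S A) = P :=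
    IsLocalization.under_map_of_isPrime_disjoint Q.primeCompl A inferInstance hd
  have h1 := DepthLib.supportDim_quotient_add_idealDepth (DepthLib.isCohenMacaulayModule_self (R := A))
    (I := P') hP'.ne_top
  rw [smul_eq_mul, Ideal.mul_top, Module.supportDim_self_eq_ringKrullDim] at h1
  have h2 : Module.supportDim A (A ⧸ P') ≤ ((1 : ℕ∞) : WithBot ℕ∞) := by
    refine iSup_le fun l => ?_
    suffices hl : l.length ≤ 1 by exact_mod_cast hl
    by_contra hl
    have hmem : ∀ j, P' ≤ (l j).1.asIdeal := fun j => by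
      have := Module.annihilator_le_of_mem_support (l j).2
      rwa [Ideal.annihilator_quotient] at this
    have hlt' : ∀ i, (h : i + 1 ≤ l.length) → ((l ⟨i, by omega⟩).1.asIdeal.comap (algebraMap S A)) <
        ((l ⟨i + 1, by omega⟩).1.asIdeal.comap (algebraMap S A)) := fun i h => by
      have h0 : (l ⟨i, by omega⟩).1.asIdeal < (l ⟨i + 1, by omega⟩).1.asIdeal := l.step ⟨i, by omega⟩
      refine lt_of_le_of_ne (Ideal.comap_mono h0.le) fun e => h0.ne ?_
      rw [← IsLocalization.map_under Q.primeCompl A (l ⟨i, by omega⟩).1.asIdeal,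
        ← IsLocalization.map_under Q.primeCompl A (l ⟨i + 1, by omega⟩).1.asIdeal]
      exact congrArg (Ideal.map (algebraMap S A)) e
    have hle : ∀ j, (l j).1.asIdeal.comap (algebraMap S A) ≤ Q := fun j =>
      (Ideal.comap_mono (IsLocalRing.le_maximalIdeal (l j).1.2.ne_top)).trans
        (Localization.AtPrime.under_maximalIdeal (I := Q)).le
    have hge : ∀ j, P ≤ (l j).1.asIdeal.comap (algebraMap S A) := fun j =>
      hc.ge.trans (Ideal.comap_mono (hmem j))
    have h01 := hlt' 0 (by omega)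
    have h12 := hlt' 1 (by omega)
    exact h12.not_ge ((hle _).trans (hint _ (Ideal.IsPrime.comap _) ((hge _).trans_lt h01) (hle _)).ge)
  have h3 : ((LocCoh.idealDepth P' A : ℕ∞) : WithBot ℕ∞) ≤ (P.height : WithBot ℕ∞) := by
    refine (DepthLib.idealDepth_le_supportDim_localization (R := A) (M := A) ⟨P', hP'⟩ le_rfl
      (Module.mem_support_iff'.2 ⟨1, fun r hr h0 => hr (by
        rw [smul_eq_mul, mul_one] at h0; rw [h0]; exact P'.zero_mem)⟩)).trans
      ((Module.supportDim_le_ringKrullDim _ _).trans ?_)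
    rw [IsLocalization.AtPrime.ringKrullDim_eq_height P' (Localization.AtPrime P'),
      ← IsLocalization.height_under Q.primeCompl P']
    exact le_of_eq (congrArg (fun I : Ideal S => (I.height : WithBot ℕ∞)) hc)
  have h4 := h1.ge.trans (add_le_add h2 h3)
  rw [IsLocalization.AtPrime.ringKrullDim_eq_height Q A] at h4
  rw [add_comm]
  exact_mod_cast h4

/-- Primes minimal over `P + (y)` are adjacent to `P`. -/
theorem height_eq_of_mem_minimalPrimes {P R : Ideal S} [P.IsPrime] {y : S} (hy : y ∉ P)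
    (hR : R ∈ (P ⊔ Ideal.span {y}).minimalPrimes) : R.height = P.height + 1 := by
  haveI := hR.1.1
  have hlt : P < R := lt_of_le_of_ne (le_sup_left.trans hR.1.2) fun e =>
    hy (e ▸ hR.1.2 (Ideal.mem_sup_right (Ideal.mem_span_singleton_self y)))
  refine height_eq_add_one hlt fun T hT hPT hTR => ?_
  by_contra hne
  haveI := hT
  have hker : RingHom.ker (Ideal.Quotient.mk P) ≤ R := by rw [Ideal.mk_ker]; exact hlt.le
  haveI : (R.map (Ideal.Quotient.mk P)).IsPrime :=
    Ideal.map_isPrime_of_surjective Ideal.Quotient.mk_surjective hker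
  have hmin : R.map (Ideal.Quotient.mk P) ∈ (Ideal.span {Ideal.Quotient.mk P y}).minimalPrimes := by
    refine ⟨⟨inferInstance, (Ideal.span_singleton_le_iff_mem _).2 (Ideal.mem_map_of_mem _
      (hR.1.2 (Ideal.mem_sup_right (Ideal.mem_span_singleton_self y))))⟩, fun W hW hWR => ?_⟩
    rw [← Ideal.map_comap_of_surjective _ Ideal.Quotient.mk_surjective W]
    refine Ideal.map_mono (hR.2 ⟨haveI := hW.1; Ideal.IsPrime.comap _, sup_le (fun r hr => ?_)
      ((Ideal.span_singleton_le_iff_mem _).2 (hW.2 (Ideal.mem_span_singleton_self _)))⟩ ?_)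
    · rw [Ideal.mem_comap, Ideal.Quotient.eq_zero_iff_mem.2 hr]; exact W.zero_mem
    · refine (Ideal.comap_mono hWR).trans ?_
      rw [Ideal.comap_map_of_surjective' _ Ideal.Quotient.mk_surjective, sup_eq_left.2 hker]
  have hb : Bd 1 P R := bd_of_height 1 0 P inferInstance le_rfl hlt.le (by simp)
    ((Ideal.height_le_one_of_isPrincipal_of_mem_minimalPrimes _ _ hmin).trans_eq (by simp))
  exact hne (hb T hT hPT hTR)

/-- No gaps in heights. -/
theorem exists_isPrime_height_eq_between {P Q : Ideal S} [P.IsPrime] [Q.IsPrime] (hle : P ≤ Q) {n : ℕ}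
    (h₁ : P.height ≤ n) (h₂ : (n : ℕ∞) ≤ Q.height) :
    ∃ T : Ideal S, T.IsPrime ∧ P ≤ T ∧ T ≤ Q ∧ T.height = n := by
  obtain ⟨T, ⟨hT, hPT, hTQ, hTn⟩, hmax⟩ := set_has_maximal_iff_noetherian.2 inferInstance
    {T : Ideal S | T.IsPrime ∧ P ≤ T ∧ T ≤ Q ∧ T.height ≤ n} ⟨P, inferInstance, le_rfl, hle, h₁⟩
  refine ⟨T, hT, hPT, hTQ, le_antisymm hTn (not_lt.1 fun hlt => ?_)⟩
  haveI := hT
  obtain ⟨y, hyQ, hyT⟩ := SetLike.exists_of_lt (lt_of_le_of_ne hTQ fun e => by
    rw [e] at hlt; exact absurd h₂ hlt.not_ge)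
  obtain ⟨R, hR, hRQ⟩ := Ideal.exists_minimalPrimes_le (I := T ⊔ Ideal.span {y}) (J := Q)
    (sup_le hTQ ((Ideal.span_singleton_le_iff_mem _).2 hyQ))
  have hTR : T ≤ R := le_sup_left.trans hR.1.2
  refine hmax R ⟨hR.1.1, hPT.trans hTR, hRQ, ?_⟩ (lt_of_le_of_ne hTR fun e =>
    hyT (e ▸ hR.1.2 (Ideal.mem_sup_right (Ideal.mem_span_singleton_self y))))
  rw [height_eq_of_mem_minimalPrimes hyT hR]
  exact Order.add_one_le_of_lt hlt

/-- A prime just below `Q`, off `V(b)`. -/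
theorem exists_isPrime_below {P Q : Ideal S} [P.IsPrime] [Q.IsPrime] (hle : P ≤ Q) {b : Ideal S}
    (hbP : ¬ b ≤ P) (hbQ : b ≤ Q) :
    ∃ T : Ideal S, T.IsPrime ∧ P ≤ T ∧ T ≤ Q ∧ ¬ b ≤ T ∧ Q.height = T.height + 1 := by
  classical
  obtain ⟨T, hT, hPT, hTQ, hTb, hmax⟩ : ∃ T : Ideal S, T.IsPrime ∧ P ≤ T ∧ T ≤ Q ∧ ¬ b ≤ T ∧
      ∀ J ∈ {T : Ideal S | T.IsPrime ∧ P ≤ T ∧ T ≤ Q ∧ ¬ b ≤ T}, ¬ T < J := by
    obtain ⟨T, ⟨hT, hPT, hTQ, hTb⟩, hmax⟩ := set_has_maximal_iff_noetherian.2 inferInstance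
      {T : Ideal S | T.IsPrime ∧ P ≤ T ∧ T ≤ Q ∧ ¬ b ≤ T} ⟨P, inferInstance, le_rfl, hle, hbP⟩
    exact ⟨T, hT, hPT, hTQ, hTb, hmax⟩
  refine ⟨T, hT, hPT, hTQ, hTb, ?_⟩
  haveI := hT
  obtain ⟨v, hvb, hvT⟩ := SetLike.not_le_iff_exists.1 hTb
  suffices hQ : Q ∈ Ideal.minimalPrimes (T ⊔ Ideal.span {v}) from height_eq_of_mem_minimalPrimes hvT hQ
  by_contra hQ
  let F := ((T ⊔ Ideal.span {v}).finite_minimalPrimes_of_isNoetherianRing).toFinset.filter fun R => ¬ Q ≤ R
  obtain ⟨y, hyQ, hy⟩ : ∃ y ∈ Q, y ∉ T ∧ ∀ R ∈ F, y ∉ R := by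
    by_contra hc
    push Not at hc
    obtain ⟨R, hR, hQR⟩ := (Ideal.subset_union_prime (s := insert T F) (f := id) (R := S) (I := Q) ⊥ ⊥
      fun R hR _ _ => by
        rcases Finset.mem_insert.1 hR with rfl | hR
        · exact hT
        · exact ((Set.Finite.mem_toFinset _).1 (Finset.mem_filter.1 hR).1).1.1).1 (fun y hy => by
        by_cases hyT : y ∈ T
        · exact Set.mem_iUnion₂.2 ⟨T, Finset.mem_insert_self _ _, hyT⟩
        · obtain ⟨R, hR, hyR⟩ := hc y hy hyT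
          exact Set.mem_iUnion₂.2 ⟨R, Finset.mem_insert_of_mem hR, hyR⟩)
    rcases Finset.mem_insert.1 hR with rfl | hR
    · exact hTb (hbQ.trans hQR)
    · exact (Finset.mem_filter.1 hR).2 hQR
  obtain ⟨R, hR, hRQ⟩ := Ideal.exists_minimalPrimes_le (I := T ⊔ Ideal.span {y}) (J := Q)
    (sup_le hTQ ((Ideal.span_singleton_le_iff_mem _).2 hyQ))
  haveI := hR.1.1
  have hTR : T ≤ R := le_sup_left.trans hR.1.2
  have hyR : y ∈ R := hR.1.2 (Ideal.mem_sup_right (Ideal.mem_span_singleton_self y))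
  have hbR : b ≤ R := by
    by_contra hb
    exact hmax R ⟨inferInstance, hPT.trans hTR, hRQ, hb⟩ (lt_of_le_of_ne hTR fun e => hy.1 (e ▸ hyR))
  obtain ⟨R₀, hR₀, hR₀R⟩ := Ideal.exists_minimalPrimes_le (I := T ⊔ Ideal.span {v}) (J := R)
    (sup_le hTR ((Ideal.span_singleton_le_iff_mem _).2 (hbR hvb)))
  haveI := hR₀.1.1
  rcases hR₀R.eq_or_lt with rfl | hlt
  · by_cases hQR : Q ≤ R₀
    · exact hQ (le_antisymm hQR hRQ ▸ hR₀)
    · exact hy.2 R₀ (Finset.mem_filter.2 ⟨(Set.Finite.mem_toFinset _).2 hR₀, hQR⟩) hyR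
  · have h1 := Ideal.height_add_one_le_of_lt_of_isPrime hlt
    rw [height_eq_of_mem_minimalPrimes hvT hR₀, height_eq_of_mem_minimalPrimes hy.1 hR] at h1
    have hfin : T.height ≠ ⊤ := Ideal.height_ne_top hT.ne_top
    obtain ⟨m, hm⟩ := ENat.ne_top_iff_exists.1 hfin
    rw [← hm] at h1
    norm_cast at h1
    omega

end Groth.Agent.LocCohLib
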