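import Groth.Prelude.Def_W4bk5brsh16IT
import Groth.Agent.LocCohLib.ExtVanishing
import Groth.Agent.LocCohLib.Artinian
import Mathlib.Algebra.Homology.DerivedCategory.Ext.EnoughProjectives
import Mathlib.Algebra.Category.ModuleCat.Projective

/-!
# The ideal transform `D_I(M) = colim Hom(I^n, M)`
-/

set_option autoImplicit false
set_option linter.style.haveILetI false
set_option linter.unusedVariables false

universe u

open CategoryTheory CategoryTheory.Limits Opposite Pointwise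
open CategoryTheory.Abelian (Ext)

namespace Groth.Agent.LocCohLib

variable {R : Type u} [CommRing R]

/-- The module `I^n`. -/
noncomputable abbrev idl (I : Ideal R) (n : ℕ) : ModuleCat.{u} R := ModuleCat.of R (I ^ n : Ideal R)

/-- The inclusion `I^m → I^n`. -/
noncomputable def pres (I : Ideal R) {n m : ℕ} (h : n ≤ m) : idl I m ⟶ idl I n :=
  ModuleCat.ofHom (Submodule.inclusion (Ideal.pow_le_pow_right h))

theorem res_res (I : Ideal R) {n m k : ℕ} (h : n ≤ m) (h' : m ≤ k) :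
    pres I h' ≫ pres I h = pres I (h.trans h') := rfl

section dcl

variable (I : Ideal R) (M : ModuleCat.{u} R)

/-- The system `n ↦ Hom(I^n, M)`. -/
noncomputable abbrev dSys : ℕᵒᵖᵒᵖ ⥤ ModuleCat.{u} R :=
  LocCoh.transformDiagram I ⋙ (evaluation _ _).obj M

/-- The colimit cocone. -/
noncomputable abbrev dCocone : Cocone (dSys I M) :=
  ((evaluation _ _).obj M).mapCocone (colimit.cocone (LocCoh.transformDiagram I))

/-- It is a colimit. -/
noncomputable def dIsColimit : IsColimit (dCocone I M) :=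
  isColimitOfPreserves _ (colimit.isColimit _)

/-- The class of `f : I^n → M`. -/
noncomputable def dcl (n : ℕ) : (idl I n ⟶ M) →ₗ[R] LocCoh.DT I M where
  toFun f := ((dCocone I M).ι.app (op (op n))).hom f
  map_add' f g := map_add ((dCocone I M).ι.app (op (op n))).hom f g
  map_smul' r f := map_smul ((dCocone I M).ι.app (op (op n))).hom r f

variable {I M}

theorem dcl_res {n m : ℕ} (h : n ≤ m) (f : idl I n ⟶ M) :
    dcl I M m (pres I h ≫ f) = dcl I M n f :=
  ConcreteCategory.congr_hom ((dCocone I M).w (homOfLE h).op.op) f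

theorem exists_dcl (d : LocCoh.DT I M) : ∃ n f, dcl I M n f = d := by
  obtain ⟨⟨⟨n⟩⟩, y, hy⟩ := Concrete.isColimit_exists_rep _ (dIsColimit I M) d
  exact ⟨n, y, hy⟩

theorem dcl_eq_zero_iff {n : ℕ} (f : idl I n ⟶ M) :
    dcl I M n f = 0 ↔ ∃ (m : ℕ) (h : n ≤ m), pres I h ≫ f = 0 := by
  refine ⟨fun h0 => ?_, fun ⟨m, h, hm⟩ => by rw [← dcl_res h, hm, map_zero]⟩
  obtain ⟨⟨⟨m⟩⟩, p, q, hpq⟩ := (Concrete.isColimit_rep_eq_iff_exists (dSys I M)
    (i := op (op n)) (j := op (op n)) (dIsColimit I M) f (0 : (dSys I M).obj (op (op n)))).1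
      (h0.trans (map_zero ((dCocone I M).ι.app (op (op n))).hom).symm)
  have hnm : n ≤ m := leOfHom p.unop.unop
  refine ⟨m, hnm, ?_⟩
  rw [show p = (homOfLE hnm).op.op from Subsingleton.elim _ _] at hpq
  exact hpq.trans (map_zero ((dSys I M).map q).hom)

/-- `r ↦ r • x` on `I^n`. -/
noncomputable def smulOn (n : ℕ) (x : M) : idl I n ⟶ M :=
  ModuleCat.ofHom ((LinearMap.toSpanSingleton R M x).domRestrict (I ^ n : Ideal R))

theorem toDT_eq (x : M) : LocCoh.toDT I M x = dcl I M 0 (smulOn 0 x) := rfl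

theorem toDT_eq_dcl (n : ℕ) (x : M) : LocCoh.toDT I M x = dcl I M n (smulOn n x) := by
  rw [toDT_eq, ← dcl_res (Nat.zero_le n)]
  rfl

theorem smul_dcl {n : ℕ} (f : idl I n ⟶ M) {a : R} (ha : a ∈ I ^ n) :
    a • dcl I M n f = LocCoh.toDT I M (f ⟨a, ha⟩) := by
  rw [toDT_eq_dcl n, ← map_smul]
  refine congrArg (dcl I M n) (ModuleCat.hom_ext (LinearMap.ext fun r => ?_))
  show a • f.hom r = (r : R) • f.hom ⟨a, ha⟩
  rw [← map_smul, ← map_smul]
  exact congrArg f.hom (Subtype.ext (mul_comm a (r : R)))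

theorem toDT_eq_zero_iff (x : M) : LocCoh.toDT I M x = 0 ↔ x ∈ DRing.torsionSub I M := by
  constructor
  · intro h
    obtain ⟨m, hm, e⟩ := (dcl_eq_zero_iff _).1 ((toDT_eq x).symm.trans h)
    exact ⟨m, fun a ha => ConcreteCategory.congr_hom e ⟨a, ha⟩⟩
  · rintro ⟨m, hm⟩
    rw [toDT_eq_dcl m, show smulOn (I := I) m x = 0 from
      ModuleCat.hom_ext (LinearMap.ext fun r => hm _ r.2), map_zero]

variable [IsNoetherianRing R]

theorem dcl_eq_zero_of_torsion {n : ℕ} (f : idl I n ⟶ M)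
    (hf : ∀ a, f a ∈ DRing.torsionSub I M) : dcl I M n f = 0 := by
  let g : (I ^ n : Ideal R) →ₗ[R] DRing.torsionSub I M := f.hom.codRestrict _ hf
  obtain ⟨k, hk⟩ := exists_pow_le_annihilator_of_fg (isPowerTorsion_torsionSub I M)
    (W := LinearMap.range g) (by
      rw [LinearMap.range_eq_map]
      exact Submodule.FG.map g (Module.finite_def.1 inferInstance))
  refine (dcl_eq_zero_iff f).2 ⟨n + k, Nat.le_add_right n k, ModuleCat.hom_ext (LinearMap.ext fun c => ?_)⟩
  have key : ∀ x ∈ I ^ (n + k), ∃ h : x ∈ I ^ n, f.hom ⟨x, h⟩ = 0 := fun x hx => by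
    rw [pow_add] at hx
    refine Submodule.mul_induction_on hx (fun a ha b hb => ⟨Ideal.mul_mem_right b _ ha, ?_⟩) ?_
    · rw [show (⟨a * b, Ideal.mul_mem_right b _ ha⟩ : (I ^ n : Ideal R)) = b • ⟨a, ha⟩ from
        Subtype.ext (mul_comm a b), map_smul]
      exact congrArg Subtype.val (Submodule.mem_annihilator.1 (hk hb) (g ⟨a, ha⟩) ⟨_, rfl⟩)
    · rintro x y ⟨h₁, e₁⟩ ⟨h₂, e₂⟩
      refine ⟨add_mem h₁ h₂, ?_⟩
      rw [show (⟨x + y, add_mem h₁ h₂⟩ : (I ^ n : Ideal R)) = ⟨x, h₁⟩ + ⟨y, h₂⟩ from rfl, map_add,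
        e₁, e₂, add_zero]
  exact (key c.1 c.2).2

variable (I M)

/-- `D_I(M)` has no torsion. -/
theorem torsionSub_DT : DRing.torsionSub I (LocCoh.DT I M) = ⊥ := by
  refine (Submodule.eq_bot_iff _).2 fun d ⟨k, hk⟩ => ?_
  obtain ⟨n, f, rfl⟩ := exists_dcl d
  rw [← dcl_res (Nat.le_max_left n k) f]
  refine dcl_eq_zero_of_torsion _ fun a => (toDT_eq_zero_iff _).1 ?_
  refine (smul_dcl (pres I (Nat.le_max_left n k) ≫ f) a.2).symm.trans ?_
  rw [dcl_res]
  exact hk _ (Ideal.pow_le_pow_right (Nat.le_max_right n k) a.2)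

variable {I M}

theorem DT_ext {d d' : LocCoh.DT I M} (n : ℕ) (h : ∀ a ∈ I ^ n, a • d = a • d') : d = d' := by
  have hm : d - d' ∈ DRing.torsionSub I (LocCoh.DT I M) :=
    ⟨n, fun a ha => by rw [smul_sub, h a ha, sub_self]⟩
  rw [torsionSub_DT I M] at hm
  exact sub_eq_zero.1 ((Submodule.mem_bot R).1 hm)

theorem exists_pow_smul_mem_range (d : LocCoh.DT I M) :
    ∃ n : ℕ, ∀ a ∈ I ^ n, a • d ∈ LinearMap.range (LocCoh.toDT I M) := by
  obtain ⟨n, f, rfl⟩ := exists_dcl d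
  exact ⟨n, fun a ha => ⟨_, (smul_dcl f ha).symm⟩⟩

/-- The ring as a module. -/
noncomputable abbrev rMod : ModuleCat.{u} R := ModuleCat.of R R

/-- `0 → I^n → R → R/I^n → 0`. -/
noncomputable abbrev powSeq (I : Ideal R) (n : ℕ) : ShortComplex (ModuleCat.{u} R) :=
  ShortComplex.mk (X₁ := idl I n) (X₂ := rMod) (X₃ := qMod I n)
    (ModuleCat.ofHom (X := (I ^ n : Ideal R)) (I ^ n : Ideal R).subtype)
    (ModuleCat.ofHom (X := R) (I ^ n : Ideal R).mkQ)
    (ModuleCat.hom_ext (LinearMap.ext fun x => (Submodule.Quotient.mk_eq_zero _).2 x.2))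

omit [IsNoetherianRing R] in
theorem powSeq_shortExact (I : Ideal R) (n : ℕ) : (powSeq I n).ShortExact where
  exact := (ShortComplex.ShortExact.moduleCat_exact_iff_function_exact _).2
    (LinearMap.exact_subtype_mkQ _)
  mono_f := (ModuleCat.mono_iff_injective _).2 Subtype.val_injective
  epi_g := (ModuleCat.epi_iff_surjective _).2 (Submodule.mkQ_surjective _)

/-- The transition map of these sequences. -/
noncomputable abbrev powSeqTr (I : Ideal R) {n m : ℕ} (h : n ≤ m) : powSeq I m ⟶ powSeq I n where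
  τ₁ := pres I h
  τ₂ := 𝟙 _
  τ₃ := tr I h
  comm₁₂ := rfl
  comm₂₃ := rfl

omit [IsNoetherianRing R] in
theorem tr_comp_extClass {n m : ℕ} (h : n ≤ m) {X : ModuleCat.{u} R} {i : ℕ} (x : Ext (idl I n) X i) :
    (Ext.mk₀ (tr I h)).comp ((powSeq_shortExact I n).extClass.comp x (add_comm 1 i)) (zero_add (i + 1)) =
      (powSeq_shortExact I m).extClass.comp ((Ext.mk₀ (pres I h)).comp x (zero_add i)) (add_comm 1 i) := by
  have e := ShortComplex.ShortExact.extClass_naturality (powSeq_shortExact I m) (powSeq_shortExact I n)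
    (powSeqTr I h)
  rw [← Ext.comp_assoc (Ext.mk₀ (tr I h)) (powSeq_shortExact I n).extClass x (zero_add 1)
    (add_comm 1 i) (by omega),
    ← Ext.comp_assoc (powSeq_shortExact I m).extClass (Ext.mk₀ (pres I h)) x (add_zero 1) (zero_add i)
    (by omega)]
  exact congrArg (fun q => Ext.comp q x (add_comm 1 i)) e.symm

omit [IsNoetherianRing R] in
theorem eq_zero_ext_rMod {X : ModuleCat.{u} R} {i : ℕ} (z : Ext (rMod (R := R)) X (i + 1)) : z = 0 := by
  haveI : Projective (rMod (R := R)) :=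
    ModuleCat.projective_of_categoryTheory_projective (P := rMod (R := R))
  exact Ext.eq_zero_of_projective z

/-- `D_I(M) → H^1_I(M)` on one stage. -/
noncomputable def phiAt (I : Ideal R) (M : ModuleCat.{u} R) (n : ℕ) :
    (idl I n ⟶ M) →ₗ[R] (localCohomology I 1).obj M where
  toFun f := cl I 1 M n ((powSeq_shortExact I n).extClass.comp (Ext.mk₀ f) (add_zero 1))
  map_add' f g := by rw [Ext.mk₀_add, Ext.comp_add, map_add]
  map_smul' r f := by rw [Ext.mk₀_smul, Ext.comp_smul, map_smul, RingHom.id_apply]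

omit [IsNoetherianRing R] in
theorem phiAt_res {n m : ℕ} (h : n ≤ m) (f : idl I n ⟶ M) :
    phiAt I M m (pres I h ≫ f) = phiAt I M n f := by
  show cl I 1 M m _ = cl I 1 M n _
  rw [← Ext.mk₀_comp_mk₀, ← tr_comp_extClass h, cl_tr]

/-- `D_I(M) → H^1_I(M)`. -/
noncomputable def phi (I : Ideal R) (M : ModuleCat.{u} R) :
    LocCoh.DT I M →ₗ[R] (localCohomology I 1).obj M :=
  ((dIsColimit I M).desc (Cocone.mk _
    { app := fun j => ModuleCat.ofHom (X := idl I j.unop.unop ⟶ M) (phiAt I M j.unop.unop)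
      naturality := fun j k p => by
        ext f
        exact phiAt_res (leOfHom p.unop.unop) f })).hom

omit [IsNoetherianRing R] in
theorem phi_dcl (n : ℕ) (f : idl I n ⟶ M) : phi I M (dcl I M n f) = phiAt I M n f :=
  ConcreteCategory.congr_hom ((dIsColimit I M).fac _ (op (op n))) f

theorem phi_surjective : Function.Surjective (phi I M) := by
  intro z
  obtain ⟨n, x, rfl⟩ := exists_cl z
  obtain ⟨y, rfl⟩ := Ext.contravariant_sequence_exact₃ (powSeq_shortExact I n) _ x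
    (eq_zero_ext_rMod _) (add_zero 1)
  obtain ⟨f, rfl⟩ := Ext.addEquiv₀.symm.surjective y
  exact ⟨dcl I M n f, phi_dcl n f⟩

theorem ker_phi : LinearMap.ker (phi I M) = LinearMap.range (LocCoh.toDT I M) := by
  refine le_antisymm (fun d hd => ?_) ?_
  · obtain ⟨n, f, rfl⟩ := exists_dcl d
    rw [LinearMap.mem_ker, phi_dcl] at hd
    obtain ⟨m, h, e⟩ := (cl_eq_zero_iff _).1 hd
    rw [tr_comp_extClass h, Ext.mk₀_comp_mk₀] at e
    obtain ⟨g, hg⟩ := Ext.contravariant_sequence_exact₁ (powSeq_shortExact I m) _ _ _ e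
    obtain ⟨g, rfl⟩ := Ext.addEquiv₀.symm.surjective g
    have hg' : (powSeq I m).f ≫ g = pres I h ≫ f := (Ext.mk₀_bijective _ _).1 ((Ext.mk₀_comp_mk₀ _ _).symm.trans hg)
    refine ⟨g (1 : R), ?_⟩
    rw [← dcl_res h, toDT_eq_dcl m, ← hg']
    refine congrArg (dcl I M m) (ModuleCat.hom_ext (LinearMap.ext fun r => ?_))
    refine (map_smul g.hom (r : R) (1 : R)).symm.trans ?_
    exact congrArg g.hom ((smul_eq_mul (r : R) 1).trans (mul_one _))
  · rintro _ ⟨x, rfl⟩
    rw [LinearMap.mem_ker, toDT_eq, phi_dcl]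
    show cl I 1 M 0 _ = 0
    have e : smulOn (I := I) 0 x = (powSeq I 0).f ≫ ModuleCat.ofHom (X := R)
      (LinearMap.toSpanSingleton R M x) := rfl
    rw [e, ← Ext.mk₀_comp_mk₀, ShortComplex.ShortExact.extClass_comp_assoc, map_zero]

variable (I M)

/-- `coker η = H^1_I`. -/
theorem nonempty_cokerToDTEquiv :
    Nonempty ((LocCoh.DT I M ⧸ LinearMap.range (LocCoh.toDT I M)) ≃ₗ[R] (localCohomology I 1).obj M) :=
  ⟨Submodule.quotEquivOfEq _ _ ker_phi.symm ≪≫ₗ LinearMap.quotKerEquivOfSurjective _ phi_surjective⟩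

/-- Lifting a map out of `I^n` through a surjection with torsion kernel. -/
theorem exists_lift_hom {S : ShortComplex (ModuleCat.{u} R)} (hS : S.ShortExact)
    (hT : LocCoh.IsPowerTorsion I S.X₁) {n : ℕ} (g : idl I n ⟶ S.X₃) :
    ∃ (m : ℕ) (h : n ≤ m) (f : idl I m ⟶ S.X₂), f ≫ S.g = pres I h ≫ g := by
  let x : Ext (idl I n) S.X₁ 1 := (Ext.mk₀ g).comp hS.extClass (zero_add 1)
  obtain ⟨m, h, e⟩ := (cl_eq_zero_iff _).1 ((subsingleton_of_isPowerTorsion (I := I) 1 S.X₁ hT).elim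
    (cl I 2 S.X₁ n ((powSeq_shortExact I n).extClass.comp x (add_comm 1 1))) 0)
  rw [tr_comp_extClass h] at e
  obtain ⟨z, hz⟩ := Ext.contravariant_sequence_exact₁ (powSeq_shortExact I m) _ _ _ e
  rw [eq_zero_ext_rMod z, Ext.comp_zero, ← Ext.comp_assoc (Ext.mk₀ (pres I h)) (Ext.mk₀ g) hS.extClass
    (zero_add 0) (zero_add 1) (by omega), Ext.mk₀_comp_mk₀] at hz
  obtain ⟨y, hy⟩ := Ext.covariant_sequence_exact₃ _ hS _ rfl hz.symm
  obtain ⟨f, rfl⟩ := Ext.addEquiv₀.symm.surjective y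
  exact ⟨m, h, f, (Ext.mk₀_bijective _ _).1 ((Ext.mk₀_comp_mk₀ _ _).symm.trans hy)⟩

variable {I M}

/-- Every map `I^n → D_I(M)` is, eventually, `a ↦ a • d`. -/
theorem exists_smul_eq {n : ℕ} (f : idl I n ⟶ ModuleCat.of R (LocCoh.DT I M)) :
    ∃ (d : LocCoh.DT I M) (N : ℕ) (h : n ≤ N), ∀ a (ha : a ∈ I ^ N),
      a • d = f ⟨a, Ideal.pow_le_pow_right h ha⟩ := by
  obtain ⟨E, ι, hE, hι, hE0⟩ := exists_torsionFree_seq (G := ModuleCat.of R (LocCoh.DT I M))
    (torsionSub_DT I M)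
  have hιinj : Function.Injective ι.hom := (ModuleCat.mono_iff_injective ι).1 hι
  haveI : Injective (ModuleCat.of R E) := (inferInstance : Injective E)
  haveI : Module.Injective R E := Module.injective_module_of_injective_object R _
  obtain ⟨ψ, hψ⟩ := Module.Injective.out (R := R) (Q := E) (I ^ n : Ideal R).subtype
    (I ^ n : Ideal R).injective_subtype (ι.hom ∘ₗ f.hom)
  let η := LocCoh.toDT I M
  have hC : LocCoh.IsPowerTorsion I (LocCoh.DT I M ⧸ LinearMap.range η) := fun y => by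
    obtain ⟨y, rfl⟩ := Submodule.Quotient.mk_surjective _ y
    obtain ⟨k, hk⟩ := exists_pow_smul_mem_range y
    exact ⟨k, fun a ha => by
      rw [← Submodule.Quotient.mk_smul, Submodule.Quotient.mk_eq_zero]; exact hk a ha⟩
  let fb : (I ^ n : Ideal R) →ₗ[R] (LocCoh.DT I M ⧸ LinearMap.range η) :=
    (LinearMap.range η).mkQ ∘ₗ f.hom
  obtain ⟨k, hk⟩ := exists_pow_le_annihilator_of_fg hC (W := LinearMap.range fb) (by
    have h := Submodule.FG.map fb (Module.finite_def.1 (inferInstance : Module.Finite R (I ^ n : Ideal R)))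
    rwa [← LinearMap.range_eq_map] at h)
  have hmem : ∀ c ∈ I ^ (n + k), ψ c ∈ LinearMap.range (ι.hom ∘ₗ η) := fun c hc => by
    rw [pow_add] at hc
    refine Submodule.mul_induction_on hc (fun a ha b hb => ?_) fun x y hx hy => by
      rw [map_add]; exact add_mem hx hy
    have h1 : b • f.hom ⟨a, ha⟩ ∈ LinearMap.range η := by
      rw [← Submodule.Quotient.mk_eq_zero, Submodule.Quotient.mk_smul]
      exact Submodule.mem_annihilator.1 (hk hb) _ ⟨⟨a, ha⟩, rfl⟩
    obtain ⟨x, hx⟩ := h1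
    refine ⟨x, ?_⟩
    rw [LinearMap.comp_apply, hx, map_smul, mul_comm a b, show b * a = b • a from rfl, map_smul]
    exact congrArg (b • ·) (hψ ⟨a, ha⟩).symm
  let q : M ⧸ DRing.torsionSub I M →ₗ[R] E := (DRing.torsionSub I M).liftQ (ι.hom ∘ₗ η) fun x hx => by
    rw [LinearMap.mem_ker, LinearMap.comp_apply, (toDT_eq_zero_iff x).2 hx, map_zero]
  have hq : Function.Injective q := by
    rw [← LinearMap.ker_eq_bot]
    refine Submodule.ker_liftQ_eq_bot _ _ _ fun x hx => (toDT_eq_zero_iff x).1 (hιinj ?_)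
    rw [map_zero]; exact hx
  have hmem' : ∀ c : (I ^ (n + k) : Ideal R), ψ c.1 ∈ LinearMap.range q := fun c => by
    obtain ⟨x, hx⟩ := hmem c.1 c.2
    exact ⟨Submodule.Quotient.mk x, hx⟩
  let g : idl I (n + k) ⟶ (torSeq I M).X₃ := ModuleCat.ofHom
    ((LinearEquiv.ofInjective q hq).symm.toLinearMap ∘ₗ
      (ψ ∘ₗ (I ^ (n + k) : Ideal R).subtype).codRestrict (LinearMap.range q) hmem')
  have hg : ∀ c, q (g.hom c) = ψ c.1 := fun c =>
    congrArg Subtype.val ((LinearEquiv.ofInjective q hq).apply_symm_apply _)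
  obtain ⟨m, hm, h, hh⟩ := exists_lift_hom I (torSeq_shortExact I M) (isPowerTorsion_torsionSub I M) g
  obtain ⟨h, rfl⟩ : ∃ h' : idl I m ⟶ M, h' = h := ⟨h, rfl⟩
  refine ⟨dcl I M m h, m, (Nat.le_add_right n k).trans hm, fun a ha => hιinj ?_⟩
  rw [smul_dcl h ha]
  refine Eq.trans ?_ (hψ ⟨a, Ideal.pow_le_pow_right ((Nat.le_add_right n k).trans hm) ha⟩)
  refine Eq.trans ?_ (hg ⟨a, Ideal.pow_le_pow_right hm ha⟩)
  exact congrArg q (ConcreteCategory.congr_hom hh ⟨a, ha⟩)

theorem toDT_DT_surjective :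
    Function.Surjective (LocCoh.toDT I (ModuleCat.of R (LocCoh.DT I M))) := by
  intro w
  obtain ⟨n, f, rfl⟩ := exists_dcl (M := ModuleCat.of R (LocCoh.DT I M)) w
  obtain ⟨d, N, h, hd⟩ := exists_smul_eq f
  refine ⟨d, (toDT_eq_dcl (M := ModuleCat.of R (LocCoh.DT I M)) N d).trans (Eq.trans ?_ (dcl_res h f))⟩
  exact congrArg _ (ModuleCat.hom_ext (LinearMap.ext fun a => hd a.1 a.2))

/-- `H^1_I(D_I(M)) = 0`. -/
theorem subsingleton_h1_DT : Subsingleton ((localCohomology I 1).obj (ModuleCat.of R (LocCoh.DT I M))) := by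
  refine subsingleton_of_forall_eq 0 fun z => ?_
  obtain ⟨w, rfl⟩ := phi_surjective z
  obtain ⟨d, rfl⟩ := toDT_DT_surjective w
  exact LinearMap.mem_ker.1 (ker_phi.ge ⟨d, rfl⟩)

/-- Universal property. -/
theorem existsUnique_factor {M' : Type u} [AddCommGroup M'] [Module R M'] {M₀ : Type u} [AddCommGroup M₀]
    [Module R M₀] (e : M₀ →ₗ[R] M') (hker : LinearMap.ker e ≤ DRing.torsionSub I M₀)
    (hcoker : LocCoh.IsPowerTorsion I (M' ⧸ LinearMap.range e)) (ψ : M₀ →ₗ[R] M) :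
    ∃! ψ' : M' →ₗ[R] LocCoh.DT I M, ψ' ∘ₗ e = LocCoh.toDT I M ∘ₗ ψ := by
  have hco : ∀ y : M', ∃ n : ℕ, ∀ a ∈ I ^ n, a • y ∈ LinearMap.range e := fun y => by
    obtain ⟨n, hn⟩ := hcoker (Submodule.Quotient.mk y)
    exact ⟨n, fun a ha => by
      rw [← Submodule.Quotient.mk_eq_zero, Submodule.Quotient.mk_smul]; exact hn a ha⟩
  have hlek : LinearMap.ker e ≤ LinearMap.ker (LocCoh.toDT I M ∘ₗ ψ) := fun x hx =>
    (toDT_eq_zero_iff _).2 (DRing.map_mem_torsionSub I ψ (hker hx))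
  let θ : LinearMap.range e →ₗ[R] LocCoh.DT I M :=
    (LinearMap.ker e).liftQ (LocCoh.toDT I M ∘ₗ ψ) hlek ∘ₗ e.quotKerEquivRange.symm.toLinearMap
  have hθ : ∀ x, θ ⟨e x, x, rfl⟩ = LocCoh.toDT I M (ψ x) := fun x => by
    show (LinearMap.ker e).liftQ _ hlek (e.quotKerEquivRange.symm ⟨e x, x, rfl⟩) = _
    rw [show e.quotKerEquivRange.symm ⟨e x, x, rfl⟩ = Submodule.Quotient.mk x from
      (LinearEquiv.symm_apply_eq _).2 rfl]
    rfl
  have hex : ∀ y : M', ∃ d : LocCoh.DT I M, ∃ n : ℕ, ∀ a ∈ I ^ n,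
      ∃ x, e x = a • y ∧ a • d = LocCoh.toDT I M (ψ x) := fun y => by
    obtain ⟨n, hn⟩ := hco y
    obtain ⟨d, N, h, hd⟩ := exists_smul_eq (n := n) (ModuleCat.ofHom (θ ∘ₗ
      ((LinearMap.toSpanSingleton R M' y).domRestrict (I ^ n : Ideal R)).codRestrict
        (LinearMap.range e) fun a => hn a.1 a.2))
    refine ⟨d, N, fun a ha => ?_⟩
    obtain ⟨x, hx⟩ := hn a (Ideal.pow_le_pow_right h ha)
    refine ⟨x, hx, (hd a ha).trans ?_⟩
    rw [← hθ x]
    exact congrArg θ (Subtype.ext hx.symm)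
  choose d n hd using hex
  have hd' : ∀ y a x, a ∈ I ^ (n y) → e x = a • y → a • d y = LocCoh.toDT I M (ψ x) := fun y a x ha hx => by
    obtain ⟨x', hx', h'⟩ := hd y a ha
    rw [h', ← sub_eq_zero, ← map_sub, ← map_sub]
    exact hlek (by rw [LinearMap.mem_ker, map_sub, hx, hx', sub_self])
  let ψ' : M' →ₗ[R] LocCoh.DT I M :=
    { toFun := d
      map_add' := fun y y' => DT_ext (n (y + y') + n y + n y') fun a ha => by
        obtain ⟨x, hx, h1⟩ := hd y a (Ideal.pow_le_pow_right (by omega) ha)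
        obtain ⟨x', hx', h2⟩ := hd y' a (Ideal.pow_le_pow_right (by omega) ha)
        rw [smul_add, h1, h2, ← map_add, ← map_add]
        exact hd' _ a (x + x') (Ideal.pow_le_pow_right (by omega) ha) (by rw [map_add, hx, hx', smul_add])
      map_smul' := fun r y => DT_ext (n (r • y) + n y) fun a ha => by
        obtain ⟨x, hx, h1⟩ := hd y a (Ideal.pow_le_pow_right (by omega) ha)
        rw [RingHom.id_apply, smul_comm a r, h1, ← map_smul, ← map_smul]
        exact hd' _ a (r • x) (Ideal.pow_le_pow_right (by omega) ha) (by rw [map_smul, hx, smul_comm]) }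
  refine ⟨ψ', LinearMap.ext fun x => DT_ext (n (e x)) fun a ha => ?_, fun φ hφ => LinearMap.ext fun y => ?_⟩
  · show a • d (e x) = a • LocCoh.toDT I M (ψ x)
    rw [← map_smul, ← map_smul]
    exact hd' _ a (a • x) ha (map_smul e a x)
  · refine DT_ext (n y) fun a ha => ?_
    obtain ⟨x, hx, h1⟩ := hd y a ha
    show a • φ y = a • d y
    rw [h1, ← map_smul, ← hx]
    exact LinearMap.congr_fun hφ x

/-- The map induced on higher local cohomology is bijective. -/
theorem bijective_map_toDT (k : ℕ) : Function.Bijective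
    ((localCohomology I (k + 2)).map (ModuleCat.ofHom (LocCoh.toDT I M))).hom := by
  let q : (torSeq I M).X₃ ⟶ ModuleCat.of R (LocCoh.DT I M) :=
    ModuleCat.ofHom ((DRing.torsionSub I M).liftQ (LocCoh.toDT I M) fun x hx => (toDT_eq_zero_iff x).2 hx)
  have hq : Function.Injective q.hom := by
    rw [← LinearMap.ker_eq_bot]
    exact Submodule.ker_liftQ_eq_bot _ _ _ fun x hx => (toDT_eq_zero_iff x).1 hx
  have hfac : ModuleCat.ofHom (LocCoh.toDT I M) = (torSeq I M).g ≫ q := rfl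
  have h1 : Function.Bijective ((localCohomology I (k + 2)).map (torSeq I M).g).hom := by
    refine ⟨(injective_iff_map_eq_zero _).2 fun w hw => ?_, fun w => exact₃ (torSeq_shortExact I M) w
      ((subsingleton_of_isPowerTorsion (k + 2) (torSeq I M).X₁ (isPowerTorsion_torsionSub I M)).elim _ _)⟩
    obtain ⟨v, rfl⟩ := exact₂ (torSeq_shortExact I M) w hw
    rw [(subsingleton_of_isPowerTorsion (k + 1) (torSeq I M).X₁ (isPowerTorsion_torsionSub I M)).elim v 0]
    exact map_zero _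
  haveI : Mono q := (ModuleCat.mono_iff_injective q).2 hq
  let S : ShortComplex (ModuleCat.{u} R) := ShortComplex.mk q (cokernel.π q) (cokernel.condition q)
  have hS : S.ShortExact :=
    { exact := ShortComplex.exact_cokernel q
      mono_f := inferInstanceAs (Mono q)
      epi_g := inferInstanceAs (Epi (cokernel.π q)) }
  have hC : LocCoh.IsPowerTorsion I S.X₃ := fun y => by
    obtain ⟨y, rfl⟩ := (ModuleCat.epi_iff_surjective S.g).1 hS.epi_g y
    obtain ⟨n, hn⟩ := exists_pow_smul_mem_range (I := I) (M := M) (y : LocCoh.DT I M)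
    refine ⟨n, fun a ha => ?_⟩
    obtain ⟨x, hx⟩ := hn a ha
    rw [← map_smul, ← hx]
    exact ConcreteCategory.congr_hom (cokernel.condition q) (Submodule.Quotient.mk x)
  have h2 : Function.Bijective ((localCohomology I (k + 2)).map q).hom := by
    refine ⟨(injective_iff_map_eq_zero _).2 fun w hw => ?_, fun w => exact₂ hS w
      ((subsingleton_of_isPowerTorsion (k + 1) S.X₃ hC).elim _ _)⟩
    obtain ⟨v, rfl⟩ := exact₁ hS w hw
    rw [(subsingleton_of_isPowerTorsion k S.X₃ hC).elim v 0, map_zero]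
  rw [hfac]
  exact (congrArg (fun f => Function.Bijective (ModuleCat.Hom.hom f))
    ((localCohomology I (k + 2)).map_comp (torSeq I M).g q)).mpr (h2.comp h1)

end dcl

end Groth.Agent.LocCohLib
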